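import Groth.Agent.Lib.PBDeg17.Degree
import Groth.Agent.Lib.C1.OpClass
import Groth.Agent.Lib.C1.Ops
import Groth.Agent.Lib.CMReg.StructureRegular
import Mathlib

/-!
# Classes of cycles and the ring generated by first Chern classes
-/

set_option autoImplicit false
set_option backward.isDefEq.respectTransparency false
set_option linter.style.haveILetI false

universe u

open CategoryTheory AlgebraicGeometry TopologicalSpace
open GrothLib.C1 GrothLib.CycFlat

noncomputable section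

namespace GrothLib.PBDeg

variable {X Y : Scheme.{u}} [IsLocallyNoetherian X] [IsLocallyNoetherian Y] {δ : Y → ℤ}

open Classical in
/-- The part of a function in dimension `k`. -/
def part (δ : Y → ℤ) (k : ℤ) (a : Y → ℤ) : Y → ℤ := fun x => if δ x = k then a x else 0

theorem part_add (k : ℤ) (a b : Y → ℤ) : part δ k (a + b) = part δ k a + part δ k b := by
  funext x
  simp only [part, Pi.add_apply]
  split_ifs <;> simp

theorem part_zero (k : ℤ) : part δ k (0 : Y → ℤ) = 0 := funext fun _ => by simp [part]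

theorem part_neg (k : ℤ) (a : Y → ℤ) : part δ k (-a) = -part δ k a := by
  funext x
  simp only [part, Pi.neg_apply]
  split_ifs <;> simp

theorem part_sub (k : ℤ) (a b : Y → ℤ) : part δ k (a - b) = part δ k a - part δ k b := by
  rw [sub_eq_add_neg, part_add, part_neg, ← sub_eq_add_neg]

theorem part_supp {k : ℤ} {a : Y → ℤ} (x : Y) (h : part δ k a x ≠ 0) : δ x = k := by
  by_contra h'
  exact h (if_neg h')

theorem lf_part {a : Y → ℤ} (ha : LF a) (k : ℤ) : LF (part δ k a) := ha.mono fun x hx h => hx (by simp [part, h])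

theorem part_eq {k : ℤ} {a : Y → ℤ} (h : ∀ x, δ x ≠ k → a x = 0) : part δ k a = a := funext fun x => by
  by_cases hx : δ x = k
  · exact if_pos hx
  · exact (if_neg hx).trans (h x hx).symm

theorem part_ne {k j : ℤ} {a : Y → ℤ} (h : ∀ x, δ x ≠ k → a x = 0) (hj : j ≠ k) : part δ j a = 0 := funext fun x => by
  by_cases hx : δ x = j
  · exact (if_pos hx).trans (h x (hx ▸ hj))
  · exact if_neg hx

theorem part_c1Cap {L : Y.Modules} (a : Y → ℤ) (s : (ξ : Y) → Cyc.secFibre L ξ) (k : ℤ) :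
    part δ k (Cyc.c1CapFun δ L a s) = Cyc.c1CapFun δ L (part δ (k + 1) a) s := by
  classical
  funext x
  by_cases hx : δ x = k
  · rw [part, if_pos hx]
    refine finsum_congr fun ξ => ?_
    by_cases hξ : δ ξ = k + 1
    · rw [part, if_pos hξ]
    · rw [part, if_neg hξ, zero_mul, show Cyc.secDivFun δ L ξ (s ξ) x = 0 from dif_neg fun h => hξ (by omega), mul_zero]
  · rw [part, if_neg hx]
    exact (by_contra fun h => hx (c1Cap_mem (fun ξ hξ => part_supp ξ hξ) s (Ne.symm h)))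

variable (Y) in
/-- Locally finite functions. -/
def lfSub : AddSubgroup (Y → ℤ) where
  carrier := {a | LF a}
  zero_mem' := fun _ => ⟨⊤, trivial, Set.finite_empty.subset fun y hy => hy.2 rfl⟩
  add_mem' := fun {a b} ha hb => by
    have h := LF.of_cycle (toCycle a ha + toCycle b hb)
    rwa [Function.locallyFinsuppWithin.coe_add] at h
  neg_mem' := fun {a} ha => ha.mono fun y hy => by simpa using hy

/-- Functions rationally equivalent to zero in every dimension. -/
def clsRel (hδ : Cyc.IsDimFun Y δ) : AddSubgroup (lfSub Y) where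
  carrier := {a | ∀ k, RZ δ k (part δ k a.1)}
  zero_mem' := fun k => (RZ.zero hδ k).congr fun x => by simp [part]
  add_mem' := fun {a b} ha hb k => ((ha k).add hδ (hb k)).congr fun x => congrFun (part_add k a.1 b.1) x
  neg_mem' := fun {a} ha k => ((ha k).neg hδ).congr fun x => congrFun (part_neg k a.1) x

/-- All cycles modulo rational equivalence, in all dimensions at once. -/
abbrev Cls (hδ : Cyc.IsDimFun Y δ) : Type u := ↥(lfSub Y) ⧸ clsRel hδ

/-- The class of a cycle. -/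
def cls' (hδ : Cyc.IsDimFun Y δ) : AlgebraicCycle Y ℤ →+ Cls hδ where
  toFun α := QuotientAddGroup.mk' (clsRel hδ) ⟨⇑α, LF.of_cycle α⟩
  map_zero' := by
    rw [← map_zero (QuotientAddGroup.mk' (clsRel hδ))]
    rfl
  map_add' α β := by
    rw [← map_add]
    congr 1

theorem cls'_eq_mk (hδ : Cyc.IsDimFun Y δ) (a : lfSub Y) :
    (QuotientAddGroup.mk' (clsRel hδ) a : Cls hδ) = cls' hδ (toCycle a.1 a.2) := rfl

theorem cls'_surjective (hδ : Cyc.IsDimFun Y δ) : Function.Surjective (cls' hδ) := fun z => by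
  obtain ⟨a, rfl⟩ := QuotientAddGroup.mk'_surjective (clsRel hδ) z
  exact ⟨toCycle a.1 a.2, (cls'_eq_mk hδ a).symm⟩

theorem cls'_eq_zero_iff (hδ : Cyc.IsDimFun Y δ) (α : AlgebraicCycle Y ℤ) :
    cls' hδ α = 0 ↔ ∀ k, RZ δ k (part δ k ⇑α) :=
  QuotientAddGroup.eq_zero_iff _

theorem cls'_eq_iff (hδ : Cyc.IsDimFun Y δ) {k : ℤ} {α β : AlgebraicCycle Y ℤ} (hα : α ∈ Cyc.Zk Y δ k)
    (hβ : β ∈ Cyc.Zk Y δ k) : cls' hδ α = cls' hδ β ↔ Cyc.RatEquiv δ k α β := by
  rw [← sub_eq_zero, ← map_sub, cls'_eq_zero_iff]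
  have hz : ∀ x, δ x ≠ k → (α - β) x = 0 := fun x hx => by
    rw [Function.locallyFinsuppWithin.coe_sub, Pi.sub_apply, hα x hx, hβ x hx, sub_zero]
  refine ⟨fun h => ?_, fun h j => ?_⟩
  · have h' := h k
    rw [part_eq hz] at h'
    exact RZ.to_ratEquivZero hδ h'
  · rcases eq_or_ne j k with rfl | hj
    · rw [part_eq hz]
      exact RZ.of_ratEquivZero hδ h
    · rw [part_ne hz hj]
      exact RZ.zero hδ j

section C1

variable (hδ : Cyc.IsDimFun Y δ) {L : Y.Modules} (hL : PicF.IsInvertible L)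

/-- Capping with a section. -/
def capCyc {s : (ξ : Y) → Cyc.secFibre L ξ} (hs : ∀ ξ, s ξ ≠ 0) : AlgebraicCycle Y ℤ →+ AlgebraicCycle Y ℤ :=
  AddMonoidHom.mk' (fun α => toCycle _ (lf_c1Cap hδ hL (LF.of_cycle α) hs)) fun α β => by
    ext y
    show Cyc.c1CapFun δ L ⇑(α + β) s y = Cyc.c1CapFun δ L ⇑α s y + Cyc.c1CapFun δ L ⇑β s y
    rw [Function.locallyFinsuppWithin.coe_add, Bivar.c1CapFun_add, Pi.add_apply]

/-- The first Chern class as an endomorphism of the classes. -/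
def c1E : AddMonoid.End (Cls hδ) :=
  QuotientAddGroup.lift _
    (((cls' hδ).comp (capCyc hδ hL (exists_sec hL).choose_spec)).comp
      (AddMonoidHom.mk' (fun a : lfSub Y => toCycle a.1 a.2) fun a b => DFunLike.coe_injective
        (Function.locallyFinsuppWithin.coe_add (toCycle a.1 a.2) (toCycle b.1 b.2)).symm))
    fun a ha => by
      show cls' hδ (capCyc hδ hL (exists_sec hL).choose_spec (toCycle a.1 a.2)) = 0
      rw [cls'_eq_zero_iff]
      intro k
      show RZ δ k (part δ k (Cyc.c1CapFun δ L a.1 _))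
      rw [part_c1Cap]
      exact rz_c1Cap hδ hL (ha (k + 1)) (exists_sec hL).choose_spec

theorem c1E_cls {s : (ξ : Y) → Cyc.secFibre L ξ} (hs : ∀ ξ, s ξ ≠ 0) (α : AlgebraicCycle Y ℤ)
    {γ : AlgebraicCycle Y ℤ} (hγ : ⇑γ = Cyc.c1CapFun δ L ⇑α s) : c1E hδ hL (cls' hδ α) = cls' hδ γ := by
  show cls' hδ (capCyc hδ hL (exists_sec hL).choose_spec (toCycle ⇑α (LF.of_cycle α))) = cls' hδ γ
  rw [← sub_eq_zero, ← map_sub, cls'_eq_zero_iff]
  intro k
  rw [Function.locallyFinsuppWithin.coe_sub, part_sub, hγ]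
  show RZ δ k (part δ k (Cyc.c1CapFun δ L ⇑α _) - part δ k (Cyc.c1CapFun δ L ⇑α s))
  rw [part_c1Cap, part_c1Cap]
  exact rz_change hδ hL (lf_part (LF.of_cycle α) _) (fun ξ hξ => part_supp ξ hξ) (exists_sec hL).choose_spec hs

theorem c1E_comm {N : Y.Modules} (hN : PicF.IsInvertible N) : c1E hδ hL * c1E hδ hN = c1E hδ hN * c1E hδ hL := by
  ext z
  obtain ⟨α, rfl⟩ := cls'_surjective hδ z
  obtain ⟨s, hs⟩ := exists_sec hL
  obtain ⟨t, ht⟩ := exists_sec hN
  show c1E hδ hL (c1E hδ hN (cls' hδ α)) = c1E hδ hN (c1E hδ hL (cls' hδ α))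
  rw [c1E_cls hδ hN ht α (γ := toCycle _ (lf_c1Cap hδ hN (LF.of_cycle α) ht)) rfl,
    c1E_cls hδ hL hs α (γ := toCycle _ (lf_c1Cap hδ hL (LF.of_cycle α) hs)) rfl,
    c1E_cls hδ hL hs _ (γ := toCycle _ (lf_c1Cap hδ hL (lf_c1Cap hδ hN (LF.of_cycle α) ht) hs)) rfl,
    c1E_cls hδ hN ht _ (γ := toCycle _ (lf_c1Cap hδ hN (lf_c1Cap hδ hL (LF.of_cycle α) hs) ht)) rfl,
    ← sub_eq_zero, ← map_sub, cls'_eq_zero_iff]
  intro k
  rw [Function.locallyFinsuppWithin.coe_sub, part_sub]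
  show RZ δ k (part δ k (Cyc.c1CapFun δ L (Cyc.c1CapFun δ N ⇑α t) s) -
    part δ k (Cyc.c1CapFun δ N (Cyc.c1CapFun δ L ⇑α s) t))
  rw [part_c1Cap, part_c1Cap, part_c1Cap, part_c1Cap]
  exact rz_c1Cap_comm hδ hL hN (lf_part (LF.of_cycle α) _)
    (fun ξ hξ => by rw [part_supp ξ hξ]; ring) hs hs ht ht

theorem c1E_iso {M : Y.Modules} (hM : PicF.IsInvertible M) (e : L ≅ M) : c1E hδ hL = c1E hδ hM := by
  ext z
  obtain ⟨α, rfl⟩ := cls'_surjective hδ z
  obtain ⟨s, hs⟩ := exists_sec hL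
  rw [c1E_cls hδ hL hs α (γ := toCycle _ (lf_c1Cap hδ hL (LF.of_cycle α) hs)) rfl]
  exact (c1E_cls hδ hM (s := fun ξ => isoFib e ξ (s ξ)) (fun ξ => isoFib_ne_zero e hL (hs ξ)) α
    (c1Cap_iso e hδ hL hM ⇑α s).symm).symm

theorem c1E_tensor {N : Y.Modules} (hN : PicF.IsInvertible N) :
    c1E hδ (Ample.isInvertible_tensorMod hL hN) = c1E hδ hL + c1E hδ hN := by
  ext z
  obtain ⟨α, rfl⟩ := cls'_surjective hδ z
  obtain ⟨s, hs⟩ := exists_sec hL
  obtain ⟨t, ht⟩ := exists_sec hN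
  obtain ⟨w, hw⟩ := exists_sec (Ample.isInvertible_tensorMod hL hN)
  show c1E hδ _ (cls' hδ α) = c1E hδ hL (cls' hδ α) + c1E hδ hN (cls' hδ α)
  rw [c1E_cls hδ _ hw α (γ := toCycle _ (lf_c1Cap hδ (Ample.isInvertible_tensorMod hL hN) (LF.of_cycle α) hw)) rfl,
    c1E_cls hδ hL hs α (γ := toCycle _ (lf_c1Cap hδ hL (LF.of_cycle α) hs)) rfl,
    c1E_cls hδ hN ht α (γ := toCycle _ (lf_c1Cap hδ hN (LF.of_cycle α) ht)) rfl,
    eq_comm, ← sub_eq_zero, ← map_add, ← map_sub, cls'_eq_zero_iff]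
  intro k
  rw [Function.locallyFinsuppWithin.coe_sub, Function.locallyFinsuppWithin.coe_add, part_sub, part_add]
  show RZ δ k (part δ k (Cyc.c1CapFun δ L ⇑α s) + part δ k (Cyc.c1CapFun δ N ⇑α t) -
    part δ k (Cyc.c1CapFun δ (CohB1.tensorMod L N) ⇑α w))
  rw [part_c1Cap, part_c1Cap, part_c1Cap]
  exact rz_c1Cap_tensor hδ hL hN (lf_part (LF.of_cycle α) _) (fun ξ hξ => part_supp ξ hξ) hs ht hw

end C1

section Ring

variable (hδ : Cyc.IsDimFun Y δ)

/-- The first Chern class endomorphisms. -/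
def c1Set : Set (AddMonoid.End (Cls hδ)) :=
  {f | ∃ (L : Y.Modules) (hL : PicF.IsInvertible L), f = c1E hδ hL}

/-- The ring of operators they generate. -/
abbrev C1Ring : Type u := ↥(Subring.closure (c1Set hδ))

instance : CommRing (C1Ring hδ) :=
  Subring.closureCommRingOfComm fun _ ⟨_, hL, ha⟩ _ ⟨_, hN, hb⟩ => by rw [ha, hb]; exact c1E_comm hδ hL hN

/-- The first Chern class in this ring. -/
def c1R {L : Y.Modules} (hL : PicF.IsInvertible L) : C1Ring hδ := ⟨c1E hδ hL, Subring.subset_closure ⟨L, hL, rfl⟩⟩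

/-- The action on classes. -/
def act : C1Ring hδ →+* AddMonoid.End (Cls hδ) := (Subring.closure (c1Set hδ)).subtype

theorem act_c1R {L : Y.Modules} (hL : PicF.IsInvertible L) : act hδ (c1R hδ hL) = c1E hδ hL := rfl

theorem act_mul (b b' : C1Ring hδ) (z : Cls hδ) : act hδ (b * b') z = act hδ b (act hδ b' z) := rfl

theorem c1R_iso {L M : Y.Modules} (hL : PicF.IsInvertible L) (hM : PicF.IsInvertible M) (e : L ≅ M) :
    c1R hδ hL = c1R hδ hM := Subtype.ext (c1E_iso hδ hL hM e)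

theorem c1R_tensor {L N : Y.Modules} (hL : PicF.IsInvertible L) (hN : PicF.IsInvertible N) :
    c1R hδ (Ample.isInvertible_tensorMod hL hN) = c1R hδ hL + c1R hδ hN := Subtype.ext (c1E_tensor hδ hL hN)

theorem c1R_structure {L : Y.Modules} (hL : PicF.IsInvertible L) (e : L ≅ Coh.structureModule Y) :
    c1R hδ hL = 0 := by
  have hO : PicF.IsInvertible (Coh.structureModule Y) := Euler.isInvertible_structure
  obtain ⟨eO⟩ := CMReg.nonempty_tensorMod_structure (Coh.structureModule Y)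
  have h := c1R_tensor hδ hO hO
  rw [c1R_iso hδ _ hO eO] at h
  rw [c1R_iso hδ hL hO e]
  exact left_eq_add.1 h

end Ring

section Pull

variable {δX : X → ℤ} (f : X ⟶ Y) [Flat f] (hX : Cyc.IsDimFun X δX) (hY : Cyc.IsDimFun Y δ) {c : ℤ}
  (hc : ∀ x, MaxFib f x → δX x = δ (f x) + c)

theorem part_pullFun (a : Y → ℤ) (k : ℤ) :
    part δX k (Cyc.pullFun f δX δ c a) = Cyc.pullFun f δX δ c (part δ (k - c) a) := by
  funext x
  rw [part, pullFun_apply, pullFun_apply]
  by_cases hm : δX x = δ (f x) + c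
  · rw [if_pos hm, if_pos hm, part]
    by_cases hk : δX x = k
    · rw [if_pos hk, if_pos (show δ (f x) = k - c by omega)]
    · rw [if_neg hk, if_neg (show ¬ δ (f x) = k - c by omega), zero_mul]
  · rw [if_neg hm, if_neg hm, ite_self]

/-- Flat pullback of cycles. -/
def pullCyc : AlgebraicCycle Y ℤ →+ AlgebraicCycle X ℤ :=
  AddMonoidHom.mk' (fun α => toCycle _ (lf_pullFun f hX hc (LF.of_cycle α))) fun α β => by
    ext x
    show Cyc.pullFun f δX δ c ⇑(α + β) x = Cyc.pullFun f δX δ c ⇑α x + Cyc.pullFun f δX δ c ⇑β x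
    rw [Function.locallyFinsuppWithin.coe_add]
    simp only [pullFun_apply, Pi.add_apply]
    split_ifs <;> ring

/-- Flat pullback of classes. -/
def pullCls : Cls hY →+ Cls hX :=
  QuotientAddGroup.lift _
    (((cls' hX).comp (pullCyc f hX hc)).comp
      (AddMonoidHom.mk' (fun a : lfSub Y => toCycle a.1 a.2) fun a b => DFunLike.coe_injective
        (Function.locallyFinsuppWithin.coe_add (toCycle a.1 a.2) (toCycle b.1 b.2)).symm))
    fun a ha => by
      show cls' hX (pullCyc f hX hc (toCycle a.1 a.2)) = 0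
      rw [cls'_eq_zero_iff]
      intro k
      show RZ δX k (part δX k (Cyc.pullFun f δX δ c a.1))
      rw [part_pullFun f]
      have h := CycDiv.ratEquivZero_pullFun f hX hY hc (k - c) (toCycle _ (lf_part a.2 (k - c)))
        (RZ.to_ratEquivZero hY (ha (k - c))) (toCycle _ (lf_pullFun f hX hc (lf_part a.2 (k - c)))) rfl
      rw [sub_add_cancel] at h
      exact RZ.of_ratEquivZero hX h

theorem pullCls_cls (α : AlgebraicCycle Y ℤ) {β : AlgebraicCycle X ℤ} (hβ : ⇑β = Cyc.pullFun f δX δ c ⇑α) :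
    pullCls f hX hY hc (cls' hY α) = cls' hX β :=
  congrArg (cls' hX) (DFunLike.coe_injective (hβ.symm ▸ rfl))

theorem pullCls_c1E {L : Y.Modules} (hL : PicF.IsInvertible L) (z : Cls hY) :
    pullCls f hX hY hc (c1E hY hL z) = c1E hX (isInvertible_pullback f hL) (pullCls f hX hY hc z) := by
  obtain ⟨α, rfl⟩ := cls'_surjective hY z
  obtain ⟨v, hv⟩ := exists_sec hL
  rw [c1E_cls hY hL hv α (γ := toCycle _ (lf_c1Cap hY hL (LF.of_cycle α) hv)) rfl,
    pullCls_cls f hX hY hc α (β := pullCyc f hX hc α) rfl,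
    pullCls_cls f hX hY hc (toCycle _ (lf_c1Cap hY hL (LF.of_cycle α) hv))
      (β := toCycle _ (lf_pullFun f hX hc (lf_c1Cap hY hL (LF.of_cycle α) hv))) rfl]
  exact (c1E_cls hX _ (s := pullChoice f hL v) (fun ξ => pullFib_ne_zero f hL (hv _)) (pullCyc f hX hc α)
    (funext (c1Cap_pullFun f hL hX hY hc (LF.of_cycle α) hv))).symm

end Pull

end GrothLib.PBDeg
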