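import Groth.Agent.Lib.PBDeg17.BivBase
import Groth.Agent.Lib.PBDeg17.ChowCls
import Groth.Agent.Lib.CycBasic.Push

/-!
# The Gysin class
-/

set_option autoImplicit false
set_option backward.isDefEq.respectTransparency false
set_option linter.style.haveILetI false

universe u

open CategoryTheory CategoryTheory.Limits AlgebraicGeometry
open GrothLib GrothLib.C1 GrothLib.CycFlat GrothLib.Ref1

noncomputable section

namespace GrothLib.PBDeg

/-- The image of a global section under an isomorphism. -/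
def isoSec {X : Scheme.{u}} {L M : X.Modules} (e : L ≅ M) (s : L.presheaf.obj (Opposite.op ⊤)) :
    M.presheaf.obj (Opposite.op ⊤) :=
  e.hom.app ⊤ s

theorem germ_isoSec {X : Scheme.{u}} {L M : X.Modules} (e : L ≅ M) (s : L.presheaf.obj (Opposite.op ⊤)) (x : X) :
    (M.presheaf.germ ⊤ x trivial) (isoSec e s) = RefHull.stalkMapₗ e.hom x ((L.presheaf.germ ⊤ x trivial) s) :=
  (RefHull.stalkMapₗ_germ _ _ _ _).symm

theorem gcls_isoSec {X : Scheme.{u}} {L M : X.Modules} (e : L ≅ M) (s : L.presheaf.obj (Opposite.op ⊤)) (x : X) :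
    gcls (isoSec e s) x = isoFib e x (gcls s x) := by
  rw [gcls, gcls, isoFib_cls, germ_isoSec]

theorem gcls_isoSec_eq_zero {X : Scheme.{u}} {L M : X.Modules} (e : L ≅ M) (hL : PicF.IsInvertible L)
    (s : L.presheaf.obj (Opposite.op ⊤)) (x : X) : gcls (isoSec e s) x = 0 ↔ gcls s x = 0 := by
  rw [gcls_isoSec]
  exact ⟨fun h => by_contra fun hne => isoFib_ne_zero e hL hne h, fun h => by rw [h, map_zero]⟩

theorem gysinChoice_iso {X : Scheme.{u}} {L M : X.Modules} (e : L ≅ M) (hL : PicF.IsInvertible L)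
    (s : L.presheaf.obj (Opposite.op ⊤)) (w : (ξ : X) → Cyc.secFibre L ξ) :
    (fun x => isoFib e x (Cyc.gysinChoice L s w x)) =
      Cyc.gysinChoice M (isoSec e s) (fun x => isoFib e x (w x)) := funext fun x => by
  by_cases h : gcls s x = 0
  · rw [gysinChoice_neg w h, gysinChoice_neg _ ((gcls_isoSec_eq_zero e hL s x).2 h)]
  · rw [gysinChoice_pos w h, gysinChoice_pos _ fun h' => h ((gcls_isoSec_eq_zero e hL s x).1 h'), gcls_isoSec]

theorem isZeroSchemeOf_iso {X D : Scheme.{u}} {L M : X.Modules} (e : L ≅ M) (hL : PicF.IsInvertible L) {i : D ⟶ X}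
    {s : L.presheaf.obj (Opposite.op ⊤)} (h : Cyc.IsZeroSchemeOf i L s) :
    Cyc.IsZeroSchemeOf i M (isoSec e s) := by
  refine ⟨?_, fun d => ?_⟩
  · ext x
    rw [C1.mem_range_iff i h]
    exact (gcls_isoSec_eq_zero e hL s x).symm
  · obtain ⟨t, f, ht, hst, hker⟩ := h.2 d
    refine ⟨RefHull.stalkMapₗ e.hom (i d) t, f, (gen_iso (e := e) (gen_of_span hL ht)).span, ?_, hker⟩
    rw [germ_isoSec, hst, map_smul]

theorem map_restrict {D S : Scheme.{u}} (i : D ⟶ S) [IsClosedImmersion i] {δS : S → ℤ} {δD : D → ℤ}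
    (hδ : δD = fun d => δS (i d)) {a : S → ℤ} (ha : ∀ x, a x ≠ 0 → x ∈ Set.range i) (β : AlgebraicCycle D ℤ)
    (hβ : ∀ d, β d = a (i d)) : ⇑(AlgebraicCycle.map i δD δS β) = a := funext fun x => by
  subst hδ
  by_cases hx : x ∈ Set.range i
  · obtain ⟨e, rfl⟩ := hx
    rw [map_on, hβ]
  · rw [map_zero_off i inferInstance _ hx]
    exact (by_contra fun h => hx (ha x (Ne.symm h)))

/-- The Gysin homomorphism of a zero scheme. -/
theorem exists_gysinHom {Y D : Scheme.{u}} [IsLocallyNoetherian Y] {δ : Y → ℤ} (hδ : Cyc.IsDimFun Y δ)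
    {i : D ⟶ Y} [IsClosedImmersion i] {δD : D → ℤ} (hδD : δD = fun d => δ (i d)) {N : Y.Modules}
    (hN : PicF.IsInvertible N) {τ₀ : N.presheaf.obj (Opposite.op ⊤)} (hτ₀ : Cyc.IsZeroSchemeOf i N τ₀) (k : ℤ) :
    ∃ φ : ChowOps.CH Y δ k →+ ChowOps.CH D δD (k - 1),
      ∀ (α : AlgebraicCycle Y ℤ) (hα : α ∈ Cyc.Zk Y δ k) (τ : N.presheaf.obj (Opposite.op ⊤))
        (_ : Cyc.IsZeroSchemeOf i N τ) (w : (ξ : Y) → Cyc.secFibre N ξ) (_ : ∀ ξ, w ξ ≠ 0)
        (γ : AlgebraicCycle D ℤ) (_ : ∀ d, γ d = Cyc.c1CapFun δ N ⇑α (Cyc.gysinChoice N τ w) (i d))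
        (hγ : γ ∈ Cyc.Zk D δD (k - 1)), φ (ChowOps.cl α hα) = ChowOps.cl γ hγ := by
  subst hδD
  haveI : IsLocallyNoetherian D := LocallyOfFiniteType.isLocallyNoetherian i
  have hdimD : Cyc.IsDimFun D (fun d => δ (i d)) := CycPush.isDimFun_closedImmersion i hδ
  obtain ⟨w₀, hw₀⟩ := C1.exists_sec hN
  have hg := gysinChoice_ne_zero (s := τ₀) hw₀
  let F : AlgebraicCycle Y ℤ → AlgebraicCycle D ℤ := fun a =>
    toCycle _ (lf_comp i (lf_c1Cap hδ hN (LF.of_cycle a) hg))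
  obtain ⟨φ, hφ⟩ := exists_chHom hdimD (δ := δ) (k := k) (l := k - 1) F
    (fun a ha d hd => by
      show Cyc.c1CapFun δ N ⇑a _ (i d) = 0
      by_contra h
      exact hd (c1Cap_mem (fun ξ hξ => by rw [zk_supp ha ξ hξ]; ring) _ h))
    (fun a b _ _ => by
      ext d
      show Cyc.c1CapFun δ N ⇑(a + b) _ (i d) = Cyc.c1CapFun δ N ⇑a _ (i d) + Cyc.c1CapFun δ N ⇑b _ (i d)
      rw [Function.locallyFinsuppWithin.coe_add, Bivar.c1CapFun_add, Pi.add_apply])
    (fun a _ ha => by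
      have h := RZ.of_ratEquivZero hδ ha
      rw [show k = k - 1 + 1 by ring] at h
      exact rz_gysin i hδ hN hτ₀ h hw₀)
  refine ⟨φ, fun α hα τ hτ w hw γ hγc hγ => (hφ α hα).trans (cl_eq_of_ratEquiv _ hγ ?_)⟩
  refine ratEquiv_of_RZ hdimD (rz_gysin_change i hδ hN hτ₀ hτ (LF.of_cycle α) (k := k - 1)
    (fun ξ hξ => by rw [zk_supp hα ξ hξ]; ring) hw₀ hw) fun d => ?_
  show F α d - γ d = _
  rw [hγc]
  rfl

variable {D X : Scheme.{u}} {i : D ⟶ X} {δD : D → ℤ} {δX : X → ℤ}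

theorem exists_isGysinClass (hD : Cyc.IsSetup D δD) (hX : Cyc.IsSetup X δX) [IsClosedImmersion i]
    (hδ : Cyc.DeltaCompat i δD δX) {L : X.Modules} (hL : PicF.IsInvertible L) {σ : L.presheaf.obj (Opposite.op ⊤)}
    (hσ : Cyc.IsZeroSchemeOf i L σ) : ∃ c : Bivar.Cl 1 i δD δX, Bivar.IsGysinClass i L σ c := by
  have hci : ∀ s : Bivar.Sq i δD δX, IsClosedImmersion s.f' := fun s =>
    MorphismProperty.of_isPullback s.isPullback.flip inferInstance
  have hδs : ∀ s : Bivar.Sq i δD δX, s.δX' = fun d => s.δY' (s.f' d) := fun s =>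
    haveI := hci s
    delta_closed (sq_compat hδ s)
  let Lp : (s : Bivar.Sq i δD δX) → s.Y'.Modules := fun s => (Scheme.Modules.pullback s.g).obj L
  have hLp : ∀ s, PicF.IsInvertible (Lp s) := fun s => C1.isInvertible_pullback s.g hL
  let τ₀ : (s : Bivar.Sq i δD δX) → (Lp s).presheaf.obj (Opposite.op ⊤) := fun s => pullSec s.g L σ
  have hτ₀ : ∀ s, Cyc.IsZeroSchemeOf s.f' (Lp s) (τ₀ s) := fun s =>
    isZeroSchemeOf_of_isPullback s.isPullback.flip hL hσ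
  choose φ hφ using fun s k =>
    haveI := hci s
    haveI := (sq_setupY hX s).1
    exists_gysinHom (sq_setupY hX s).2.2 (hδs s) (hLp s) (hτ₀ s) k
  choose w₀ hw₀ using fun s => C1.exists_sec (hLp s)
  let g : (s : Bivar.Sq i δD δX) → (ξ : s.Y') → Cyc.secFibre (Lp s) ξ := fun s =>
    Cyc.gysinChoice (Lp s) (τ₀ s) (w₀ s)
  have hg : ∀ s ξ, g s ξ ≠ 0 := fun s => gysinChoice_ne_zero (hw₀ s)
  have hsupp : ∀ (s : Bivar.Sq i δD δX) (a : s.Y' → ℤ) (x : s.Y'),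
      Cyc.c1CapFun s.δY' (Lp s) a (g s) x ≠ 0 → x ∈ Set.range s.f' := fun s a x hx =>
    haveI := hci s
    haveI := (sq_setupY hX s).1
    gysin_supp s.f' (sq_setupY hX s).2.2 (hLp s) (hτ₀ s) _ hx
  -- the operation on the source of a morphism of squares
  have hop : ∀ (s t : Bivar.Sq i δD δX) (h : t.Y' ⟶ s.Y') (h' : t.X' ⟶ s.X') (_ : h ≫ s.g = t.g)
      (_ : h' ≫ s.f' = t.f' ≫ h) (_ : h' ≫ s.g' = t.g') (k : ℤ) (α : AlgebraicCycle t.Y' ℤ)
      (hα : α ∈ Cyc.Zk t.Y' t.δY' k) (γ : AlgebraicCycle t.X' ℤ)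
      (_ : ∀ d, γ d = Cyc.c1CapFun t.δY' ((Scheme.Modules.pullback h).obj (Lp s)) ⇑α
        (pullChoice h (hLp s) (g s)) (t.f' d))
      (hγ : γ ∈ Cyc.Zk t.X' t.δX' (k - 1)), φ t k (ChowOps.cl α hα) = ChowOps.cl γ hγ := by
    intro s t h h' w₁ w₂ w₃ k α hα γ hγc hγ
    haveI := hci s
    haveI := hci t
    haveI := (sq_setupY hX t).1
    let e : (Scheme.Modules.pullback h).obj (Lp s) ≅ Lp t :=
      (Scheme.Modules.pullbackComp h s.g).app L ≪≫ (Scheme.Modules.pullbackCongr w₁).app L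
    have hN := C1.isInvertible_pullback h (hLp s)
    have hz := isZeroSchemeOf_of_isPullback (sq_isPullback w₁ w₂ w₃) (hLp s) (hτ₀ s)
    let v := fun ξ => isoFib e ξ (pullChoice h (hLp s) (w₀ s) ξ)
    have hv : ∀ ξ, v ξ ≠ 0 := fun ξ => isoFib_ne_zero _ hN (pullFib_ne_zero h (hLp s) (hw₀ s _))
    refine hφ t k α hα _ (isZeroSchemeOf_iso e hN hz) v hv γ (fun d => ?_) hγ
    rw [hγc]
    show _ = Cyc.c1CapFun t.δY' (Lp t) ⇑α
      (Cyc.gysinChoice (Lp t) _ (fun ξ => isoFib e ξ (pullChoice h (hLp s) (w₀ s) ξ))) _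
    rw [← gysinChoice_iso e hN, c1Cap_iso e (sq_setupY hX t).2.2 hN (hLp t),
      show pullChoice h (hLp s) (g s) = Cyc.gysinChoice _ (pullSec h (Lp s) (τ₀ s)) (pullChoice h (hLp s) (w₀ s)) from
        funext fun y => gysinChoice_pullback h (hLp s) (w₀ s) y]
  refine ⟨{ op := φ, push := ?_, pull := ?_, gysin := ?_ }, hL, hσ, hδ,
    fun s τ hτ k α hα w hw γ hγc hγ => hφ s k α hα τ hτ w hw γ hγc hγ⟩
  · intro s t h _ h' _ w₁ w₂ w₃ k α hα
    haveI := hci s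
    haveI := hci t
    haveI := (sq_setupY hX s).1
    haveI := (sq_setupY hX t).1
    have hdt := (sq_setupY hX t).2.2
    have hN := C1.isInvertible_pullback h (hLp s)
    let g' := pullChoice h (hLp s) (g s)
    have hg' : ∀ ξ, g' ξ ≠ 0 := fun ξ => pullFib_ne_zero h (hLp s) (hg s _)
    have hlf := lf_c1Cap hdt hN (LF.of_cycle α) hg'
    let β : AlgebraicCycle t.X' ℤ := toCycle _ (lf_comp t.f' hlf)
    have hβ : β ∈ Cyc.Zk t.X' t.δX' (k - 1) := fun d hd => by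
      show Cyc.c1CapFun t.δY' _ ⇑α g' (t.f' d) = 0
      by_contra h'
      rw [hδs t] at hd
      exact hd (c1Cap_mem (fun ξ hξ => by rw [zk_supp hα ξ hξ]; ring) _ h')
    refine ⟨β, hβ, hop s t h h' w₁ w₂ w₃ k α hα β (fun _ => rfl) hβ, ?_⟩
    refine hφ s k _ _ (τ₀ s) (hτ₀ s) (w₀ s) (hw₀ s) _ (fun d => ?_) _
    have hz := isZeroSchemeOf_of_isPullback (sq_isPullback w₁ w₂ w₃) (hLp s) (hτ₀ s)
    have hgN : g' = Cyc.gysinChoice _ (pullSec h (Lp s) (τ₀ s)) (pullChoice h (hLp s) (w₀ s)) :=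
      funext fun y => gysinChoice_pullback h (hLp s) (w₀ s) y
    have hfull : AlgebraicCycle.map t.f' t.δX' t.δY' β = toCycle _ hlf :=
      DFunLike.coe_injective (map_restrict t.f' (hδs t)
        (fun x hx => by
          replace hx : Cyc.c1CapFun t.δY' _ ⇑α g' x ≠ 0 := hx
          rw [hgN] at hx
          exact gysin_supp t.f' hdt hN hz _ hx) β fun _ => rfl)
    have hm := map_c1Cap_pull h (hLp s) hdt (sq_setupY hX s).2.2 (sq_compat_hom w₁) α (hg s) (toCycle _ hlf) rfl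
    rw [← hfull, CycBasic.map_map t.f' h _ _ _ (sq_compat hδ t) (sq_compat_hom w₁), ← C1.map_congr w₂,
      ← CycBasic.map_map h' s.f' _ _ _ (sq_compat_hom' w₃) (sq_compat hδ s)] at hm
    have hd := congrFun hm (s.f' d)
    rw [hδs s] at hd
    rw [map_on] at hd
    rw [hδs s]
    exact hd
  · intro s t h _ h' _ n hn hn' w₁ w₂ w₃ k α hα
    haveI := hci s
    haveI := hci t
    haveI := (sq_setupY hX s).1
    haveI := (sq_setupY hX t).1
    haveI := (sq_setupX hD t).1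
    haveI := sq_lft_hom w₁
    haveI := sq_lft_hom' w₃
    have hds := (sq_setupY hX s).2.2
    have hdt := (sq_setupY hX t).2.2
    have hs : ∀ x, MaxFib h x → t.δY' x = s.δY' (h x) + (n : ℤ) := shift_of_hasRelDim h hn (sq_compat_hom w₁)
    have hs' : ∀ x, MaxFib h' x → t.δX' x = s.δX' (h' x) + (n : ℤ) := shift_of_hasRelDim h' hn' (sq_compat_hom' w₃)
    have hlf := lf_c1Cap hds (hLp s) (LF.of_cycle α) (hg s)
    let β : AlgebraicCycle s.X' ℤ := toCycle _ (lf_comp s.f' hlf)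
    have hβ : β ∈ Cyc.Zk s.X' s.δX' (k - 1) := fun d hd => by
      show Cyc.c1CapFun s.δY' _ ⇑α (g s) (s.f' d) = 0
      by_contra h'
      rw [hδs s] at hd
      exact hd (c1Cap_mem (fun ξ hξ => by rw [zk_supp hα ξ hξ]; ring) _ h')
    refine ⟨β, hβ, hφ s k α hα (τ₀ s) (hτ₀ s) (w₀ s) (hw₀ s) β (fun _ => rfl) hβ, fun α₁ hα₁c hα₁ => ?_⟩
    let β₁ := pullCyc h' (sq_setupX hD t).2.2 hs' β
    have hβ₁ : β₁ ∈ Cyc.Zk t.X' t.δX' (k + n - 1) := by
      have := Bivar.pullFun_mem_Zk h' t.δX' s.δX' n (k - 1) hβ β₁ rfl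
      rwa [show k + (n : ℤ) - 1 = k - 1 + n by ring]
    refine ⟨β₁, hβ₁, rfl, hop s t h h' w₁ w₂ w₃ (k + n) α₁ hα₁ β₁ (fun d => ?_) hβ₁⟩
    have hb := BasePush.pullFun_map (sq_isPullback w₁ w₂ w₃).flip hdt (sq_compat hδ s) (sq_compat hδ t) hs β β₁ rfl
    rw [map_restrict s.f' (hδs s) (hsupp s ⇑α) β fun _ => rfl] at hb
    have hd := congrFun hb (t.f' d)
    rw [hδs t, map_on] at hd
    rw [← hd, hα₁c]
    exact c1Cap_pullFun h (hLp s) hdt hds hs (LF.of_cycle α) (hg s) (t.f' d)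
  · intro s t ι _ j _ w₁ w₂ w₃ M hM ρ hρ τ hτ k α hα
    haveI := hci s
    haveI := hci t
    haveI := (sq_setupY hX s).1
    haveI := (sq_setupX hD s).1
    haveI := (sq_setupY hX t).1
    haveI := (sq_setupX hD t).1
    have hds := (sq_setupY hX s).2.2
    have hdtY := delta_closed (sq_compat_hom w₁)
    have hdtX := delta_closed (sq_compat_hom' w₃)
    have hsq := sq_isPullback w₁ w₂ w₃
    have hMN := C1.isInvertible_pullback s.f' hM
    have hlf := lf_c1Cap hds (hLp s) (LF.of_cycle α) (hg s)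
    let β : AlgebraicCycle s.X' ℤ := toCycle _ (lf_comp s.f' hlf)
    have hβ : β ∈ Cyc.Zk s.X' s.δX' (k - 1) := fun d hd => by
      show Cyc.c1CapFun s.δY' _ ⇑α (g s) (s.f' d) = 0
      by_contra h'
      rw [hδs s] at hd
      exact hd (c1Cap_mem (fun ξ hξ => by rw [zk_supp hα ξ hξ]; ring) _ h')
    refine ⟨β, hβ, hφ s k α hα (τ₀ s) (hτ₀ s) (w₀ s) (hw₀ s) β (fun _ => rfl) hβ, fun w hw γ hγc hγ w' hw' => ?_⟩
    let gM := Cyc.gysinChoice M ρ w
    have hgM : ∀ ξ, gM ξ ≠ 0 := gysinChoice_ne_zero hw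
    have hgτ := gysinChoice_ne_zero (s := τ) hw'
    let ζ : AlgebraicCycle t.X' ℤ :=
      toCycle _ (lf_comp j (lf_c1Cap (sq_setupX hD s).2.2 hMN (LF.of_cycle β) hgτ))
    have hζ : ζ ∈ Cyc.Zk t.X' t.δX' (k - 1 - 1) := fun d hd => by
      by_contra h'
      refine hd ?_
      rw [hdtX]
      exact c1Cap_mem (fun ξ hξ => by rw [zk_supp hβ ξ hξ]; ring) _ h'
    refine ⟨ζ, hζ, fun _ => rfl, ?_⟩
    have hγsupp : ∀ x, Cyc.c1CapFun s.δY' M ⇑α gM x ≠ 0 → x ∈ Set.range ι := fun x hx =>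
      gysin_supp ι hds hM hρ w hx
    let η : AlgebraicCycle t.X' ℤ := toCycle _ (lf_comp t.f' (lf_c1Cap (sq_setupY hX t).2.2
      (C1.isInvertible_pullback ι (hLp s)) (LF.of_cycle γ) (fun ξ => pullFib_ne_zero ι (hLp s) (hg s _))))
    have hη : η ∈ Cyc.Zk t.X' t.δX' (k - 1 - 1) := fun d hd => by
      by_contra h'
      refine hd ?_
      rw [hδs t]
      exact c1Cap_mem (fun ξ hξ => by rw [zk_supp hγ ξ hξ]; ring) _ h'
    refine (hop s t ι j w₁ w₂ w₃ (k - 1) γ hγ η (fun _ => rfl) hη).trans (cl_eq_of_ratEquiv hη hζ ?_)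
    -- change the section on the base changed side
    have hz' := isZeroSchemeOf_of_isPullback hsq.flip hM hρ
    let v := pullChoice s.f' hM w
    have hv : ∀ ξ, v ξ ≠ 0 := fun ξ => pullFib_ne_zero s.f' hM (hw _)
    have hch := rz_gysin_change j (sq_setupX hD s).2.2 hMN hz' hτ (LF.of_cycle β) (k := k - 1 - 1)
      (fun ξ hξ => by rw [zk_supp hβ ξ hξ]; ring) hv hw'
    rw [← hdtX] at hch
    -- the commutator
    obtain ⟨F, f1, f2, f3, f4, f5⟩ := exists_comm_family hds (hLp s) hM (LF.of_cycle α) (k := k - 2)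
      (fun ξ hξ => by rw [zk_supp hα ξ hξ]; ring) (hg s) (hg s) hgM hgM
    haveI : IsClosedImmersion (j ≫ s.f') := inferInstance
    have hA := rz_restrict (j ≫ s.f') hds f1 f2 f3 (fun z hz => by
      have h1 : z ∈ Set.range s.f' := (C1.mem_range_iff s.f' (hτ₀ s)).2
        (by_contra fun h => hz (f4 z (Or.inl ⟨rfl, secOn_gysin (hLp s) _ h⟩)))
      have h2 : z ∈ Set.range ι := (C1.mem_range_iff ι hρ).2
        (by_contra fun h => hz (f4 z (Or.inr ⟨rfl, secOn_gysin hM _ h⟩)))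
      obtain ⟨a, rfl⟩ := h1
      obtain ⟨b, hb⟩ := h2
      obtain ⟨c, hc1, -⟩ := Scheme.Pullback.exists_preimage_pullback a b hb.symm
      refine ⟨hsq.isoPullback.inv c, ?_⟩
      rw [Scheme.Hom.comp_apply, ← Scheme.Hom.comp_apply hsq.isoPullback.inv, hsq.isoPullback_inv_fst, hc1])
      (a := fun d => (Cyc.c1CapFun s.δY' (Lp s) (Cyc.c1CapFun s.δY' M ⇑α gM) (g s) -
        Cyc.c1CapFun s.δY' M (Cyc.c1CapFun s.δY' (Lp s) ⇑α (g s)) gM) ((j ≫ s.f') d)) fun d => f5 _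
    have hδj : (fun d : t.X' => s.δY' ((j ≫ s.f') d)) = t.δX' := funext fun d => by
      rw [Scheme.Hom.comp_apply, hdtX, hδs s]
    rw [hδj, show k - 2 = k - 1 - 1 by ring] at hA
    refine ratEquiv_of_RZ (sq_setupX hD t).2.2 (hA.add (sq_setupX hD t).2.2 hch) fun d => ?_
    have hp : ι (t.f' d) = s.f' (j d) := by
      show (t.f' ≫ ι) d = (j ≫ s.f') d
      rw [w₂]
    have e1 : η d = Cyc.c1CapFun s.δY' (Lp s) (Cyc.c1CapFun s.δY' M ⇑α gM) (g s) (s.f' (j d)) := by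
      show Cyc.c1CapFun t.δY' _ ⇑γ _ (t.f' d) = _
      rw [← hp, c1Cap_closed ι hds (hLp s) hγsupp (hg s) (t.f' d), hdtY]
      congr 1
      exact funext hγc
    have e2 : Cyc.c1CapFun s.δY' M (Cyc.c1CapFun s.δY' (Lp s) ⇑α (g s)) gM (s.f' (j d)) =
        Cyc.c1CapFun s.δX' ((Scheme.Modules.pullback s.f').obj M) ⇑β
          (Cyc.gysinChoice _ (pullSec s.f' M ρ) v) (j d) := by
      rw [c1Cap_closed s.f' hds hM (hsupp s ⇑α) hgM (j d), ← hδs s,
        show pullChoice s.f' hM gM = Cyc.gysinChoice _ (pullSec s.f' M ρ) v from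
          funext fun y => gysinChoice_pullback s.f' hM w y]
      rfl
    show η d - ζ d = _
    simp only [Pi.add_apply, Pi.sub_apply, Scheme.Hom.comp_apply]
    rw [e1, e2]
    show _ - Cyc.c1CapFun s.δX' _ ⇑β _ (j d) = _
    ring

end GrothLib.PBDeg
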