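import Groth.Agent.Lib.PBDeg17.Degree
import Groth.Agent.Lib.C1.Pullback
import Groth.Agent.Lib.C1.IsoInv

/-!
# Standard charts are stable under base change
-/

set_option autoImplicit false
set_option backward.isDefEq.respectTransparency false
set_option linter.style.haveILetI false

universe u

open CategoryTheory CategoryTheory.Limits AlgebraicGeometry TopologicalSpace Opposite
open GrothLib.Ref1 GrothLib.C1

noncomputable section

namespace GrothLib.PBDeg

theorem isPushout_map {R R' : CommRingCat.{u}} (φ : R ⟶ R') (σ : Type) :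
    IsPushout (CommRingCat.ofHom (MvPolynomial.C (R := R) (σ := σ))) φ
      (CommRingCat.ofHom (MvPolynomial.map (σ := σ) φ.hom)) (CommRingCat.ofHom (MvPolynomial.C (R := R') (σ := σ))) := by
  have hc : CommRingCat.ofHom (MvPolynomial.C (R := R) (σ := σ)) ≫ CommRingCat.ofHom (MvPolynomial.map φ.hom) =
      φ ≫ CommRingCat.ofHom (MvPolynomial.C (R := R') (σ := σ)) :=
    CommRingCat.hom_ext (RingHom.ext fun r => MvPolynomial.map_C _ r)
  refine IsPushout.of_isColimit' ⟨hc⟩ (PushoutCocone.isColimitAux _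
    (fun s => CommRingCat.ofHom (MvPolynomial.eval₂Hom s.inr.hom fun x => s.inl.hom (MvPolynomial.X x)))
    (fun s => ?_) (fun s => ?_) fun s g hg => ?_)
  · refine CommRingCat.hom_ext (MvPolynomial.ringHom_ext (fun r => ?_) fun x => ?_)
    · show MvPolynomial.eval₂Hom _ _ (MvPolynomial.map φ.hom (MvPolynomial.C r)) = _
      rw [MvPolynomial.map_C, MvPolynomial.eval₂Hom_C]
      exact (RingHom.congr_fun (congrArg CommRingCat.Hom.hom s.condition) r).symm
    · show MvPolynomial.eval₂Hom _ _ (MvPolynomial.map φ.hom (MvPolynomial.X x)) = _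
      rw [MvPolynomial.map_X, MvPolynomial.eval₂Hom_X']
  · exact CommRingCat.hom_ext (RingHom.ext fun r => MvPolynomial.eval₂Hom_C _ _ r)
  · refine CommRingCat.hom_ext (MvPolynomial.ringHom_ext (fun r => ?_) fun x => ?_)
    · show g.hom (MvPolynomial.C r) = MvPolynomial.eval₂Hom _ _ (MvPolynomial.C r)
      rw [MvPolynomial.eval₂Hom_C]
      exact RingHom.congr_fun (congrArg CommRingCat.Hom.hom (hg WalkingSpan.right)) r
    · show g.hom (MvPolynomial.X x) = MvPolynomial.eval₂Hom _ _ (MvPolynomial.X x)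
      rw [MvPolynomial.eval₂Hom_X']
      have := RingHom.congr_fun (congrArg CommRingCat.Hom.hom (hg WalkingSpan.left)) (MvPolynomial.X x)
      exact (congrArg g.hom (MvPolynomial.map_X φ.hom x)).symm.trans this

variable {m : ℕ} {X X' P P' : Scheme.{u}} {p : P ⟶ X} {p' : P' ⟶ X'} {f : X' ⟶ X} {f' : P' ⟶ P}
  {L : P.Modules} {L' : P'.Modules}

theorem HasCharts.baseChange (hC : HasCharts p L m) (hL : PicF.IsInvertible L) (hsq : IsPullback f' p' p f)
    (e : (Scheme.Modules.pullback f').obj L ≅ L') : HasCharts p' L' m := by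
  intro z'
  obtain ⟨C⟩ := hC (f z')
  obtain ⟨U', hU', hz', hle⟩ := exists_isAffineOpen_mem_and_subset (show z' ∈ f ⁻¹ᵁ C.U from C.mem)
  let φ : Γ(X, C.U) ⟶ Γ(X', U') := f.appLE C.U U' hle
  have hφ : Spec.map φ ≫ C.hU.fromSpec = hU'.fromSpec ≫ f := C.hU.SpecMap_appLE_fromSpec f hU' hle
  let T := pullback hU'.fromSpec p'
  have hT : IsPullback (pullback.snd hU'.fromSpec p' ≫ f') (pullback.fst hU'.fromSpec p') p (hU'.fromSpec ≫ f) :=
    (IsPullback.of_hasPullback hU'.fromSpec p').flip.paste_horiz hsq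
  let μ : ∀ i : Fin (m + 1), Dh Γ(X, C.U) i →+* Dh Γ(X', U') i := fun i => MvPolynomial.map φ.hom
  have hμ : ∀ i j, μ i (crd i j) = crd i j := fun i j => by
    rcases eq_or_ne j i with rfl | h
    · rw [crd_self, crd_self, map_one]
    · rw [crd_of_ne h, crd_of_ne h]; exact MvPolynomial.map_X _ _
  have hA : ∀ i : Fin (m + 1), IsPullback (Spec.map (CommRingCat.ofHom (μ i)))
      (Spec.map (CommRingCat.ofHom (MvPolynomial.C (R := Γ(X', U')) (σ := {j // j ≠ i}))))
      (C.c i ≫ p) (hU'.fromSpec ≫ f) := fun i => by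
    rw [← hφ, C.comp i]
    have h1 := isPullback_SpecMap_of_isPushout _ _ _ _ (isPushout_map φ {j : Fin (m + 1) // j ≠ i})
    have h2 : IsPullback (Spec.map φ) (𝟙 (Spec Γ(X', U'))) C.hU.fromSpec (Spec.map φ ≫ C.hU.fromSpec) :=
      IsPullback.of_vert_isIso_mono ⟨by rw [Category.id_comp]⟩
    simpa using h1.paste_vert h2
  let l : ∀ i : Fin (m + 1), Spec (CommRingCat.of (Dh Γ(X', U') i)) ⟶ T := fun i =>
    hT.lift (Spec.map (CommRingCat.ofHom (μ i)) ≫ C.c i) (Spec.map (CommRingCat.ofHom MvPolynomial.C))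
      (by rw [Category.assoc]; exact (hA i).w)
  have hl : ∀ i, IsPullback (Spec.map (CommRingCat.ofHom (μ i))) (l i) (C.c i) (pullback.snd hU'.fromSpec p' ≫ f') :=
    fun i => IsPullback.of_bot (by rw [hT.lift_snd]; exact hA i) (hT.lift_fst _ _ _).symm hT
  haveI hlo : ∀ i, IsOpenImmersion (l i) := fun i =>
    MorphismProperty.of_isPullback (P := @IsOpenImmersion) (hl i) inferInstance
  let c' : ∀ i : Fin (m + 1), Spec (CommRingCat.of (Dh Γ(X', U') i)) ⟶ P' := fun i =>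
    l i ≫ pullback.snd hU'.fromSpec p'
  have hc'f : ∀ i, c' i ≫ f' = Spec.map (CommRingCat.ofHom (μ i)) ≫ C.c i := fun i => by
    simp only [c', Category.assoc]
    exact hT.lift_fst _ _ _
  haveI hc'o : ∀ i, IsOpenImmersion (c' i) := fun i => inferInstanceAs (IsOpenImmersion (_ ≫ _))
  have hle' : p' ⁻¹ᵁ U' ≤ f' ⁻¹ᵁ (p ⁻¹ᵁ C.U) := fun y hy => by
    show p (f' y) ∈ C.U
    rw [← Scheme.Hom.comp_apply, hsq.w, Scheme.Hom.comp_apply]
    exact hle hy
  let s' : Fin (m + 1) → Γ(L', p' ⁻¹ᵁ U') := fun j =>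
    e.hom.app (p' ⁻¹ᵁ U') (InvExt.mres _ hle' (pullSec f' L (C.s j)))
  have hs' : ∀ j (y : P') (hy : y ∈ p' ⁻¹ᵁ U'), L'.presheaf.germ (p' ⁻¹ᵁ U') y hy (s' j) =
      RefHull.stalkMapₗ e.hom y (pullGerm f' L y (L.presheaf.germ (p ⁻¹ᵁ C.U) (f' y) (hle' hy) (C.s j))) := by
    intro j y hy
    rw [pullGerm_germ, ← TopCat.Presheaf.germ_res_apply ((Scheme.Modules.pullback f').obj L).presheaf (homOfLE hle') y hy]
    exact (TopCat.Presheaf.stalkFunctor_map_germ_apply (p' ⁻¹ᵁ U') y hy (Scheme.Modules.Hom.mapPresheaf e.hom) _).symm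
  have hgen : ∀ j (y : P') (hy : y ∈ p' ⁻¹ᵁ U'), Gen L (f' y) (L.presheaf.germ (p ⁻¹ᵁ C.U) (f' y) (hle' hy) (C.s j)) →
      Gen L' y (L'.presheaf.germ (p' ⁻¹ᵁ U') y hy (s' j)) := fun j y hy h => by
    rw [hs']
    exact gen_iso (gen_pullGerm f' hL h)
  have hgen' : ∀ j (y : P') (hy : y ∈ p' ⁻¹ᵁ U'), Gen L' y (L'.presheaf.germ (p' ⁻¹ᵁ U') y hy (s' j)) →
      Gen L (f' y) (L.presheaf.germ (p ⁻¹ᵁ C.U) (f' y) (hle' hy) (C.s j)) := fun j y hy h => by
    obtain ⟨k, hk⟩ := C.exists_gen (f' y) (hle' hy)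
    obtain ⟨a, ha⟩ := hk.2 (L.presheaf.germ (p ⁻¹ᵁ C.U) (f' y) (hle' hy) (C.s j))
    dsimp only at ha
    rw [← ha]
    refine gen_smul_unit hk ?_
    rw [hs', ← ha, pullGerm_smul, map_smul, ← hs' k y hy] at h
    obtain ⟨b, hb⟩ := h.2 (L'.presheaf.germ (p' ⁻¹ᵁ U') y hy (s' k))
    dsimp only at hb
    rw [smul_smul] at hb
    have hu := (hgen k y hy hk).1 (a₂ := 1) (hb.trans (one_smul _ _).symm)
    exact (isUnit_map_iff (f'.stalkMap y).hom a).1 (IsUnit.of_mul_eq_one_right _ hu)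
  have hcp : ∀ i, c' i ≫ p' = Spec.map (CommRingCat.ofHom MvPolynomial.C) ≫ hU'.fromSpec := fun i => by
    simp only [c', Category.assoc, ← pullback.condition]
    rw [← Category.assoc, hT.lift_snd]
  refine ⟨
    { U := U'
      hU := hU'
      mem := hz'
      c := c'
      isOpen := hc'o
      comp := hcp
      s := s'
      exists_gen := fun y hy => (C.exists_gen (f' y) (hle' hy)).imp fun k hk => hgen k y hy hk
      mem_range := fun i y hy h => ?_
      gen := fun i q hq => ?_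
      rat := fun i j q hq => ?_ }⟩
  · obtain ⟨q₀, hq₀⟩ := C.mem_range i (f' y) (hle' hy) (hgen' i y hy h)
    have hyT : y ∈ Set.range (pullback.snd hU'.fromSpec p') := by
      rw [Scheme.Pullback.range_snd, hU'.range_fromSpec]
      exact hy
    obtain ⟨t, rfl⟩ := hyT
    obtain ⟨w₀, -, hw₀⟩ := Scheme.Pullback.exists_preimage_pullback (f := C.c i)
      (g := pullback.snd hU'.fromSpec p' ≫ f') q₀ t (by rw [Scheme.Hom.comp_apply]; exact hq₀)
    let w := (hl i).isoPullback.inv w₀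
    have hw : l i w = t := by
      rw [← hw₀, ← (hl i).isoPullback_inv_snd, Scheme.Hom.comp_apply]
    exact ⟨w, by show (l i ≫ pullback.snd _ _) w = _; rw [Scheme.Hom.comp_apply, hw]⟩
  · refine hgen i (c' i q) hq ?_
    have hpt : f' (c' i q) = C.c i ⟨q.asIdeal.comap (μ i), inferInstance⟩ := by
      rw [← Scheme.Hom.comp_apply, hc'f i, Scheme.Hom.comp_apply]
      rfl
    have key : ∀ (y : P) (hy : y ∈ p ⁻¹ᵁ C.U), C.c i ⟨q.asIdeal.comap (μ i), inferInstance⟩ = y →
        Gen L y (L.presheaf.germ (p ⁻¹ᵁ C.U) y hy (C.s i)) := by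
      rintro _ hy rfl
      exact C.gen i _ hy
    exact key _ (hle' hq) hpt.symm
  · let q₀ : PrimeSpectrum (Dh Γ(X, C.U) i) := ⟨q.asIdeal.comap (μ i), inferInstance⟩
    have hpt : f' (c' i q) = C.c i q₀ := by
      rw [← Scheme.Hom.comp_apply, hc'f i, Scheme.Hom.comp_apply]
      rfl
    have hmem : f' (c' i q) ∈ (C.c i).opensRange := ⟨q₀, hpt.symm⟩
    have hrat : L.presheaf.germ (p ⁻¹ᵁ C.U) (f' (c' i q)) (hle' hq) (C.s j) =
        P.presheaf.germ (C.c i).opensRange (f' (c' i q)) hmem (sec (C.c i) (crd i j)) •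
          L.presheaf.germ (p ⁻¹ᵁ C.U) (f' (c' i q)) (hle' hq) (C.s i) := by
      have key : ∀ (y : P) (hy : y ∈ p ⁻¹ᵁ C.U) (hy' : y ∈ (C.c i).opensRange), C.c i q₀ = y →
          L.presheaf.germ (p ⁻¹ᵁ C.U) y hy (C.s j) = P.presheaf.germ (C.c i).opensRange y hy' (sec (C.c i) (crd i j)) •
            L.presheaf.germ (p ⁻¹ᵁ C.U) y hy (C.s i) := by
        rintro _ hy hy' rfl
        exact C.rat i j q₀ hy
      exact key _ (hle' hq) hmem hpt.symm
    rw [hs', hs', hrat, pullGerm_smul, map_smul]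
    congr 1
    apply (ConcreteCategory.bijective_of_isIso ((c' i).stalkMap q)).1
    refine Eq.trans ?_ (stalkMap_val (c' i) q (crd i j)).symm
    refine (congrArg ((c' i).stalkMap q).hom
      (Scheme.Hom.germ_stalkMap_apply f' (C.c i).opensRange (c' i q) hmem (sec (C.c i) (crd i j)))).trans ?_
    refine (Scheme.Hom.germ_stalkMap_apply (c' i) (f' ⁻¹ᵁ (C.c i).opensRange) q hmem _).trans ?_
    have hle2 : (⊤ : (Spec (CommRingCat.of (Dh Γ(X', U') i))).Opens) ≤ c' i ⁻¹ᵁ (f' ⁻¹ᵁ (C.c i).opensRange) :=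
      fun x _ => ⟨Spec.map (CommRingCat.ofHom (μ i)) x, by
        rw [← Scheme.Hom.comp_apply, ← hc'f i, Scheme.Hom.comp_apply]⟩
    rw [← TopCat.Presheaf.germ_res_apply (Spec (CommRingCat.of (Dh Γ(X', U') i))).presheaf (homOfLE hle2) q trivial]
    show (Spec (CommRingCat.of (Dh Γ(X', U') i))).presheaf.germ ⊤ q trivial _ =
      (Spec (CommRingCat.of (Dh Γ(X', U') i))).presheaf.germ ⊤ q trivial _
    refine congrArg _ ?_
    show ((c' i ≫ f').appLE (C.c i).opensRange ⊤ hle2).hom (sec (C.c i) (crd i j)) = _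
    have key : ∀ (k : Spec (CommRingCat.of (Dh Γ(X', U') i)) ⟶ P), Spec.map (CommRingCat.ofHom (μ i)) ≫ C.c i = k →
        ∀ h, (k.appLE (C.c i).opensRange ⊤ h).hom (sec (C.c i) (crd i j)) =
          (Scheme.ΓSpecIso _).inv (crd i j) := by
      rintro k rfl h
      rw [← Scheme.Hom.appLE_comp_appLE (Spec.map (CommRingCat.ofHom (μ i))) (C.c i) (C.c i).opensRange ⊤ ⊤
        (fun x _ => ⟨x, rfl⟩) (fun _ _ => trivial)]
      show ((Spec.map (CommRingCat.ofHom (μ i))).appLE ⊤ ⊤ _).hom (((C.c i).appLE _ ⊤ _).hom (sec (C.c i) (crd i j))) = _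
      rw [app_sec]
      refine Eq.trans ?_ (congrArg ((Scheme.ΓSpecIso (CommRingCat.of (Dh Γ(X', U') i))).inv).hom (hμ i j))
      refine Eq.trans ?_ (congrArg (fun g => g.hom (crd i j))
        (Scheme.ΓSpecIso_inv_naturality (CommRingCat.ofHom (μ i)))).symm
      rw [Scheme.Hom.appLE, show ((Spec (CommRingCat.of (Dh Γ(X', U') i))).presheaf.map (homOfLE _).op) = 𝟙 _ from
        (congrArg _ (Subsingleton.elim _ (𝟙 _))).trans (CategoryTheory.Functor.map_id _ _)]
      rfl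
    exact key _ (hc'f i).symm hle2

end GrothLib.PBDeg
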