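import Groth.Agent.Lib.PBDeg17.RelProj
import Groth.Agent.Lib.PBDeg17.BaseChange
import Groth.Agent.S5732
import Groth.Agent.S5733
import Groth.Agent.S18995
import Groth.Agent.Lib.Euler.Coh
import Groth.Prelude.Def_KRR

/-!
# Charts for bundles given by the universal property
-/

set_option autoImplicit false
set_option backward.isDefEq.respectTransparency false
set_option linter.style.haveILetI false

universe u

open CategoryTheory AlgebraicGeometry Opposite

noncomputable section

namespace GrothLib.PBDeg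

variable {X : Scheme.{u}} (E : X.Modules)

/-- The quotient pulled back along a morphism over the base. -/
def quotAlong {P T : Scheme.{u}} {π : P ⟶ X} {O : P.Modules} (q : (Scheme.Modules.pullback π).obj E ⟶ O)
    (r : T ⟶ P) {g : T ⟶ X} (hr : r ≫ π = g) :
    (Scheme.Modules.pullback g).obj E ⟶ (Scheme.Modules.pullback r).obj O :=
  (Scheme.Modules.pullbackCongr hr).inv.app E ≫ (Scheme.Modules.pullbackComp r π).inv.app E ≫
    (Scheme.Modules.pullback r).map q

theorem quotAlong_id {P : Scheme.{u}} {π : P ⟶ X} {O : P.Modules} (q : (Scheme.Modules.pullback π).obj E ⟶ O)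
    (hr : 𝟙 P ≫ π = π) : quotAlong E q (𝟙 P) hr ≫ (Scheme.Modules.pullbackId P).hom.app O = q := by
  have h := congr_app (Scheme.Modules.pseudofunctor_right_unitality π) E
  simp only [NatTrans.comp_app, Functor.whiskerLeft_app, Functor.rightUnitor_hom_app, Category.comp_id,
    eqToHom_app] at h
  simp only [quotAlong, Category.assoc]
  erw [(Scheme.Modules.pullbackId P).hom.naturality q]
  rw [Functor.id_map, ← Category.assoc, ← Category.assoc]
  refine Eq.trans (congrArg (· ≫ q) ?_) (Category.id_comp q)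
  rw [Category.assoc]
  erw [h]
  simp [Scheme.Modules.pullbackCongr]
  congr 1

theorem quotAlong_comp {P T T' : Scheme.{u}} {π : P ⟶ X} {O : P.Modules} (q : (Scheme.Modules.pullback π).obj E ⟶ O)
    (r : T ⟶ P) (r' : T' ⟶ T) {g : T ⟶ X} {g' : T' ⟶ X} (hr : r ≫ π = g) (hr' : r' ≫ g = g')
    (hrr : (r' ≫ r) ≫ π = g') :
    quotAlong E q (r' ≫ r) hrr ≫ (Scheme.Modules.pullbackComp r' r).inv.app O =
      quotAlong E (quotAlong E q r hr) r' hr' := by
  have hc := GrothAux.S18995.coh r' r π hr hr' hrr E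
  simp only [quotAlong, Category.assoc, Functor.map_comp]
  erw [(Scheme.Modules.pullbackComp r' r).inv.naturality q]
  rw [← reassoc_of% hc]
  simp only [Functor.comp_map, ← Functor.map_comp_assoc, Category.assoc]
  simp

theorem quotAlong_whisker {P T : Scheme.{u}} {π : P ⟶ X} {O O' : P.Modules}
    (q : (Scheme.Modules.pullback π).obj E ⟶ O) (k : O ⟶ O') (r : T ⟶ P) {g : T ⟶ X} (hr : r ≫ π = g) :
    quotAlong E (q ≫ k) r hr = quotAlong E q r hr ≫ (Scheme.Modules.pullback r).map k := by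
  simp [quotAlong]

theorem rankOne_iff {Y : Scheme.{u}} {M : Y.Modules} : FlatMod.IsFinLocFreeOfRank 1 M ↔ PicF.IsInvertible M := by
  refine ⟨fun h x => ?_, fun h x => ?_⟩
  · obtain ⟨U, hx, ⟨φ⟩⟩ := h x
    exact ⟨U, hx, ⟨φ ≪≫ Limits.coproductUniqueIso fun _ : Fin 1 => Coh.structureModule (↑U)⟩⟩
  · obtain ⟨U, hx, ⟨φ⟩⟩ := h x
    exact ⟨U, hx, ⟨φ ≪≫ (Limits.coproductUniqueIso fun _ : Fin 1 => Coh.structureModule (↑U)).symm⟩⟩

theorem hasCharts_of_isProjBundle {m : ℕ} (hE : FlatMod.IsFinLocFreeOfRank (m + 1) E) {P : Scheme.{u}} {p : P ⟶ X}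
    {O1 : P.Modules} {q : (Scheme.Modules.pullback p).obj E ⟶ O1} (hP : KRR.IsProjBundle p E O1 q) :
    HasCharts p O1 m := by
  obtain ⟨B, rfl⟩ := VA.exists_bdl E (Euler.isCoh_of_isFinLocFree (FinCov.isFinLocFree_of_rank hE)).1
  let a := ((Scheme.Modules.pullbackPushforwardAdjunction B.p).homEquiv B.E B.O).symm B.can
  have hcan : ∀ (U : X.Opens) (hU : IsAffineOpen U) (e : Γ(B.E, U))
      (y : ↥(RelProj.emb B.p B.chart U hU ⁻¹ᵁ (B.p ⁻¹ᵁ U))),
      GrTwist.val (V := RelProj.emb B.p B.chart U hU ⁻¹ᵁ (B.p ⁻¹ᵁ U))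
          ((B.lam U hU).app (B.p ⁻¹ᵁ U) ((B.can.app U) e)) y =
        algebraMap (B.S.presheaf.obj (op U)) (GrTwist.Loc (B.S.deg U hU) y.1)
          ((B.j.app U) e : B.S.presheaf.obj (op U)) := fun U hU e y => B.isCanon ⟨U, hU⟩ e y.1 y.2
  haveI ha : Epi a := Groth.Agent.S5732.result B.E B.isQCoh B.S B.j B.isSym B.p B.chart B.isProj B.O B.lam B.isTwist B.can hcan
  have univB := fun {T : Scheme.{u}} (g : T ⟶ X) (L : T.Modules) (hL : PicF.IsInvertible L) s (hs : Epi s) =>
    Groth.Agent.S5733.result B.E B.isQCoh B.S B.j B.isSym B.p B.chart B.isProj B.O B.lam B.isTwist B.can hcan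
      (X := T) g L hL s hs
  have hBinv : PicF.IsInvertible B.O := B.isInvertible
  have hB1 : FlatMod.IsFinLocFreeOfRank 1 B.O := rankOne_iff.2 hBinv
  have hPinv : PicF.IsInvertible O1 := rankOne_iff.1 hP.invertible
  obtain ⟨r, ⟨hr, e, he⟩, -⟩ := univB p O1 hPinv q hP.epi
  obtain ⟨r', ⟨hr', e', he'⟩, -⟩ := hP.univ B.P B.p B.O hB1 a ha
  have he0 : quotAlong B.E a r hr ≫ e.hom = q := by simpa [quotAlong] using he
  have he0' : quotAlong B.E q r' hr' ≫ e'.hom = a := by simpa [quotAlong] using he'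
  have h1 : r ≫ r' = 𝟙 P := by
    refine (hP.univ P p O1 hP.invertible q hP.epi).unique ?_ ⟨Category.id_comp p, (Scheme.Modules.pullbackId P).app O1,
      by simpa [quotAlong] using quotAlong_id B.E q (Category.id_comp p)⟩
    have hw : (r ≫ r') ≫ p = p := by rw [Category.assoc, hr', hr]
    refine ⟨hw, (Scheme.Modules.pullbackComp r r').symm.app O1 ≪≫ (Scheme.Modules.pullback r).mapIso e' ≪≫ e, ?_⟩
    have h2 := quotAlong_comp B.E q r' r hr' hr hw
    have h3 : quotAlong B.E q (r ≫ r') hw ≫ (Scheme.Modules.pullbackComp r r').inv.app O1 ≫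
        (Scheme.Modules.pullback r).map e'.hom ≫ e.hom = q := by
      rw [← Category.assoc, h2, ← Category.assoc, ← quotAlong_whisker, he0', he0]
    simpa [quotAlong] using h3
  have h2 : r' ≫ r = 𝟙 B.P := by
    refine (univB B.p B.O hBinv a ha).unique ?_ ⟨Category.id_comp B.p, (Scheme.Modules.pullbackId B.P).app B.O,
      by simpa [quotAlong] using quotAlong_id B.E a (Category.id_comp B.p)⟩
    have hw : (r' ≫ r) ≫ B.p = B.p := by rw [Category.assoc, hr, hr']
    refine ⟨hw, (Scheme.Modules.pullbackComp r' r).symm.app B.O ≪≫ (Scheme.Modules.pullback r').mapIso e ≪≫ e', ?_⟩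
    have h2' := quotAlong_comp B.E a r r' hr hr' hw
    have h3 : quotAlong B.E a (r' ≫ r) hw ≫ (Scheme.Modules.pullbackComp r' r).inv.app B.O ≫
        (Scheme.Modules.pullback r').map e.hom ≫ e'.hom = a := by
      rw [← Category.assoc, h2', ← Category.assoc, ← quotAlong_whisker, he0, he0']
    simpa [quotAlong] using h3
  haveI : IsIso r := ⟨r', h1, h2⟩
  exact (hasCharts_of_bdl B hE).baseChange hBinv (f := 𝟙 X) (p' := p) (f' := r)
    (IsPullback.of_horiz_isIso ⟨by rw [hr, Category.comp_id]⟩) e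

end GrothLib.PBDeg
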