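import Groth.Agent.Lib.PBDeg17.Apply
import Groth.Agent.Lib.ExtPowX.SesSheaf
import Groth.Agent.Lib.ExtPowX.Pullback
import Groth.Agent.Lib.ModelK.Exists

/-!
# The first Chern class is the first Chern class of the determinant
-/

set_option autoImplicit false
set_option linter.style.haveILetI false
set_option linter.unusedVariables false
set_option linter.unusedSectionVars false
set_option backward.isDefEq.respectTransparency false

universe u

open CategoryTheory CategoryTheory.Limits AlgebraicGeometry TopologicalSpace Polynomial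
open GrothLib.C1

noncomputable section

namespace GrothLib.PBDeg

open GrothLib.ExtPowX (wedge isFinLocFree_wedge isExtPow_wedge)

variable {X : Scheme.{u}}

theorem rank_flag [IsLocallyNoetherian X] {M L : ℕ → X.Modules} : ∀ (r : ℕ), FlatMod.IsFinLocFreeOfRank r (M r) →
    (∀ j < r, InvSeq (M j) (M (j + 1)) (L j)) → ∀ j ≤ r, FlatMod.IsFinLocFreeOfRank j (M j) := by
  intro r
  induction r with
  | zero =>
    intro h _ j hj
    obtain rfl : j = 0 := by omega
    exact h
  | succ r ih =>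
    intro h hs j hj
    rcases eq_or_lt_of_le hj with e | hlt
    · rw [e]; exact h
    · obtain ⟨hC, a, b, hab, hS⟩ := hs r (Nat.lt_succ_self r)
      haveI := hS.epi_g
      have hk := isFinLocFreeOfRank_kernel_of_epi h hC b
      have e : M r ≅ kernel b := hS.fIsKernel.conePointUniqueUpToIso (limit.isLimit _)
      exact ih (OX.isFinLocFreeOfRank_of_iso e.symm hk) (fun i hi => hs i (by omega)) j (by omega)

theorem isZero_wedge_of_lt {E : X.Modules} {n k : ℕ} (hE : FlatMod.IsFinLocFreeOfRank n E) (h : n < k) :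
    IsZero (wedge E k) := by
  refine OX.isZero_of_subsingleton_stalks _ fun x => ?_
  obtain ⟨D, e, hx, he⟩ := FinCov.exists_frame_nhd_of_rank hE x
  haveI : IsEmpty (Set.powersetCard (Fin n) k) := ⟨fun s => by
    have h1 : s.1.card = k := s.2
    have h2 := Finset.card_le_univ s.1
    rw [h1, Fintype.card_fin] at h2
    omega⟩
  haveI : IsEmpty (Fin (Fintype.card (Set.powersetCard (Fin n) k))) := by
    rw [Fintype.card_eq_zero]; infer_instance
  exact subsingleton_of_forall_eq 0 fun t => by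
    obtain ⟨c, rfl⟩ := (TensorGen.bijective_stalk_of_frame (ExtPowX.isFrame_wedge he k) hx).2 t
    exact Fintype.sum_empty _

theorem isInvertible_extPow {F L : X.Modules} {n : ℕ}
    (hF : FlatMod.IsFinLocFreeOfRank n F) (hL : ExtPow.IsExtPow n F L) : PicF.IsInvertible L := by
  refine InvExt.isInvertible_of_gens fun x => ?_
  obtain ⟨T, e, hxT, he⟩ := FinCov.exists_frame_nhd_of_rank hF x
  obtain ⟨A, hA, hxA, hAT⟩ := exists_isAffineOpen_mem_and_subset (U := T) (x := x) hxT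
  obtain ⟨φ, hφ⟩ := hL
  exact ⟨A, _, hxA, TensorGen.isGen_wedge hφ (U := ⟨A, hA⟩) (TensorGen.isFrame_restrict he hAT)⟩

theorem isIso_f_of_isZero {S : ShortComplex X.Modules} (hS : S.ShortExact) (h : IsZero S.X₃) : IsIso S.f := by
  haveI := hS.mono_f
  haveI : Epi S.f := hS.exact.epi_f (h.eq_zero_of_tgt _)
  exact isIso_of_mono_of_epi _

theorem isIso_g_of_isZero {S : ShortComplex X.Modules} (hS : S.ShortExact) (h : IsZero S.X₁) : IsIso S.g := by
  haveI := hS.epi_g
  haveI : Mono S.g := hS.exact.mono_g (h.eq_zero_of_src _)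
  exact isIso_of_mono_of_epi _

theorem isZero_tensor_left {A B : X.Modules} (h : IsZero A) : IsZero (CohB1.tensorMod A B) :=
  ((DCoh.tensorBi (X := X)).flip.obj B).map_isZero h

theorem isZero_tensor_right {A B : X.Modules} (h : IsZero B) : IsZero (CohB1.tensorMod A B) :=
  ((DCoh.tensorBi (X := X)).obj A).map_isZero h

/-- The determinant of an extension by an invertible module. -/
theorem nonempty_det_step (S : ShortComplex X.Modules) (hS : S.ShortExact) {m : ℕ}
    (h₁ : FlatMod.IsFinLocFreeOfRank m S.X₁) (h₂ : FlatMod.IsFinLocFree S.X₂) (h₃ : PicF.IsInvertible S.X₃) :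
    Nonempty (wedge S.X₂ (m + 1) ≅ CohB1.tensorMod (wedge S.X₁ m) S.X₃) := by
  have h₁' := FinCov.isFinLocFree_of_rank h₁
  have h₃' := Euler.isFinLocFree_of_isInvertible h₃
  have hst : ∀ j (hj : j ≤ m + 1), (ShortComplex.mk (ExtPowX.Ses.incl S (m + 1) j)
      (ExtPowX.Ses.sig S hS h₁' h₃' (j := j) (l := m + 1 - j) (by omega))
      (ExtPowX.Ses.incl_sig S hS h₁' h₃' (by omega))).ShortExact := fun j hj =>
    ExtPowX.Ses.shortExact_step S hS h₁' h₂ h₃' _
  -- the low steps are isomorphisms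
  have hlow : ∀ j, j ≤ m → Nonempty (ExtPowX.Ses.F S (m + 1) j ≅ ExtPowX.Ses.F S (m + 1) m) := by
    intro j hj
    induction hk : m - j generalizing j with
    | zero =>
      obtain rfl : j = m := by omega
      exact ⟨Iso.refl _⟩
    | succ k ih =>
      obtain ⟨e⟩ := ih (j + 1) (by omega) (by omega)
      haveI : IsIso (ExtPowX.Ses.incl S (m + 1) j) := isIso_f_of_isZero (hst j (by omega))
        (isZero_tensor_right (isZero_wedge_of_lt (Euler.isFinLocFreeOfRank_one' h₃) (by omega)))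
      exact ⟨(asIso (ExtPowX.Ses.incl S (m + 1) j)).symm ≪≫ e⟩
  have htop : IsZero (ExtPowX.Ses.F S (m + 1) (m + 1)) := by
    haveI : IsIso (ExtPowX.Ses.incl S (m + 1) (m + 1)) := isIso_f_of_isZero (hst (m + 1) le_rfl)
      (isZero_tensor_left (isZero_wedge_of_lt h₁ (Nat.lt_succ_self m)))
    exact (ExtPowX.Ses.isZero_F_of_lt S (m + 1) (Nat.lt_succ_self _)).of_iso
      (asIso (ExtPowX.Ses.incl S (m + 1) (m + 1))).symm
  have hs := hst m (Nat.le_succ m)
  haveI hg := isIso_g_of_isZero hs htop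
  let eg := @asIso _ _ _ _ _ hg
  haveI := ExtPowX.Ses.isIso_toWedge S (m + 1)
  obtain ⟨e0⟩ := hlow 0 (Nat.zero_le m)
  obtain ⟨e1⟩ := ExtPowX.nonempty_iso (isExtPow_wedge h₃' 1) (ModelK.isExtPow_one S.X₃) (Iso.refl _)
  have el : wedge S.X₃ (m + 1 - m) ≅ S.X₃ := eqToIso (by rw [Nat.add_sub_cancel_left]) ≪≫ e1
  refine ⟨(asIso (ExtPowX.Ses.toWedge S (m + 1))).symm ≪≫ e0 ≪≫ eg ≪≫ ?_⟩
  exact ((DCoh.tensorBi (X := X)).obj (wedge S.X₁ m)).mapIso el

variable [IsLocallyNoetherian X] {δ : X → ℤ} (hX : Cyc.IsDimFun X δ)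

/-- The first Chern class of the determinant of a filtered module. -/
theorem det_roots {M L : ℕ → X.Modules} : ∀ (r : ℕ), IsZero (M 0) →
    FlatMod.IsFinLocFreeOfRank (r + 1) (M (r + 1)) → (∀ j < r + 1, InvSeq (M j) (M (j + 1)) (L j)) →
    ∃ h : PicF.IsInvertible (wedge (M (r + 1)) (r + 1)), c1R hX h = ∑ j ∈ Finset.range (r + 1), root hX L j := by
  intro r
  induction r with
  | zero =>
    intro h0 hE hs
    obtain ⟨hC, a, b, hab, hS⟩ := hs 0 Nat.zero_lt_one
    haveI : IsIso b := isIso_g_of_isZero hS h0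
    obtain ⟨e1⟩ := ExtPowX.nonempty_iso (isExtPow_wedge (FinCov.isFinLocFree_of_rank hE) 1)
      (ModelK.isExtPow_one (L 0)) (asIso b)
    have hw := RelProjK.isInvertible_of_iso e1 hC
    refine ⟨hw, ?_⟩
    rw [Finset.sum_range_one, root_eq hX L hC]
    exact c1R_iso hX hw hC e1
  | succ r ih =>
    intro h0 hE hs
    have hrk := rank_flag (r + 1 + 1) hE hs
    obtain ⟨hw, hc⟩ := ih h0 (hrk (r + 1) (by omega)) (fun j hj => hs j (by omega))
    obtain ⟨hC, a, b, hab, hS⟩ := hs (r + 1) (Nat.lt_succ_self _)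
    obtain ⟨e⟩ := nonempty_det_step (ShortComplex.mk a b hab) hS (hrk (r + 1) (by omega))
      (FinCov.isFinLocFree_of_rank hE) hC
    have hT := Ample.isInvertible_tensorMod hw hC
    have hw' := RelProjK.isInvertible_of_iso e hT
    refine ⟨hw', ?_⟩
    rw [Finset.sum_range_succ, ← hc, root_eq hX L hC, ← c1R_tensor hX hw hC]
    exact c1R_iso hX hw' _ e

theorem coeff_cp_one {B : Type*} [CommRing B] (r : ℕ) (x : ℕ → B) :
    (cp r x).coeff 1 = ∑ j ∈ Finset.range r, x j := by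
  induction r with
  | zero => simp [cp, Polynomial.coeff_one]
  | succ r ih => rw [coeff_cp_succ r x 0, ih, coeff_cp_zero, mul_one, Finset.sum_range_succ]

/-- The first Chern class cap is the cap with the determinant. -/
theorem c1_eq_det {Y : Scheme.{u}} {δY : Y → ℤ} (hY : Cyc.IsSetup Y δY) {r : ℕ} {E : Y.Modules}
    (hE : FlatMod.IsFinLocFreeOfRank (r + 1) E) {PE : Scheme.{u}} {p : PE ⟶ Y} [IsProper p] {O : PE.Modules}
    {q : (Scheme.Modules.pullback p).obj E ⟶ O} (hB : KRR.IsProjBundle p E O q) {δE : PE → ℤ}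
    (hEs : Cyc.IsSetup PE δE) (hδE : Cyc.DeltaCompat p δE δY)
    {k : ℤ} {α : AlgebraicCycle Y ℤ} (hα : α ∈ Cyc.Zk Y δY k)
    {γ : Fin (r + 2) → AlgebraicCycle Y ℤ} (hγ : Cyc.IsChernCap p δY δE O (r + 1) k α γ)
    {D : Y.Modules} (hD : ExtPow.IsExtPow (r + 1) E D) {s : (ξ : Y) → Cyc.secFibre D ξ} (hs : ∀ ξ, s ξ ≠ 0)
    (β : AlgebraicCycle Y ℤ) (hβ : ⇑β = Cyc.c1CapFun δY D ⇑α s) :
    Cyc.RatEquiv δY (k - 1) (γ 1) β := by
  haveI := hY.1
  obtain ⟨P, hPn, π, d, δP, T, hF⟩ := exists_towerData hY (fun _ : PUnit.{1} => r + 1) (fun _ => E) (fun _ => hE)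
  haveI := hPn
  obtain ⟨M, L, h0, ⟨e⟩, hfl⟩ := hF PUnit.unit
  have hE' := OX.isFinLocFreeOfRank_pullback π hE
  obtain ⟨hw, hc⟩ := det_roots T.setupP.2.2 r h0 (OX.isFinLocFreeOfRank_of_iso e.symm hE') hfl
  have hDi : PicF.IsInvertible D := isInvertible_extPow hE hD
  obtain ⟨eD⟩ := ExtPowX.nonempty_pullback_iso π (FinCov.isFinLocFree_of_rank hE) hD
    (isExtPow_wedge (OX.isFinLocFree_pullback π (FinCov.isFinLocFree_of_rank hE)) (r + 1))
  obtain ⟨eW⟩ := ExtPowX.nonempty_iso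
    (isExtPow_wedge (OX.isFinLocFree_pullback π (FinCov.isFinLocFree_of_rank hE)) (r + 1))
    (isExtPow_wedge (FinCov.isFinLocFree_of_rank (OX.isFinLocFreeOfRank_of_iso e.symm hE')) (r + 1)) e.symm
  refine T.ratEquiv_of_pull (by simpa using hγ.2.1 1)
    (fun x hx => by rw [hβ]; exact by_contra fun h => hx (C1.c1Cap_mem (fun ξ hξ => by
      have := C1.zk_supp hα ξ hξ; omega) s h)) ?_
  rw [T.chern_roots hE hB hEs hδE M L h0 e hfl hα hγ 1, Fin.val_one, coeff_cp_one, ← hc]
  exact ((T.up_c1Cap hDi hs α hβ).trans (by rw [c1R_iso T.setupP.2.2 _ hw (eD ≪≫ eW)])).symm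

end GrothLib.PBDeg

end
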