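import Groth.Agent.Lib.PBDeg17.BivPush
import Groth.Agent.Lib.CycPush.Proper
import Groth.Agent.Lib.C1.Push

/-!
# Bivariant classes and disjoint unions
-/

set_option autoImplicit false
set_option backward.isDefEq.respectTransparency false
set_option linter.style.haveILetI false

universe u

open CategoryTheory CategoryTheory.Limits AlgebraicGeometry TopologicalSpace
open GrothLib GrothLib.C1 GrothLib.CycFlat GrothLib.Ref1

noncomputable section

namespace GrothLib.PBDeg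

/-! ### Open immersions -/

theorem hasRelDim_openImm {U T : Scheme.{u}} (ι : U ⟶ T) [IsOpenImmersion ι] : Cyc.HasRelDim ι 0 := by
  intro y C hC
  haveI : Subsingleton ↥(ι.fiber y) := ⟨fun a b => (ι.fiberι y).isEmbedding.injective
    (ι.isOpenEmbedding.injective ((apply_fiberι ι y a).trans (apply_fiberι ι y b).symm))⟩
  haveI : Nonempty C := (hC.1.1).to_subtype
  refine le_antisymm (topologicalKrullDim_zero_of_discreteTopology C) ?_
  haveI : Nonempty (IrreducibleCloseds C) := ⟨⟨Set.univ, ⟨Set.univ_nonempty, Set.subsingleton_univ.isPreirreducible⟩, isClosed_univ⟩⟩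
  exact Order.krullDim_nonneg

theorem residueDegree_openImm {U T : Scheme.{u}} (ι : U ⟶ T) [IsOpenImmersion ι] {δT : T → ℤ} {δU : U → ℤ}
    (h : Cyc.DeltaCompat ι δU δT) : δU = fun x => δT (ι x) :=
  funext fun x => CycPush.delta_eq ι h
    (RingHom.Finite.of_surjective _ (CycPush.residueFieldMap_bijective ι x).2)

theorem fibLength_openImm {U T : Scheme.{u}} (ι : U ⟶ T) [IsOpenImmersion ι] (x : U) : fibLength ι x = 1 := by
  have h : Ideal.map (ι.stalkMap x).hom (IsLocalRing.maximalIdeal (T.presheaf.stalk (ι x))) =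
      IsLocalRing.maximalIdeal (U.presheaf.stalk x) :=
    IsLocalRing.eq_maximalIdeal (Ideal.IsMaximal.map_bijective (ι.stalkMap x).hom
      (ConcreteCategory.bijective_of_isIso (ι.stalkMap x)) (IsLocalRing.maximalIdeal.isMaximal _))
  show Module.length (U.presheaf.stalk x) (U.presheaf.stalk x ⧸ Ideal.map _ _) = 1
  rw [h, Module.length_eq_one_iff, isSimpleModule_iff_isCoatom]
  exact (IsLocalRing.maximalIdeal.isMaximal _).out

theorem pullFun_openImm {U T : Scheme.{u}} (ι : U ⟶ T) [IsOpenImmersion ι] {δT : T → ℤ} {δU : U → ℤ}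
    (h : Cyc.DeltaCompat ι δU δT) (a : T → ℤ) :
    Cyc.pullFun ι δU δT ((0 : ℕ) : ℤ) a = fun x => a (ι x) := by
  funext x
  rw [pullFun_apply, if_pos (by rw [residueDegree_openImm ι h]; simp), fibLength_openImm]
  simp

/-! ### Equal classes -/

theorem ratEquiv_of_cl_eq' {Y : Scheme.{u}} [IsLocallyNoetherian Y] {δ : Y → ℤ} (hδ : Cyc.IsDimFun Y δ) {k : ℤ}
    {α β : AlgebraicCycle Y ℤ} {hα : α ∈ Cyc.Zk Y δ k} {hβ : β ∈ Cyc.Zk Y δ k}
    (h : ChowOps.cl α hα = ChowOps.cl β hβ) : Cyc.RatEquiv δ k α β := by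
  have h' : (⟨α, hα⟩ - ⟨β, hβ⟩ : ↥(ChowOps.zk Y δ k)) ∈ ChowOps.ratTriv Y δ k :=
    (QuotientAddGroup.eq_iff_sub_mem).1 h
  exact AddSubgroup.closure_induction (G := ↥(ChowOps.zk Y δ k))
    (k := {a : ↥(ChowOps.zk Y δ k) | Cyc.RatEquivZero δ k (a : AlgebraicCycle Y ℤ)})
    (p := fun a _ => Cyc.RatEquivZero δ k (a : AlgebraicCycle Y ℤ))
    (fun a ha => ha) (RZ.to_ratEquivZero hδ ((RZ.zero hδ k).congr fun y => rfl))
    (fun a b _ _ ha hb => RZ.to_ratEquivZero hδ ((RZ.of_ratEquivZero hδ ha).add hδ (RZ.of_ratEquivZero hδ hb)))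
    (fun a _ ha => RZ.to_ratEquivZero hδ ((RZ.of_ratEquivZero hδ ha).neg hδ)) h'

/-! ### Gluing rational equivalences -/

theorem finsum_divFun_congr {T : Scheme.{u}} {δ : T → ℤ} (V : T.Opens) {x : T} (hx : x ∈ V)
    {F G : (z : T) → T.residueField z} (h : ∀ z, z ∈ V → F z = G z) :
    ∑ᶠ z, Cyc.divFun δ z (F z) x = ∑ᶠ z, Cyc.divFun δ z (G z) x := by
  refine finsum_congr fun z => ?_
  by_cases hz : z ⤳ x
  · rw [h z (hz.mem_open V.2 hx)]
  · rw [Cyc.divFun, Cyc.divFun, dif_neg fun h' => hz h'.1, dif_neg fun h' => hz h'.1]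

/-- Rational equivalences glue over a covering by disjoint opens. -/
theorem rz_glue {T : Scheme.{u}} [IsLocallyNoetherian T] {δ : T → ℤ} {J : Type*} (V : J → T.Opens)
    (hdisj : ∀ i j, i ≠ j → Disjoint (V i : Set T) (V j : Set T)) (hcov : ∀ x, ∃ j, x ∈ V j) {k : ℤ} {a : T → ℤ}
    (h : ∀ j, ∃ b : T → ℤ, RZ δ k b ∧ ∀ x ∈ V j, b x = a x) : RZ δ k a := by
  classical
  choose b hb hba using h
  choose F h1 h2 h3 h4 using hb
  choose jx hjx using hcov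
  have huniq : ∀ x j, x ∈ V j → jx x = j := fun x j hx => by_contra fun hne =>
    Set.disjoint_left.1 (hdisj _ _ hne) (hjx x) hx
  refine ⟨fun z => F (jx z) z, fun z => h1 _ z, fun x => ?_, fun z hz => h3 _ z hz, fun x => ?_⟩
  · obtain ⟨W, hxW, hW⟩ := h2 (jx x) x
    refine ⟨W ⊓ V (jx x), ⟨hxW, hjx x⟩, hW.subset ?_⟩
    rintro z ⟨⟨hzW, hzV⟩, hz⟩
    refine ⟨hzW, ?_⟩
    replace hz : F (jx z) z ≠ 1 := hz
    rwa [huniq z _ hzV] at hz
  · rw [← hba (jx x) x (hjx x), h4 (jx x) x]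
    exact finsum_divFun_congr (V (jx x)) (hjx x) fun z hz => by rw [huniq z _ hz]

/-! ### Finite morphisms out of disjoint unions -/

theorem isClosedImmersion_of_disjoint_opens {T : Scheme.{u}} {J : Type*} (U : J → Scheme.{u}) (ι : ∀ j, U j ⟶ T)
    [∀ j, IsOpenImmersion (ι j)] (hdisj : ∀ i j, i ≠ j → Disjoint (Set.range (ι i)) (Set.range (ι j)))
    (hcov : ∀ x, ∃ j, x ∈ Set.range (ι j)) (j : J) : IsClosedImmersion (ι j) := by
  refine .of_isPreimmersion _ ?_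
  have : Set.range (ι j) = (⋃ i ∈ {i | i ≠ j}, Set.range (ι i))ᶜ := by
    ext x
    simp only [Set.mem_compl_iff, Set.mem_iUnion, Set.mem_ofPred_eq, not_exists]
    refine ⟨fun hx i hi hxi => Set.disjoint_left.1 (hdisj i j hi) hxi hx, fun h => ?_⟩
    obtain ⟨i, hi⟩ := hcov x
    by_cases e : i = j
    · exact e ▸ hi
    · exact absurd hi (h i e)
  rw [this]
  exact (isOpen_biUnion fun i _ => (ι i).isOpenEmbedding.isOpen_range).isClosed_compl

theorem isIso_appLE_openImm {U T : Scheme.{u}} (ι : U ⟶ T) [IsOpenImmersion ι] {O : T.Opens} (h : O ≤ ι.opensRange)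
    {V : U.Opens} (e : V = ι ⁻¹ᵁ O) : IsIso (ι.appLE O V e.le) := by
  subst e
  rw [← Scheme.Hom.app_eq_appLE]
  exact ι.isIso_app O h

theorem isFinite_sigmaDesc {J : Type u} {Z : J → Scheme.{u}} {T : Scheme.{u}} [IsLocallyNoetherian T]
    (g : ∀ j, Z j ⟶ T) [∀ j, IsFinite (g j)]
    (hloc : ∀ x : T, ∃ V : T.Opens, x ∈ V ∧ {j | (Set.range (g j) ∩ (V : Set T)).Nonempty}.Finite) :
    IsFinite (Sigma.desc g) := by
  classical
  have hfin : ∀ U : T.Opens, IsAffineOpen U → {j | (Set.range (g j) ∩ (U : Set T)).Nonempty}.Finite := by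
    intro U hU
    choose V hV hVfin using hloc
    obtain ⟨t, ht⟩ := hU.isCompact.elim_finite_subcover (fun x => (V x : Set T)) (fun x => (V x).2)
      fun x _ => Set.mem_iUnion.2 ⟨x, hV x⟩
    refine (t.finite_toSet.biUnion fun x _ => hVfin x).subset ?_
    rintro j ⟨y, hy, hyU⟩
    obtain ⟨x, hx, hyx⟩ := Set.mem_iUnion₂.1 (ht hyU)
    exact Set.mem_biUnion hx ⟨y, hy, hyx⟩
  have hpre : ∀ U : T.Opens, IsAffineOpen U → ∃ (S : Finset J) (O : S → (∐ Z).Opens),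
      (∀ j : S, O j = Sigma.ι Z j.1 ''ᵁ (g j.1 ⁻¹ᵁ U)) ∧ (Sigma.desc g) ⁻¹ᵁ U = iSup O := by
    intro U hU
    refine ⟨(hfin U hU).toFinset, fun j => Sigma.ι Z j.1 ''ᵁ (g j.1 ⁻¹ᵁ U), fun j => rfl, Opens.ext (Set.ext fun x => ?_)⟩
    obtain ⟨⟨j, z⟩, rfl⟩ := (sigmaMk Z).surjective x
    rw [sigmaMk_mk]
    have hz : Sigma.desc g (Sigma.ι Z j z) = g j z := by rw [← Scheme.Hom.comp_apply, Sigma.ι_desc]
    refine ⟨fun hx => ?_, fun hx => ?_⟩
    · replace hx : g j z ∈ U := by rw [← hz]; exact hx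
      exact Opens.mem_iSup.2 ⟨⟨j, (hfin U hU).mem_toFinset.2 ⟨_, ⟨z, rfl⟩, hx⟩⟩, ⟨z, hx, rfl⟩⟩
    · obtain ⟨i, w, hw, hwe⟩ := Opens.mem_iSup.1 hx
      show Sigma.desc g (Sigma.ι Z j z) ∈ U
      rw [← hwe]
      show Sigma.desc g (Sigma.ι Z i.1 w) ∈ U
      rw [← Scheme.Hom.comp_apply, Sigma.ι_desc]
      exact hw
  have haff : IsAffineHom (Sigma.desc g) := ⟨fun U hU => by
    obtain ⟨S, O, hO, e⟩ := hpre U hU
    rw [e]
    refine IsAffineOpen.iSup_of_disjoint (fun j => ?_) fun i j hij => ?_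
    · rw [hO]
      exact (hU.preimage (g j.1)).image_of_isOpenImmersion _
    · rw [Function.onFun, hO, hO]
      exact (disjoint_opensRange_sigmaι Z i.1 j.1 fun h => hij (Subtype.ext h)).mono
        ((Scheme.Hom.image_mono _ le_top).trans (Scheme.Hom.image_top_eq_opensRange _).le)
        ((Scheme.Hom.image_mono _ le_top).trans (Scheme.Hom.image_top_eq_opensRange _).le)⟩
  refine (isFinite_iff _).2 ⟨haff, fun U hU => ?_⟩
  obtain ⟨S, O, hO, e⟩ := hpre U hU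
  haveI : IsNoetherianRing Γ(T, U) := IsLocallyNoetherian.component_noetherian ⟨U, hU⟩
  letI := ((Sigma.desc g).app U).hom.toAlgebra
  letI : ∀ j : S, Algebra Γ(T, U) Γ(Z j.1, g j.1 ⁻¹ᵁ U) := fun j => ((g j.1).app U).hom.toAlgebra
  haveI : ∀ j : S, Module.Finite Γ(T, U) Γ(Z j.1, g j.1 ⁻¹ᵁ U) := fun j =>
    ((isFinite_iff (g j.1)).1 inferInstance).2 U hU
  have hle : ∀ j : S, g j.1 ⁻¹ᵁ U ≤ Sigma.ι Z j.1 ⁻¹ᵁ (Sigma.desc g ⁻¹ᵁ U) := fun j => by
    rw [← Scheme.Hom.comp_preimage, Sigma.ι_desc]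
  let R : ∀ j : S, Γ(∐ Z, Sigma.desc g ⁻¹ᵁ U) →ₐ[Γ(T, U)] Γ(Z j.1, g j.1 ⁻¹ᵁ U) := fun j =>
    { ((Sigma.ι Z j.1).appLE _ _ (hle j)).hom with
      commutes' := fun r => by
        show ((Sigma.ι Z j.1).appLE _ _ (hle j)) ((Sigma.desc g).app U r) = (g j.1).app U r
        rw [← CommRingCat.comp_apply, Scheme.Hom.app_eq_appLE, Scheme.Hom.appLE_comp_appLE, Scheme.Hom.app_eq_appLE]
        simp only [Sigma.ι_desc] }
  let Φ : Γ(∐ Z, Sigma.desc g ⁻¹ᵁ U) →ₗ[Γ(T, U)] ((j : S) → Γ(Z j.1, g j.1 ⁻¹ᵁ U)) :=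
    LinearMap.pi fun j => (R j).toLinearMap
  refine Module.Finite.of_injective Φ fun a b hab => ?_
  refine TopCat.Sheaf.eq_of_locally_eq' (∐ Z).sheaf O (Sigma.desc g ⁻¹ᵁ U)
    (fun j => homOfLE (e ▸ le_iSup O j)) e.le a b fun j => ?_
  have hj : (Sigma.ι Z j.1).appLE _ _ (hle j) a = (Sigma.ι Z j.1).appLE _ _ (hle j) b := congrFun hab j
  have hOle : O j ≤ Sigma.desc g ⁻¹ᵁ U := e ▸ le_iSup O j
  have hO' : g j.1 ⁻¹ᵁ U = Sigma.ι Z j.1 ⁻¹ᵁ (O j) := by rw [hO, Scheme.Hom.preimage_image_eq]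
  have hOr : O j ≤ (Sigma.ι Z j.1).opensRange := by
    rw [hO]
    exact (Scheme.Hom.image_mono _ le_top).trans (Scheme.Hom.image_top_eq_opensRange _).le
  haveI := isIso_appLE_openImm (Sigma.ι Z j.1) hOr hO'
  refine (ConcreteCategory.bijective_of_isIso ((Sigma.ι Z j.1).appLE (O j) (g j.1 ⁻¹ᵁ U) hO'.le)).1 ?_
  show ((∐ Z).presheaf.map (homOfLE hOle).op ≫ (Sigma.ι Z j.1).appLE (O j) _ hO'.le) a =
    ((∐ Z).presheaf.map (homOfLE hOle).op ≫ (Sigma.ι Z j.1).appLE (O j) _ hO'.le) b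
  rw [Scheme.Hom.map_appLE]
  exact hj

/-! ### Classes vanish when they vanish on the pieces of a disjoint union -/

variable {X Y : Scheme.{u}} {f : X ⟶ Y} {δX : X → ℤ} {δY : Y → ℤ} {p : ℤ}

theorem op_congr_cycle (c : Bivar.Cl p f δX δY) (s : Bivar.Sq f δX δY) {k k' : ℤ} (e : k = k')
    (α : AlgebraicCycle s.Y' ℤ) (h : α ∈ Cyc.Zk s.Y' s.δY' k) (h' : α ∈ Cyc.Zk s.Y' s.δY' k')
    (h0 : c.op s k (ChowOps.cl α h) = 0) : c.op s k' (ChowOps.cl α h') = 0 := by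
  subst e
  exact h0

theorem mem_range_of_isPullback {T S U V : Scheme.{u}} {a : U ⟶ T} {b : U ⟶ V} {fT : T ⟶ S} {h : V ⟶ S}
    (hsq : IsPullback a b fT h) {x : T} (hx : fT x ∈ Set.range h) : x ∈ Set.range a := by
  obtain ⟨v, hv⟩ := hx
  obtain ⟨w, hw, -⟩ := Scheme.Pullback.exists_preimage_pullback x v hv.symm
  refine ⟨hsq.isoPullback.inv w, ?_⟩
  rw [← Scheme.Hom.comp_apply, hsq.isoPullback_inv_fst, hw]

/-- A square restricted along a morphism. -/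
theorem exists_sq_along (hX : Cyc.IsSetup X δX) (hY : Cyc.IsSetup Y δY) (s : Bivar.Sq f δX δY) {V : Scheme.{u}}
    (h : V ⟶ s.Y') [LocallyOfFiniteType h] :
    ∃ v : Bivar.Sq s.f' s.δX' s.δY', ∃ e : V = v.Y', eqToHom e ≫ v.g = h := by
  haveI := (sq_setupX hX s).1
  haveI := (sq_setupY hY s).1
  obtain ⟨δV, hδV⟩ := CycP1.exists_deltaCompat h s.δY'
  haveI : LocallyOfFiniteType (pullback.snd h s.f') := MorphismProperty.pullback_snd _ _ inferInstance
  obtain ⟨δV', hδV'⟩ := CycP1.exists_deltaCompat (pullback.snd h s.f') s.δX'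
  exact ⟨⟨V, _, h, pullback.fst h s.f', pullback.snd h s.f', IsPullback.of_hasPullback h s.f', inferInstance,
    δV, δV', hδV, hδV'⟩, rfl, Category.id_comp _⟩

/-- A class killing the restrictions of a cycle to disjoint open pieces kills the cycle. -/
theorem op_eq_zero_of_cover (hX : Cyc.IsSetup X δX) (hY : Cyc.IsSetup Y δY) (c : Bivar.Cl p f δX δY)
    (s : Bivar.Sq f δX δY) {J : Type*} (v : J → Bivar.Sq s.f' s.δX' s.δY') [∀ j, IsOpenImmersion (v j).g]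
    (hdisj : ∀ i j, i ≠ j → Disjoint (Set.range (v i).g) (Set.range (v j).g))
    (hcov : ∀ x, ∃ j, x ∈ Set.range (v j).g) {k : ℤ} {α : AlgebraicCycle s.Y' ℤ} (hα : α ∈ Cyc.Zk s.Y' s.δY' k)
    (h : ∀ (j : J) (α₁ : AlgebraicCycle (v j).Y' ℤ) (hα₁ : α₁ ∈ Cyc.Zk (v j).Y' (v j).δY' k),
      (∀ x, α₁ x = α ((v j).g x)) → c.op (s.paste (v j)) k (ChowOps.cl α₁ hα₁) = 0) :
    c.op s k (ChowOps.cl α hα) = 0 := by
  haveI := (sq_setupX hX s).1
  haveI := (sq_setupY hY s).1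
  obtain ⟨β, hβ, hc⟩ := Bivar.exists_rep (c.op s k (ChowOps.cl α hα))
  have hopen : ∀ j, IsOpenImmersion (v j).g' := fun j =>
    MorphismProperty.of_isPullback (v j).isPullback inferInstance
  have hsq : ∀ j, IsPullback (v j).g' (v j).f' s.f' (v j).g := fun j => (v j).isPullback.flip
  have hdisj' : ∀ i j, i ≠ j → Disjoint (Set.range (v i).g') (Set.range (v j).g') := fun i j hij =>
    Set.disjoint_left.2 fun x hi hj => by
      obtain ⟨a, rfl⟩ := hi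
      obtain ⟨b, hb⟩ := hj
      refine Set.disjoint_left.1 (hdisj i j hij) ⟨(v i).f' a, rfl⟩ ⟨(v j).f' b, ?_⟩
      rw [← Scheme.Hom.comp_apply, ← (hsq j).w, Scheme.Hom.comp_apply, hb, ← Scheme.Hom.comp_apply, (hsq i).w,
        Scheme.Hom.comp_apply]
  have hcov' : ∀ x, ∃ j, x ∈ Set.range (v j).g' := fun x => by
    obtain ⟨j, hj⟩ := hcov (s.f' x)
    exact ⟨j, mem_range_of_isPullback (hsq j) hj⟩
  haveI : ∀ j, IsClosedImmersion (v j).g' := isClosedImmersion_of_disjoint_opens _ (fun j => (v j).g') hdisj' hcov'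
  rw [← hc]
  refine (cl_eq_of_ratEquiv hβ (ChowOps.zk _ _ _).zero_mem (ratEquiv_of_RZ (sq_setupX hX s).2.2
    (rz_glue (fun j => (v j).g'.opensRange) hdisj' hcov' (a := ⇑β) fun j => ?_) fun x => by simp)).trans Bivar.cl_zero
  have hδj := residueDegree_openImm (v j).g (v j).compatY
  have hδj' := residueDegree_openImm (v j).g' (v j).compatX
  haveI : Flat (v j).g := inferInstance
  haveI : Flat (v j).g' := inferInstance
  haveI := (sq_setupX hX (s.paste (v j))).1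
  haveI := (sq_setupY hY (s.paste (v j))).1
  obtain ⟨β', hβ', e₁, e₂⟩ := c.pull s (s.paste (v j)) (v j).g (v j).g' 0 (hasRelDim_openImm _) (hasRelDim_openImm _)
    rfl (hsq j).w rfl k α hα
  have hdim := (sq_setupX hX (s.paste (v j))).2.2
  let α₁ : AlgebraicCycle (v j).Y' ℤ := toCycle _ (fun x => by
    obtain ⟨U, hU, hfin⟩ := LF.of_cycle α ((v j).g x)
    exact ⟨(v j).g ⁻¹ᵁ U, hU, (hfin.preimage (v j).g.isOpenEmbedding.injective.injOn).subset fun y hy => hy⟩ :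
      LF fun x => α ((v j).g x))
  have hα₁ : α₁ ∈ Cyc.Zk (v j).Y' (v j).δY' k := fun x hx => hα _ fun h => hx (by rw [hδj]; exact h)
  have hα₁' : α₁ ∈ Cyc.Zk (v j).Y' (v j).δY' (k + ((0 : ℕ) : ℤ)) := by simpa using hα₁
  obtain ⟨γ, hγ, hγc, hγ₀⟩ := e₂ α₁ (pullFun_openImm (v j).g (v j).compatY ⇑α).symm hα₁'
  have h0 := op_congr_cycle c (s.paste (v j)) (k := k) (k' := k + ((0 : ℕ) : ℤ)) (by simp) α₁ hα₁ hα₁'
    (h j α₁ hα₁ fun _ => rfl)
  rw [h0] at hγ₀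
  have hr : Cyc.RatEquiv (v j).δX' (k + ((0 : ℕ) : ℤ) - p) γ 0 :=
    ratEquiv_of_cl_eq' hdim (hα := hγ) (hβ := (ChowOps.zk _ _ _).zero_mem) (hγ₀.symm.trans Bivar.cl_zero.symm)
  replace hr : Cyc.RatEquivZero (v j).δX' (k + ((0 : ℕ) : ℤ) - p) γ := by
    have h' : Cyc.RatEquivZero (v j).δX' (k + ((0 : ℕ) : ℤ) - p) (γ - 0) := hr
    rwa [sub_zero] at h'
  have hδ' := sq_setupX hX s
  have hr' := RZ.of_ratEquivZero hdim hr
  rw [hδj', show k + ((0 : ℕ) : ℤ) - p = k - p by simp] at hr'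
  classical
  have hββ : Cyc.RatEquiv s.δX' (k - p) β β' := ratEquiv_of_cl_eq' hδ'.2.2 (hc.trans e₁)
  refine ⟨(fun x => if x ∈ Set.range (v j).g' then β' x else 0) + (fun x => (⇑(β - β') : s.X' → ℤ) x),
    (rz_push (v j).g' hδ'.2.2 hr' (fun d => ?_) fun x hx => if_neg hx).add hδ'.2.2
      (RZ.of_ratEquivZero hδ'.2.2 hββ), fun x hx => ?_⟩
  · show (if _ then _ else _) = _
    rw [if_pos ⟨d, rfl⟩, congrFun hγc d, pullFun_openImm (v j).g' (v j).compatX]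
  · simp only [Pi.add_apply, Function.locallyFinsuppWithin.coe_sub, Pi.sub_apply]
    rw [if_pos (show x ∈ Set.range (v j).g' from hx)]
    ring

end GrothLib.PBDeg
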