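import Groth.Agent.Lib.PBDeg17.Chern
import Groth.Agent.Lib.ProjQ8.Bundle
import Groth.Agent.Lib.ProjAlg.Proper
import Groth.Agent.Lib.OmegaFree.Basic
import Groth.Agent.Lib.QCoh.SupportExact

/-!
# Existence of projective bundles, and kernels of their tautological quotients
-/

set_option autoImplicit false
set_option backward.isDefEq.respectTransparency false
set_option linter.style.haveILetI false

universe u

open CategoryTheory CategoryTheory.Limits AlgebraicGeometry Opposite TopologicalSpace

noncomputable section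

namespace GrothLib.PBDeg

/-- Projective bundles exist and are projective. -/
theorem exists_isProjBundle {X : Scheme.{u}} {E : X.Modules} {r : ℕ} (hE : FlatMod.IsFinLocFreeOfRank r E) :
    ∃ (P : Scheme.{u}) (p : P ⟶ X) (O : P.Modules) (q : (Scheme.Modules.pullback p).obj E ⟶ O),
      KRR.IsProjBundle p E O q ∧ RelProj.IsProjective p ∧ IsProper p := by
  have hco := Euler.isCoh_of_isFinLocFree (FinCov.isFinLocFree_of_rank hE)
  obtain ⟨B, rfl⟩ := VA.exists_bdl E hco.1
  let a := ((Scheme.Modules.pullbackPushforwardAdjunction B.p).homEquiv B.E B.O).symm B.can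
  have hcan : ∀ (U : X.Opens) (hU : IsAffineOpen U) (e : Γ(B.E, U))
      (y : ↥(RelProj.emb B.p B.chart U hU ⁻¹ᵁ (B.p ⁻¹ᵁ U))),
      GrTwist.val (V := RelProj.emb B.p B.chart U hU ⁻¹ᵁ (B.p ⁻¹ᵁ U))
          ((B.lam U hU).app (B.p ⁻¹ᵁ U) ((B.can.app U) e)) y =
        algebraMap (B.S.presheaf.obj (op U)) (GrTwist.Loc (B.S.deg U hU) y.1)
          ((B.j.app U) e : B.S.presheaf.obj (op U)) := fun U hU e y => B.isCanon ⟨U, hU⟩ e y.1 y.2
  have ha : Epi a := Groth.Agent.S5732.result B.E B.isQCoh B.S B.j B.isSym B.p B.chart B.isProj B.O B.lam B.isTwist B.can hcan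
  have hproj : RelProj.IsProjective B.p := ⟨B.S, B.P, B.p, B.chart, Iso.refl B.P,
    RelProjK.isGenDegOne_of_isGrSymAlg B.isQCoh B.isSym, VA.isFTDeg_one_of_isGrSymAlg B.isQCoh hco.2 B.isSym,
    B.isProj, Category.id_comp _⟩
  refine ⟨B.P, B.p, B.O, a, ⟨rankOne_iff.2 B.isInvertible, ha, fun T g L hL s hs => ?_⟩, hproj,
    ProjAlg.isProper_of_isProjective hproj⟩
  exact Groth.Agent.S5733.result B.E B.isQCoh B.S B.j B.isSym B.p B.chart B.isProj B.O B.lam B.isTwist B.can hcan
    (X := T) g L (rankOne_iff.1 hL) s hs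

/-- The kernel of a surjection onto an invertible module. -/
theorem isFinLocFreeOfRank_kernel_of_epi {X : Scheme.{u}} [IsLocallyNoetherian X] {V L : X.Modules} {r : ℕ}
    (hV : FlatMod.IsFinLocFreeOfRank (r + 1) V) (hL : PicF.IsInvertible L) (q : V ⟶ L) [Epi q] :
    FlatMod.IsFinLocFreeOfRank r (kernel q) := by
  have hV' := Euler.isCoh_of_isFinLocFree (FinCov.isFinLocFree_of_rank hV)
  have hL' := Euler.isCoh_of_isFinLocFree (FinCov.isFinLocFree_of_rank (rankOne_iff.2 hL))
  have hK := QCoh.isCoh_kernel q hV' hL'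
  have hS : (ShortComplex.mk (kernel.ι q) q (kernel.condition q)).ShortExact :=
    { exact := ShortComplex.exact_of_f_is_kernel _ (kernelIsKernel q) }
  refine OmegaFree.isFinLocFreeOfRank_of_free_stalks hK r fun x => ?_
  obtain ⟨bV⟩ := OmegaFree.exists_basis_stalk hV x
  obtain ⟨bL⟩ := OmegaFree.exists_basis_stalk (rankOne_iff.2 hL) x
  let ι := QCoh.stalkLin (kernel.ι q) x
  let π := QCoh.stalkLin q x
  have hι : Function.Injective ι := QCoh.stalkLin_injective _ x
  have hπ : Function.Surjective π := QCoh.stalkLin_surjective q x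
  haveI : Module.Free (X.presheaf.stalk x) (L.presheaf.stalk x) := Module.Free.of_basis bL
  haveI : Module.Free (X.presheaf.stalk x) (V.presheaf.stalk x) := Module.Free.of_basis bV
  haveI : Module.Finite (X.presheaf.stalk x) (V.presheaf.stalk x) := Module.Finite.of_basis bV
  haveI : Module.Finite (X.presheaf.stalk x) (L.presheaf.stalk x) := Module.Finite.of_basis bL
  have hex : Function.Exact ι π := by
    have he := ((OX.exact_iff _).1 hS.exact x)
    rw [ShortComplex.ShortExact.moduleCat_exact_iff_function_exact] at he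
    exact he
  obtain ⟨s, hs⟩ := Module.projective_lifting_property π LinearMap.id hπ
  let e := (hex.splitSurjectiveEquiv hι ⟨s, hs⟩).1
  haveI : Module.Finite (X.presheaf.stalk x) ((kernel q).presheaf.stalk x) := Euler.stalk_finite hK x
  haveI : Module.Projective (X.presheaf.stalk x) ((kernel q).presheaf.stalk x) :=
    Module.Projective.of_split ι ((LinearMap.fst _ _ _).comp e.toLinearMap)
      (LinearMap.ext fun v => by
        have := LinearMap.congr_fun (hex.splitSurjectiveEquiv hι ⟨s, hs⟩).2.1 v
        simp only [LinearMap.comp_apply, LinearMap.inl_apply] at this ⊢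
        show (e (ι v)).1 = v
        rw [show ι v = e.symm (v, 0) from this, LinearEquiv.apply_symm_apply])
  haveI : Module.Free (X.presheaf.stalk x) ((kernel q).presheaf.stalk x) := Module.free_of_flat_of_isLocalRing
  refine ⟨Module.finBasisOfFinrankEq _ _ ?_⟩
  have h1 := e.finrank_eq
  rw [Module.finrank_prod, Module.finrank_eq_card_basis bV, Module.finrank_eq_card_basis bL, Fintype.card_fin,
    Fintype.card_fin] at h1
  omega

end GrothLib.PBDeg
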