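import Groth.Agent.Lib.PBDeg17.OfUniv
import Groth.Agent.Lib.C1.ProperPush
import Groth.Agent.Lib.C1.BasePush

/-!
# Uniqueness and naturality of Chern class caps
-/

set_option autoImplicit false
set_option backward.isDefEq.respectTransparency false
set_option linter.style.haveILetI false

universe u

open CategoryTheory AlgebraicGeometry TopologicalSpace
open GrothLib.Ref1 GrothLib.C1 GrothLib.CycFlat

noncomputable section

namespace GrothLib.PBDeg

variable {X P : Scheme.{u}}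

theorem setting_univ {δ : X → ℤ} (hX : Cyc.IsSetup X δ) {E : X.Modules} {m : ℕ}
    (hE : FlatMod.IsFinLocFreeOfRank (m + 1) E) {p : P ⟶ X} {O1 : P.Modules}
    {q : (Scheme.Modules.pullback p).obj E ⟶ O1} (hP : KRR.IsProjBundle p E O1 q) {δP : P → ℤ}
    (hPs : Cyc.IsSetup P δP) (hδ : Cyc.DeltaCompat p δP δ) : Setting p O1 m δ δP :=
  ⟨hasCharts_of_isProjBundle E hE hP, hX.2.2, hPs.2.2, hδ, rankOne_iff.1 hP.invertible⟩

variable {m : ℕ} {p : P ⟶ X} {L : P.Modules} {δX : X → ℤ} {δP : P → ℤ}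

/-- The left side of the defining relation of Chern class caps. -/
def relFun (p : P ⟶ X) (L : P.Modules) (δX : X → ℤ) (δP : P → ℤ) (m : ℕ) (t : ℕ → (ξ : P) → Cyc.secFibre L ξ)
    (d : Fin (m + 1 + 1) → AlgebraicCycle X ℤ) (y : P) : ℤ :=
  ∑ i : Fin (m + 1 + 1), (-1 : ℤ) ^ (i : ℕ) * Cyc.c1PowFun δP L t i (Cyc.pullFun p δP δX m ⇑(d (Fin.rev i))) y

variable [IsLocallyNoetherian X] [IsLocallyNoetherian P]

theorem lf_sum {ι : Type*} [Fintype ι] (a : ι → P → ℤ) (ha : ∀ i, LF (a i)) : LF fun y => ∑ i, a i y := fun x => by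
  classical
  choose U hU hfin using fun i => ha i x
  refine ⟨Finset.univ.inf U, ?_, (Set.finite_iUnion fun i => hfin i).subset fun y hy => ?_⟩
  · induction (Finset.univ : Finset ι) using Finset.induction_on with
    | empty => trivial
    | insert i s _ ih => rw [Finset.inf_insert]; exact ⟨hU i, ih⟩
  · obtain ⟨i, -, hi⟩ := Finset.exists_ne_zero_of_sum_ne_zero hy.2
    exact Set.mem_iUnion.2 ⟨i, (Finset.inf_le (f := U) (Finset.mem_univ i)) hy.1, hi⟩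

theorem rz_sum {ι : Type*} (s : Finset ι) (hδ : Cyc.IsDimFun P δP) {k : ℤ} (a : ι → P → ℤ)
    (ha : ∀ i ∈ s, RZ δP k (a i)) : RZ δP k (fun y => ∑ i ∈ s, a i y) :=
  (Finset.sum_induction a (fun b => RZ δP k b) (fun _ _ h h' => RZ.add hδ h h') (RZ.zero hδ k) ha).congr
    fun y => (Finset.sum_apply y s a).symm

theorem Setting.rel_rz (S : Setting p L m δX δP) {k : ℤ} {α : AlgebraicCycle X ℤ}
    {γ : Fin (m + 1 + 1) → AlgebraicCycle X ℤ} (hγ : Cyc.IsChernCap p δX δP L (m + 1) k α γ)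
    {t : ℕ → (ξ : P) → Cyc.secFibre L ξ} (ht : ∀ n ξ, t n ξ ≠ 0) : RZ δP (k - 1) (relFun p L δX δP m t γ) := by
  have hlf : LF (relFun p L δX δP m t γ) := lf_sum _ fun i =>
    (lf_c1Pow S.dimP S.inv ht (S.lf_pull (γ (Fin.rev i))) i).mono fun y hy => right_ne_zero_of_mul hy
  refine RZ.of_ratEquivZero S.dimP (α := toCycle _ hlf) (hγ.2.2 t ht _ fun y => ?_)
  show relFun p L δX δP m t γ y = _
  have hm : ((m + 1 : ℕ) : ℤ) - 1 = (m : ℤ) := by push_cast; ring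
  rw [hm]
  rfl

theorem c1Pow_sub (hδP : Cyc.IsDimFun P δP) (hL : PicF.IsInvertible L) {t : ℕ → (ξ : P) → Cyc.secFibre L ξ}
    (ht : ∀ n ξ, t n ξ ≠ 0) {a b : P → ℤ} (ha : LF a) (hb : LF b) : ∀ s : ℕ,
    Cyc.c1PowFun δP L t s (a - b) = Cyc.c1PowFun δP L t s a - Cyc.c1PowFun δP L t s b
  | 0 => rfl
  | s + 1 => by
    show Cyc.c1CapFun δP L (Cyc.c1PowFun δP L t s (a - b)) (t s) = _
    rw [c1Pow_sub hδP hL ht ha hb s, c1Cap_sub (lf_c1Pow hδP hL ht ha s) (lf_c1Pow hδP hL ht hb s)]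
    rfl

theorem Setting.relFun_sub (S : Setting p L m δX δP) {t : ℕ → (ξ : P) → Cyc.secFibre L ξ} (ht : ∀ n ξ, t n ξ ≠ 0)
    (a b : Fin (m + 1 + 1) → AlgebraicCycle X ℤ) (y : P) :
    relFun p L δX δP m t (fun j => a j - b j) y = relFun p L δX δP m t a y - relFun p L δX δP m t b y := by
  unfold relFun
  rw [← Finset.sum_sub_distrib]
  refine Finset.sum_congr rfl fun i _ => ?_
  rw [Function.locallyFinsuppWithin.coe_sub, CycDiv.pullFun_sub, c1Pow_sub S.dimP S.inv ht (S.lf_pull _) (S.lf_pull _),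
    Pi.sub_apply]
  ring

/-- A family satisfying the relation over zero is zero modulo rational equivalence. -/
theorem Setting.rel_unique (S : Setting p L m δX δP) [IsProper p] {k : ℤ}
    (d : Fin (m + 1 + 1) → AlgebraicCycle X ℤ) (hd : ∀ j : Fin (m + 1 + 1), d j ∈ Cyc.Zk X δX (k - ((j : ℕ) : ℤ)))
    (h0 : Cyc.RatEquivZero δX k (d 0)) {t : ℕ → (ξ : P) → Cyc.secFibre L ξ} (ht : ∀ n ξ, t n ξ ≠ 0)
    (hr : RZ δP (k - 1) (relFun p L δX δP m t d)) :
    ∀ j : Fin (m + 1 + 1), Cyc.RatEquivZero δX (k - ((j : ℕ) : ℤ)) (d j) := by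
  haveI := S.charts.flat
  have hp := CycDiv.ratEquivZero_pullFun p S.dimP S.dimX
    (fun x hx => S.charts.shift S.inv S.dimP S.compat x hx) _ (d 0) h0 (toCycle _ (S.lf_pull (d 0))) rfl
  have hq := rz_c1Pow S.dimP S.inv ht (RZ.of_ratEquivZero S.dimP hp) (m + 1)
  rw [show k + (m : ℤ) - ((m + 1 : ℕ) : ℤ) = k - 1 by push_cast; ring] at hq
  let α : Fin (m + 1) → AlgebraicCycle X ℤ := fun i => ((-1 : ℤ) ^ (i : ℕ)) • d (Fin.rev (Fin.castSucc i))
  have hα : ∀ i : Fin (m + 1), α i ∈ Cyc.Zk X δX (k - ((m + 1 : ℕ) : ℤ) + ((i : ℕ) : ℤ)) := fun i x hx => by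
    show ((-1 : ℤ) ^ (i : ℕ)) * d (Fin.rev (Fin.castSucc i)) x = 0
    rw [hd _ x (fun h => hx (by rw [h, Fin.val_rev, Fin.val_castSucc]; push_cast; omega)), mul_zero]
  have hterm : ∀ (i : Fin (m + 1)) y, Cyc.c1PowFun δP L t (i : ℕ) (Cyc.pullFun p δP δX m ⇑(α i)) y =
      (-1 : ℤ) ^ (i : ℕ) * Cyc.c1PowFun δP L t (i : ℕ) (Cyc.pullFun p δP δX m ⇑(d (Fin.rev (Fin.castSucc i)))) y := by
    intro i y
    have : Cyc.pullFun p δP δX m ⇑(α i) =
        fun x => (-1 : ℤ) ^ (i : ℕ) * Cyc.pullFun p δP δX m ⇑(d (Fin.rev (Fin.castSucc i))) x := by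
      funext x
      rw [pullFun_apply, pullFun_apply]
      split_ifs
      · exact mul_assoc _ _ _
      · rw [mul_zero]
    rw [this, c1Pow_smul S.dimP]
  have hind := S.independent α hα (fun _ => t) (fun _ => ht) (k := k - ((m + 1 : ℕ) : ℤ)) ?_
  · intro j
    obtain ⟨i, rfl⟩ : ∃ i : Fin (m + 1 + 1), j = Fin.rev i := ⟨Fin.rev j, (Fin.rev_rev j).symm⟩
    refine Fin.lastCases ?_ (fun i => ?_) i
    · rw [Fin.rev_last]
      simpa using h0
    · have h1 := RZ.of_ratEquivZero S.dimX (hind i)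
      rw [show k - ((m + 1 : ℕ) : ℤ) + ((i : ℕ) : ℤ) = k - ((Fin.rev (Fin.castSucc i) : Fin (m + 1 + 1)) : ℕ) by
        rw [Fin.val_rev, Fin.val_castSucc]; omega] at h1
      rcases Nat.even_or_odd (i : ℕ) with he | ho
      · refine RZ.to_ratEquivZero S.dimX (h1.congr fun x => ?_)
        show _ = ((-1 : ℤ) ^ (i : ℕ)) * d _ x
        rw [he.neg_one_pow, one_mul]
      · refine RZ.to_ratEquivZero S.dimX ((h1.neg S.dimX).congr fun x => ?_)
        show _ = -(((-1 : ℤ) ^ (i : ℕ)) * d _ x)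
        rw [ho.neg_one_pow, neg_one_mul, neg_neg]
  · rw [show k - ((m + 1 : ℕ) : ℤ) + (m : ℤ) = k - 1 by push_cast; ring]
    have hlast : RZ δP (k - 1) (fun y => (-1 : ℤ) ^ (m + 1) * Cyc.c1PowFun δP L t (m + 1) (Cyc.pullFun p δP δX m ⇑(d 0)) y) := by
      rcases Nat.even_or_odd (m + 1) with he | ho
      · exact hq.congr fun y => by rw [he.neg_one_pow, one_mul]; rfl
      · exact (hq.neg S.dimP).congr fun y => by rw [ho.neg_one_pow, neg_one_mul]; rfl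
    refine (hr.sub S.dimP hlast).congr fun y => ?_
    rw [Pi.sub_apply, relFun, Fin.sum_univ_castSucc (n := m + 1), Fin.rev_last, Fin.val_last]
    simp only [hterm, Fin.val_castSucc]
    ring

/-- Chern class caps of rationally equivalent cycles are rationally equivalent. -/
theorem Setting.chernCap_unique (S : Setting p L m δX δP) [IsProper p] {k : ℤ} {α α' : AlgebraicCycle X ℤ}
    (h : Cyc.RatEquiv δX k α α') {γ γ' : Fin (m + 1 + 1) → AlgebraicCycle X ℤ}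
    (hγ : Cyc.IsChernCap p δX δP L (m + 1) k α γ) (hγ' : Cyc.IsChernCap p δX δP L (m + 1) k α' γ')
    (j : Fin (m + 1 + 1)) : Cyc.RatEquiv δX (k - ((j : ℕ) : ℤ)) (γ j) (γ' j) := by
  obtain ⟨w, hw⟩ := exists_sec S.inv
  refine S.rel_unique (fun j => γ j - γ' j) (fun j x hx => ?_) ?_ (t := fun _ => w) (fun _ => hw) ?_ j
  · show (γ j - γ' j) x = 0
    rw [Function.locallyFinsuppWithin.coe_sub, Pi.sub_apply, hγ.2.1 j x hx, hγ'.2.1 j x hx, sub_zero]
  · show Cyc.RatEquivZero δX k (γ 0 - γ' 0)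
    rw [hγ.1, hγ'.1]
    exact h
  · exact ((S.rel_rz hγ (fun _ => hw)).sub S.dimP (S.rel_rz hγ' (fun _ => hw))).congr fun y =>
      S.relFun_sub (fun _ => hw) γ γ' y

theorem deltaCompat_comp' {A B C : Scheme.{u}} (f : A ⟶ B) (g : B ⟶ C) {δA : A → ℤ} {δB : B → ℤ} {δC : C → ℤ}
    (hf : Cyc.DeltaCompat f δA δB) (hg : Cyc.DeltaCompat g δB δC) : Cyc.DeltaCompat (f ≫ g) δA δC := fun x => by
  obtain ⟨n, hn, hdn⟩ := hf x
  obtain ⟨n', hn', hdn'⟩ := hg (f x)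
  refine ⟨n' + n, ?_, ?_⟩
  · show CycFlat.resTrdeg (f ≫ g) x = _
    rw [CycFlat.resTrdeg_comp, show CycFlat.resTrdeg g (f x) = n' from hn', show CycFlat.resTrdeg f x = n from hn,
      Nat.cast_add]
  · rw [hdn, hdn', Scheme.Hom.comp_apply]
    push_cast
    ring

/-- Iterated caps and proper pushforward. -/
theorem map_c1Pow_pull {P' : Scheme.{u}} [IsLocallyNoetherian P'] (f' : P' ⟶ P) [IsProper f'] {δP' : P' → ℤ}
    (hL : PicF.IsInvertible L) (hδP : Cyc.IsDimFun P δP) (hδP' : Cyc.IsDimFun P' δP')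
    (hδ : Cyc.DeltaCompat f' δP' δP) {t : ℕ → (ξ : P) → Cyc.secFibre L ξ} (ht : ∀ n ξ, t n ξ ≠ 0)
    (a : AlgebraicCycle P' ℤ) : ∀ s : ℕ,
    ⇑(AlgebraicCycle.map f' δP' δP (toCycle _ (lf_c1Pow hδP' (isInvertible_pullback f' hL)
      (t := fun n => pullChoice f' hL (t n)) (fun n ξ => pullFib_ne_zero f' hL (ht n _)) (LF.of_cycle a) s))) =
      Cyc.c1PowFun δP L t s ⇑(AlgebraicCycle.map f' δP' δP a)
  | 0 => rfl
  | s + 1 => by
    rw [map_c1Cap_pull f' hL hδP' hδP hδ (toCycle _ (lf_c1Pow hδP' (isInvertible_pullback f' hL)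
      (t := fun n => pullChoice f' hL (t n)) (fun n ξ => pullFib_ne_zero f' hL (ht n _)) (LF.of_cycle a) s))
      (ht s) _ rfl, map_c1Pow_pull f' hL hδP hδP' hδ ht a s]
    rfl

/-- Iterated caps and flat pullback. -/
theorem pullFun_c1Pow {P' : Scheme.{u}} [IsLocallyNoetherian P'] (f' : P' ⟶ P) [Flat f'] {δP' : P' → ℤ}
    (hL : PicF.IsInvertible L) (hδP : Cyc.IsDimFun P δP) (hδP' : Cyc.IsDimFun P' δP') {c : ℤ}
    (hc : ∀ x, MaxFib f' x → δP' x = δP (f' x) + c) {t : ℕ → (ξ : P) → Cyc.secFibre L ξ} (ht : ∀ n ξ, t n ξ ≠ 0)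
    {a : P → ℤ} (ha : LF a) : ∀ s : ℕ,
    Cyc.pullFun f' δP' δP c (Cyc.c1PowFun δP L t s a) =
      Cyc.c1PowFun δP' ((Scheme.Modules.pullback f').obj L) (fun n => pullChoice f' hL (t n)) s
        (Cyc.pullFun f' δP' δP c a)
  | 0 => rfl
  | s + 1 => by
    show Cyc.pullFun f' δP' δP c (Cyc.c1CapFun δP L (Cyc.c1PowFun δP L t s a) (t s)) = _
    rw [funext (c1Cap_pullFun f' hL hδP' hδP hc (lf_c1Pow hδP hL ht ha s) (ht s)),
      pullFun_c1Pow f' hL hδP hδP' hc ht ha s]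
    rfl

end GrothLib.PBDeg
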