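import Groth.Agent.Lib.PBDeg17.Flags
import Groth.Agent.Lib.PBDeg17.Chern

/-!
# A cycle dying on a filtered piece of the universal quotient
-/

set_option autoImplicit false
set_option backward.isDefEq.respectTransparency false
set_option linter.style.haveILetI false

universe u

open CategoryTheory CategoryTheory.Limits AlgebraicGeometry
open GrothLib.C1 GrothLib.CycFlat

noncomputable section

namespace GrothLib.PBDeg

variable {X P : Scheme.{u}} [IsLocallyNoetherian X] [IsLocallyNoetherian P] {p : P ⟶ X} [Flat p] {O : P.Modules} {m : ℕ}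
  {δX : X → ℤ} {δP : P → ℤ} (S : Setting p O m δX δP)

/-- `hⁱ ∩ p^*` of a cycle. -/
def Setting.xiCyc {t : ℕ → (ξ : P) → Cyc.secFibre O ξ} (ht : ∀ n ξ, t n ξ ≠ 0) (i : ℕ) (a : AlgebraicCycle X ℤ) :
    AlgebraicCycle P ℤ :=
  toCycle _ (lf_c1Pow S.dimP S.inv ht (S.lf_pull a) i)

theorem Setting.cls_xiCyc {t : ℕ → (ξ : P) → Cyc.secFibre O ξ} (ht : ∀ n ξ, t n ξ ≠ 0) (a : AlgebraicCycle X ℤ) :
    ∀ i : ℕ, cls' S.dimP (S.xiCyc ht i a) = act S.dimP (c1R S.dimP S.inv ^ i)
      (pullCls p S.dimP S.dimX (fun x hx => S.charts.shift S.inv S.dimP S.compat x hx) (cls' S.dimX a))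
  | 0 => by
    rw [pow_zero, map_one]
    exact (pullCls_cls p S.dimP S.dimX _ a (β := S.xiCyc ht 0 a) rfl).symm
  | i + 1 => by
    rw [pow_succ', act_mul, ← Setting.cls_xiCyc ht a i]
    exact (c1E_cls S.dimP S.inv (ht i) (S.xiCyc ht i a) (γ := S.xiCyc ht (i + 1) a) rfl).symm

include S in
/-- If the flat pullback of `α` is supported where the first piece of a chain with invertible quotients dies in the
universal quotient, then `α` is rationally equivalent to zero. -/
theorem Setting.eq_zero_of_chain [IsProper p] {E : X.Modules} (q : (Scheme.Modules.pullback p).obj E ⟶ O) [Epi q]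
    (M : ℕ → X.Modules) (L : ℕ → X.Modules) (c : ∀ j, M j ⟶ E) (hlast : Epi (c m))
    (hseq : ∀ j < m, PicF.IsInvertible (L j) ∧ ∃ (a : M j ⟶ M (j + 1)) (b : M (j + 1) ⟶ L j) (hab : a ≫ b = 0),
      (ShortComplex.mk a b hab).ShortExact ∧ a ≫ c (j + 1) = c j)
    {k : ℤ} {α : AlgebraicCycle X ℤ} (hα : α ∈ Cyc.Zk X δX k) {f : AlgebraicCycle P ℤ}
    (hf : f ∈ Cyc.Zk P δP (k + m)) (hsupp : ∀ y, f y ≠ 0 → y ∈ vanLocus q (c 0))
    (hR : RZ δP (k + m) (fun y => f y - Cyc.pullFun p δP δX m ⇑α y)) : Cyc.RatEquivZero δX k α := by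
  classical
  obtain ⟨w, hw⟩ := exists_sec S.inv
  let t : ℕ → (ξ : P) → Cyc.secFibre O ξ := fun _ => w
  have ht : ∀ n ξ, t n ξ ≠ 0 := fun _ => hw
  have hsh : ∀ x, MaxFib p x → δP x = δX (p x) + (m : ℤ) := fun x hx => S.charts.shift S.inv S.dimP S.compat x hx
  let pull := pullCls p S.dimP S.dimX hsh
  have main : ∀ j ≤ m, ∃ (g : AlgebraicCycle P ℤ) (a : ℕ → AlgebraicCycle X ℤ),
      g ∈ Cyc.Zk P δP (k + m - j) ∧ (∀ y, g y ≠ 0 → y ∈ vanLocus q (c j)) ∧ a j = α ∧
      (∀ i ≤ j, a i ∈ Cyc.Zk X δX (k - ((j - i : ℕ) : ℤ))) ∧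
      cls' S.dimP g = ∑ i ∈ Finset.range (j + 1), cls' S.dimP (S.xiCyc ht i (a i)) := by
    intro j
    induction j with
    | zero =>
      intro _
      refine ⟨f, fun _ => α, by simpa using hf, hsupp, rfl, fun i hi => by simpa using hα, ?_⟩
      rw [Finset.sum_range_one]
      refine (cls'_eq_iff S.dimP hf (fun x hx => by_contra fun h => ?_)).2 (ratEquiv_of_RZ S.dimP hR fun x => ?_)
      · have := (S.delta_eq (t := t) (s := 0) hα h).1
        push_cast at this
        omega
      · rfl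
    | succ j ih =>
      intro hj
      obtain ⟨g, a, hg, hgs, haj, haz, hcls⟩ := ih (by omega)
      obtain ⟨hL, a', b', hab', hex, hc⟩ := hseq j (by omega)
      obtain ⟨u, v, hu, hv, hnext⟩ := exists_next_locus q (c (j + 1)) hex hL S.inv S.dimP (LF.of_cycle g)
        (fun ξ hξ => by rw [hc]; exact hgs ξ hξ)
      let N := (Scheme.Modules.pullback p).obj (L j)
      have hN : PicF.IsInvertible N := isInvertible_pullback p hL
      let gu : AlgebraicCycle P ℤ := toCycle _ (lf_c1Cap S.dimP S.inv (LF.of_cycle g) hu)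
      let gv : AlgebraicCycle P ℤ := toCycle _ (lf_c1Cap S.dimP hN (LF.of_cycle g) hv)
      obtain ⟨s, hs⟩ := exists_sec hL
      let cap : ℕ → AlgebraicCycle X ℤ := fun i => toCycle _ (lf_c1Cap S.dimX hL (LF.of_cycle (a i)) hs)
      let a₁ : ℕ → AlgebraicCycle X ℤ := fun i => if i = 0 then 0 else a (i - 1)
      let a₂ : ℕ → AlgebraicCycle X ℤ := fun i => if i ≤ j then cap i else 0
      refine ⟨gu - gv, fun i => a₁ i - a₂ i, ?_, ?_, ?_, ?_, ?_⟩
      · intro x hx
        rw [Function.locallyFinsuppWithin.coe_sub, Pi.sub_apply]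
        have hz : ∀ (Q : P.Modules) (z : (ξ : P) → Cyc.secFibre Q ξ), Cyc.c1CapFun δP Q ⇑g z x = 0 := by
          intro Q z
          by_contra h
          obtain ⟨ξ, h1, -, h3, -⟩ := c1Cap_ne_zero h
          exact h1 (hg ξ (fun e => hx (by push_cast; omega)))
        show Cyc.c1CapFun δP O ⇑g u x - Cyc.c1CapFun δP N ⇑g v x = 0
        rw [hz, hz, sub_zero]
      · intro y hy
        exact hnext y (by simpa [gu, gv, Function.locallyFinsuppWithin.coe_sub] using! hy)
      · simp [a₁, a₂, haj]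
      · intro i hi
        refine (ChowOps.zk X δX _).sub_mem ?_ ?_
        · simp only [a₁]
          split_ifs with h
          · exact (ChowOps.zk X δX _).zero_mem
          · have := haz (i - 1) (by omega)
            rwa [show j - (i - 1) = j + 1 - i by omega] at this
        · simp only [a₂]
          split_ifs with h
          · intro x hx
            by_contra hne
            obtain ⟨ξ, h1, -, h3, -⟩ := c1Cap_ne_zero (show Cyc.c1CapFun δX (L j) ⇑(a i) s x ≠ 0 from hne)
            refine h1 (haz i h ξ fun e => hx ?_)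
            rw [show j + 1 - i = j - i + 1 by omega]
            push_cast
            omega
          · exact (ChowOps.zk X δX _).zero_mem
      · have e1 : cls' S.dimP gu = c1E S.dimP S.inv (cls' S.dimP g) := (c1E_cls S.dimP S.inv hu g rfl).symm
        have e2 : cls' S.dimP gv = c1E S.dimP hN (cls' S.dimP g) := (c1E_cls S.dimP hN hv g rfl).symm
        rw [map_sub, e1, e2, hcls, map_sum, map_sum]
        have e3 : ∀ i, c1E S.dimP S.inv (cls' S.dimP (S.xiCyc ht i (a i))) = cls' S.dimP (S.xiCyc ht (i + 1) (a i)) :=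
          fun i => c1E_cls S.dimP S.inv (ht i) (S.xiCyc ht i (a i)) rfl
        have e4 : ∀ i, c1E S.dimP hN (cls' S.dimP (S.xiCyc ht i (a i))) = cls' S.dimP (S.xiCyc ht i (cap i)) := by
          intro i
          rw [S.cls_xiCyc ht, S.cls_xiCyc ht,
            ← c1E_cls S.dimX hL hs (a i) (γ := cap i) rfl, pullCls_c1E p S.dimP S.dimX hsh hL]
          refine ((act_mul S.dimP (c1R S.dimP hN) _ _).symm.trans ?_).trans (act_mul S.dimP _ (c1R S.dimP hN) _)
          rw [mul_comm]
        have e5 : ∀ (i : ℕ) (x y : AlgebraicCycle X ℤ), cls' S.dimP (S.xiCyc ht i (x - y)) =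
            cls' S.dimP (S.xiCyc ht i x) - cls' S.dimP (S.xiCyc ht i y) := fun i x y => by
          rw [S.cls_xiCyc ht, S.cls_xiCyc ht, S.cls_xiCyc ht, map_sub, map_sub, map_sub]
        have e6 : ∀ i, cls' S.dimP (S.xiCyc ht i 0) = 0 := fun i => by
          rw [S.cls_xiCyc ht, map_zero, map_zero, map_zero]
        simp only [e3, e4, e5]
        rw [Finset.sum_sub_distrib]
        congr 1
        · rw [Finset.sum_range_succ' (fun i => cls' S.dimP (S.xiCyc ht i (a₁ i))) (j + 1)]
          simp only [a₁, if_pos, e6, add_zero, if_neg (Nat.succ_ne_zero _), Nat.add_sub_cancel]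
        · conv_rhs => rw [Finset.sum_range_succ]
          simp only [a₂, if_neg (show ¬ j + 1 ≤ j by omega), e6, add_zero]
          exact Finset.sum_congr rfl fun i hi => by rw [if_pos (Nat.lt_succ_iff.1 (Finset.mem_range.1 hi))]
  obtain ⟨g, a, -, hgs, ham, haz, hcls⟩ := main m le_rfl
  have hg0 : g = 0 := by
    ext y
    by_contra h
    haveI := hlast
    exact notMem_vanLocus q S.inv (c m) y (hgs y h)
  rw [hg0, map_zero, ← map_sum] at hcls
  have h := (cls'_eq_zero_iff S.dimP _).1 hcls.symm k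
  have hz : ∀ i ∈ Finset.range (m + 1), S.xiCyc ht i (a i) ∈ Cyc.Zk P δP k := fun i hi x hx => by_contra fun hne => by
    have hi' := Finset.mem_range.1 hi
    have := (S.delta_eq (haz i (by omega)) (show Cyc.c1PowFun δP O t i (Cyc.pullFun p δP δX m ⇑(a i)) x ≠ 0 from hne)).1
    omega
  rw [part_eq fun x hx => (ChowOps.zk P δP k).sum_mem hz x hx] at h
  have h' := S.independent (k := k - m) (fun i : Fin (m + 1) => a i) (fun i => by
      have := i.2
      have := haz i (by omega)
      rwa [show k - ((m - (i : ℕ) : ℕ) : ℤ) = k - m + ((i : ℕ) : ℤ) by omega] at this)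
    (fun _ => t) (fun _ => ht) (by
      rw [sub_add_cancel]
      refine h.congr fun y => ?_
      rw [Function.locallyFinsuppWithin.coe_sum, Finset.sum_apply]
      exact Fin.sum_univ_eq_sum_range (fun i => Cyc.c1PowFun δP O t i (Cyc.pullFun p δP δX m ⇑(a i)) y) (m + 1))
    (Fin.last m)
  simpa [ham] using h'

end GrothLib.PBDeg
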