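import Groth.Agent.Lib.PBDeg17.SymOpen
import Groth.Agent.Lib.PBDeg17.VBKill
import Groth.Agent.Lib.PBDeg17.Exists
import Groth.Agent.Lib.PBDeg17.BivLocal
import Groth.Agent.S1863

/-!
# Flat pullback to a vector bundle is injective
-/

set_option autoImplicit false
set_option backward.isDefEq.respectTransparency false
set_option linter.style.haveILetI false
set_option maxHeartbeats 1600000

universe u

open CategoryTheory CategoryTheory.Limits AlgebraicGeometry
open GrothLib.C1 GrothLib.CycFlat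

noncomputable section

namespace GrothLib.PBDeg

variable {X : Scheme.{u}}

theorem isFinLocFreeOfRank_biprod {M N : X.Modules} {m n : ℕ} (hM : FlatMod.IsFinLocFreeOfRank m M)
    (hN : FlatMod.IsFinLocFreeOfRank n N) : FlatMod.IsFinLocFreeOfRank (m + n) (M ⊞ N) := fun x => by
  obtain ⟨U, hxU, ⟨i⟩⟩ := hM x
  obtain ⟨V, hxV, ⟨j⟩⟩ := hN x
  obtain ⟨i'⟩ := DCoh.exists_free_restrict_le (inf_le_left : U ⊓ V ≤ U) i
  obtain ⟨j'⟩ := DCoh.exists_free_restrict_le (inf_le_right : U ⊓ V ≤ V) j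
  let F := Scheme.Modules.restrictFunctor (U ⊓ V).ι
  have := preservesBinaryBiproducts_of_preservesBinaryCoproducts F
  exact ⟨U ⊓ V, ⟨hxU, hxV⟩, ⟨F.mapBiprod M N ≪≫ biprod.mapIso i' j' ≪≫ DCoh.freeModBiprodIso _ _ _⟩⟩

theorem shortExact_biprod_const {A B C K : X.Modules} {a : A ⟶ B} {b : B ⟶ C} {hab : a ≫ b = 0}
    (h : (ShortComplex.mk a b hab).ShortExact) :
    (ShortComplex.mk (biprod.map a (𝟙 K)) (biprod.fst ≫ b) (by simp [hab])).ShortExact := by
  haveI := h.mono_f
  haveI := h.epi_g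
  haveI : Mono (biprod.map a (𝟙 K)) := ⟨fun f g hfg => by
    apply biprod.hom_ext
    · rw [← cancel_mono a]
      simpa using congrArg (· ≫ biprod.fst) hfg
    · simpa using congrArg (· ≫ biprod.snd) hfg⟩
  haveI : Epi (biprod.fst (X := B) (Y := K) ≫ b) := epi_comp _ _
  exact { exact := ShortComplex.exact_of_f_is_kernel _ (KernelFork.IsLimit.ofι' _ (by simp [hab]) fun {W} g hg => by
            obtain ⟨l, hl⟩ := KernelFork.IsLimit.lift' h.fIsKernel (g ≫ biprod.fst) (by simpa using hg)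
            refine ⟨biprod.lift l (g ≫ biprod.snd), ?_⟩
            apply biprod.hom_ext
            · simpa using hl
            · simp) }

/-- A cycle pulling back to zero on a vector bundle is zero. -/
theorem ratEquivZero_of_vectorBundle {δ : X → ℤ} (hX : Cyc.IsSetup X δ) {ℰ : X.Modules} {r : ℕ}
    (hr : FlatMod.IsFinLocFreeOfRank r ℰ) {A : RelSpec.QCAlg X} {j : ℰ ⟶ A.toModule}
    (hA : RelSpec.IsSymAlg ℰ A j) {δE : A.spec → ℤ} (hE : Cyc.IsSetup A.spec δE)
    (hδ : Cyc.DeltaCompat A.π δE δ) {k : ℤ} {α : AlgebraicCycle X ℤ} (hα : α ∈ Cyc.Zk X δ k)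
    {γ : AlgebraicCycle A.spec ℤ} (hγ : ⇑γ = Cyc.pullFun A.π δE δ r ⇑α)
    (h0 : Cyc.RatEquivZero δE (k + r) γ) : Cyc.RatEquivZero δ k α := by
  classical
  haveI := hX.1
  haveI := hE.1
  have hO : PicF.IsInvertible (Coh.structureModule X) := ParaPair.isInvertible_structure X
  have hE' : FlatMod.IsFinLocFreeOfRank (r + 1) (ℰ ⊞ Coh.structureModule X) :=
    isFinLocFreeOfRank_biprod hr (rankOne_iff.2 hO)
  obtain ⟨P, π, O1, q, hB, -, hπ⟩ := exists_isProjBundle hE'
  haveI := hπ
  obtain ⟨δP, hδP⟩ := CycP1.exists_deltaCompat π δ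
  have hPs : Cyc.IsSetup P δP := isSetup_of_lft hX π hδP
  haveI := hPs.1
  have S := setting_univ hX hE' hB hPs hδP
  haveI := S.charts.flat
  haveI := hB.epi
  obtain ⟨ψ, hψo, hψ, hoff⟩ := exists_openImm_projBundle hA hB
  have hψc : Cyc.DeltaCompat ψ δE δP := C1.deltaCompat_of_comp ψ π A.π hψ hδP hδ
  have hsπ : ∀ x, MaxFib π x → δP x = δ (π x) + (r : ℤ) := fun x hx => S.charts.shift S.inv S.dimP S.compat x hx
  have hsψ : ∀ x, MaxFib ψ x → δE x = δP (ψ x) + ((0 : ℕ) : ℤ) :=
    shift_of_hasRelDim ψ (hasRelDim_openImm ψ) hψc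
  let a : AlgebraicCycle P ℤ := toCycle _ (S.lf_pull α)
  have ha : a ∈ Cyc.Zk P δP (k + r) := fun x hx => by_contra fun h => by
    obtain ⟨h1, h2⟩ := pullFun_ne_zero (show Cyc.pullFun π δP δ r ⇑α x ≠ 0 from h)
    have : δ (π x) = k := by_contra fun e => h1 (hα _ e)
    omega
  have hγa : ∀ v, γ v = a (ψ v) := fun v => by
    have h := pullFun_comp ψ π hE.2.2 hPs.2.2 hsπ hsψ ⇑α
    rw [show ((r : ℤ) + ((0 : ℕ) : ℤ)) = (r : ℤ) by simp, pullFun_openImm ψ hψc] at h
    have h' : Cyc.pullFun (ψ ≫ π) δE δ r ⇑α v = a (ψ v) := congrFun h v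
    rw [hψ] at h'
    rw [hγ]
    exact h'
  -- excision
  let U : P.Opens := ψ.opensRange
  let i : A.spec ⟶ (U : Scheme.{u}) := ψ.isoOpensRange.hom
  have hi : ∀ v, U.ι (i v) = ψ v := fun v => by
    rw [← Scheme.Hom.comp_apply]
    exact congrArg (fun f : A.spec ⟶ P => f v) ψ.isoOpensRange_hom_ι
  let aU : AlgebraicCycle (U : Scheme.{u}) ℤ := toCycle (fun u => a (U.ι u)) (fun x => by
    obtain ⟨V, hV, hfin⟩ := LF.of_cycle a (U.ι x)
    exact ⟨U.ι ⁻¹ᵁ V, hV, (hfin.preimage U.ι.isOpenEmbedding.injective.injOn).subset fun y hy => hy⟩)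
  have hdU : Cyc.IsDimFun (U : Scheme.{u}) (fun u => δP (U.ι u)) := CycPush.isDimFun_openι hPs.2.2 U
  haveI : IsLocallyNoetherian (U : Scheme.{u}) := LocallyOfFiniteType.isLocallyNoetherian U.ι
  have hδi : δE = fun v => δP (U.ι (i v)) := by
    rw [residueDegree_openImm ψ hψc]
    exact funext fun v => by rw [hi]
  have hRU : RZ (fun u : (U : Scheme.{u}) => δP (U.ι u)) (k + r) (fun u => aU u) := by
    refine rz_push i hdU (a := ⇑γ) ?_ (fun v => ?_) (fun x hx => absurd ?_ hx)
    · rw [← hδi]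
      exact RZ.of_ratEquivZero hE.2.2 h0
    · show a (U.ι (i v)) = γ v
      rw [hγa, hi]
    · exact ⟨ψ.isoOpensRange.inv x, by
        show i (ψ.isoOpensRange.inv x) = x
        rw [← Scheme.Hom.comp_apply, Iso.inv_hom_id]
        rfl⟩
  obtain ⟨b, hbZ, hbU, hab⟩ := Groth.Agent.S1863.result P δP hPs U (k + r) a 0 ha (ChowOps.zk P δP _).zero_mem aU 0
    (fun _ => rfl) (fun _ => rfl) (by
      show Cyc.RatEquivZero (fun u : (U : Scheme.{u}) => δP (U.ι u)) (k + r) (aU - 0)
      rw [sub_zero]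
      exact RZ.to_ratEquivZero hdU hRU)
  -- pull back to a tower on which `ℰ` is filtered
  obtain ⟨Y, hY, h, d, δY, T, hF⟩ := exists_towerData hX (ι := Unit) (fun _ => r) (fun _ => ℰ) fun _ => hr
  haveI := T.tower.flat
  haveI := T.tower.lft
  obtain ⟨M, L, hM0, ⟨eM⟩, hs⟩ := hF ()
  let P' := pullback π h
  let f' : P' ⟶ P := pullback.fst π h
  let π' : P' ⟶ Y := pullback.snd π h
  have hsq : IsPullback f' π' π h := IsPullback.of_hasPullback π h
  haveI : IsProper π' := MorphismProperty.of_isPullback hsq inferInstance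
  haveI : Flat π' := MorphismProperty.of_isPullback hsq inferInstance
  haveI : Flat f' := MorphismProperty.of_isPullback hsq.flip inferInstance
  haveI : LocallyOfFiniteType f' := MorphismProperty.of_isPullback hsq.flip inferInstance
  obtain ⟨δ', hδ'⟩ := CycP1.exists_deltaCompat π' δY
  have hP' := isSetup_of_lft T.setupP π' hδ'
  haveI := hP'.1
  have S' : Setting π' ((Scheme.Modules.pullback f').obj O1) r δY δ' :=
    ⟨S.charts.baseChange S.inv hsq (Iso.refl _), T.setupP.2.2, hP'.2.2, hδ', C1.isInvertible_pullback f' S.inv⟩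
  have hsπ' : ∀ x, MaxFib π' x → δ' x = δY (π' x) + (r : ℤ) := fun x hx =>
    S'.charts.shift S'.inv S'.dimP S'.compat x hx
  have hsf : ∀ x, MaxFib f' x → δ' x = δP (f' x) + (d : ℤ) := fun x hx =>
    shift_of_hasRelDim f' (hasRelDim_of_isPullback hsq.flip T.tower.relDim)
      (deltaCompat_of_comp f' π (π' ≫ h) hsq.w hδP (deltaCompat_comp' π' h hδ' T.compat)) x hx
  let αY := pullCyc h T.setupP.2.2 T.shift α
  have hαY : αY ∈ Cyc.Zk Y δY (k + d) := fun x hx => by
    show Cyc.pullFun h δY δ d ⇑α x = 0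
    rw [pullFun_apply]
    split_ifs with hh
    · rw [hα _ (fun e => hx (by rw [hh, e])), zero_mul]
    · rfl
  let b' := pullCyc f' hP'.2.2 hsf b
  have hb' : b' ∈ Cyc.Zk P' δ' (k + d + r) := fun x hx => by
    show Cyc.pullFun f' δ' δP d ⇑b x = 0
    rw [pullFun_apply]
    split_ifs with hh
    · rw [hbZ _ (fun e => hx (by rw [hh, e]; ring)), zero_mul]
    · rfl
  have hR : RZ δ' (k + d + r) (fun y => b' y - Cyc.pullFun π' δ' δY r ⇑αY y) := by
    have hp := CycDiv.ratEquivZero_pullFun f' hP'.2.2 hPs.2.2 hsf _ (a - (0 + b)) hab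
      (pullCyc f' hP'.2.2 hsf (a - (0 + b))) rfl
    rw [zero_add, show k + (r : ℤ) + (d : ℤ) = k + d + r by ring, map_sub] at hp
    refine ((RZ.of_ratEquivZero hP'.2.2 hp).neg hP'.2.2).congr fun y => ?_
    have h1 := congrFun (pullFun_comp f' π hP'.2.2 hPs.2.2 hsπ hsf ⇑α) y
    have h2 := congrFun (pullFun_comp π' h hP'.2.2 T.setupP.2.2 T.shift hsπ' ⇑α) y
    rw [hsq.w, add_comm (r : ℤ) (d : ℤ), h2] at h1
    rw [Function.locallyFinsuppWithin.coe_sub]
    show b' y - _ = -(Cyc.pullFun f' δ' δP d ⇑a y - b' y)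
    rw [show Cyc.pullFun π' δ' δY r ⇑αY y = Cyc.pullFun f' δ' δP d ⇑a y from h1]
    ring
  -- the chain
  let E' := ℰ ⊞ Coh.structureModule X
  let q' : (Scheme.Modules.pullback π').obj ((Scheme.Modules.pullback h).obj E') ⟶ (Scheme.Modules.pullback f').obj O1 :=
    (Scheme.Modules.pullbackComp π' h).hom.app E' ≫ quotAlong E' q f' hsq.w
  haveI : Epi q' := by
    haveI : (Scheme.Modules.pullback f').IsLeftAdjoint :=
      (Scheme.Modules.pullbackPushforwardAdjunction f').isLeftAdjoint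
    unfold q' quotAlong
    infer_instance
  choose! hL aM bM habM hexM using hs
  let am : ∀ n, M n ⟶ M (n + 1) := fun n => if n < r then aM n else 0
  let C : ℕ ⥤ Y.Modules := Functor.ofSequence am
  let cM : ∀ n, M n ⟶ (Scheme.Modules.pullback h).obj ℰ := fun n =>
    if hn : n ≤ r then C.map (homOfLE hn) ≫ eM.hom else 0
  let K := (Scheme.Modules.pullback h).obj (Coh.structureModule X)
  let ι₂ : K ⟶ (Scheme.Modules.pullback h).obj E' := (Scheme.Modules.pullback h).map biprod.inr
  let c : ∀ n, M n ⊞ K ⟶ (Scheme.Modules.pullback h).obj E' := fun n =>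
    biprod.desc (cM n ≫ (Scheme.Modules.pullback h).map biprod.inl) ι₂
  have hcM : ∀ n, n < r → aM n ≫ cM (n + 1) = cM n := fun n hn => by
    simp only [cM, dif_pos (show n + 1 ≤ r by omega), dif_pos hn.le]
    rw [← Category.assoc]
    congr 1
    rw [show aM n = C.map (homOfLE (Nat.le_succ n)) by
      rw [Functor.ofSequence_map_homOfLE_succ]
      exact (if_pos hn).symm]
    exact (C.map_comp _ _).symm
  have hlast : Epi (c r) := by
    have hcr : cM r = eM.hom := by
      simp only [cM, dif_pos le_rfl]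
      exact (congrArg (· ≫ eM.hom) (C.map_id r)).trans (Category.id_comp _)
    let s : (Scheme.Modules.pullback h).obj E' ⟶ M r ⊞ K :=
      (Scheme.Modules.pullback h).map biprod.fst ≫ eM.inv ≫ biprod.inl +
        (Scheme.Modules.pullback h).map biprod.snd ≫ biprod.inr
    have hsc : s ≫ c r = 𝟙 _ := by
      simp only [s, c, hcr, Preadditive.add_comp, Category.assoc, biprod.inl_desc, biprod.inr_desc,
        Iso.inv_hom_id_assoc, ι₂]
      rw [← Functor.map_comp, ← Functor.map_comp, ← Functor.map_add, biprod.total]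
      exact (Scheme.Modules.pullback h).map_id _
    haveI : Epi (s ≫ c r) := by rw [hsc]; infer_instance
    exact epi_of_epi s (c r)
  have hsupp : ∀ y, b' y ≠ 0 → y ∈ vanLocus q' (c 0) := by
    intro y hy
    obtain ⟨h1, -⟩ := pullFun_ne_zero (show Cyc.pullFun f' δ' δP d ⇑b y ≠ 0 from hy)
    have hnot := hoff (f' y) (fun hmem => h1 (hbU _ hmem))
    have hc0 : biprod.snd ≫ ι₂ = c 0 := by
      apply biprod.hom_ext'
      · simp only [c, biprod.inl_desc, biprod.inl_snd_assoc, zero_comp]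
        exact hM0.eq_of_src _ _
      · simp [c]
    refine vanLocus_mono q' ι₂ biprod.snd hc0 (by_contra fun hn => hnot ?_)
    have hi1 := isIso_stalk_of_notMem_vanLocus (C1.isInvertible_pullback h hO) S'.inv q' ι₂ hn
    let q₀ := (Scheme.Modules.pullback π).map (biprod.inr : Coh.structureModule X ⟶ E') ≫ q
    have e1 : (Scheme.Modules.pullback π').map ι₂ ≫ q' =
        (Scheme.Modules.pullbackComp π' h).hom.app _ ≫ quotAlong _ q₀ f' hsq.w := by
      rw [quotAlong_map]
      exact (Category.assoc _ _ _).symm.trans ((congrArg (· ≫ _)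
        ((Scheme.Modules.pullbackComp π' h).hom.naturality biprod.inr)).trans (Category.assoc _ _ _))
    rw [e1] at hi1
    have e2 : quotAlong _ q₀ f' hsq.w = (Scheme.Modules.pullbackCongr hsq.w).inv.app _ ≫
        (Scheme.Modules.pullbackComp f' π).inv.app _ ≫ (Scheme.Modules.pullback f').map q₀ := rfl
    rw [e2, Functor.map_comp, Functor.map_comp, Functor.map_comp] at hi1
    haveI := hi1
    haveI h3 : IsIso ((OX.stalk y).map ((Scheme.Modules.pullback f').map q₀)) := by
      have h4 := IsIso.of_isIso_comp_left ((OX.stalk y).map ((Scheme.Modules.pullbackComp π' h).hom.app _))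
        ((OX.stalk y).map ((Scheme.Modules.pullbackCongr hsq.w).inv.app _) ≫
          (OX.stalk y).map ((Scheme.Modules.pullbackComp f' π).inv.app _) ≫
            (OX.stalk y).map ((Scheme.Modules.pullback f').map q₀))
      have h5 := @IsIso.of_isIso_comp_left _ _ _ _ _ ((OX.stalk y).map ((Scheme.Modules.pullbackCongr hsq.w).inv.app _))
        _ inferInstance h4
      exact @IsIso.of_isIso_comp_left _ _ _ _ _ _ _ inferInstance h5
    have hF : PicF.IsInvertible ((Scheme.Modules.pullback π).obj (Coh.structureModule X)) :=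
      C1.isInvertible_pullback π hO
    let V : P'.Opens := ⟨{z | IsIso ((OX.stalk z).map ((Scheme.Modules.pullback f').map q₀))},
      isOpen_isIso_stalk (C1.isInvertible_pullback f' hF) (C1.isInvertible_pullback f' S.inv) _⟩
    haveI : IsIso ((Scheme.Modules.pullback V.ι).map ((Scheme.Modules.pullback f').map q₀)) := by
      refine (OX.isIso_iff _).2 fun z => ?_
      haveI : IsIso ((OX.stalk (V.ι z)).map ((Scheme.Modules.pullback f').map q₀)) := z.2
      exact (NatIso.isIso_map_iff (OX.pullStalkIso V.ι z) _).2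
        (inferInstanceAs (IsIso ((ModuleCat.extendScalars (V.ι.stalkMap z).hom).map
          ((OX.stalk (V.ι z)).map ((Scheme.Modules.pullback f').map q₀)))))
    haveI : IsIso ((Scheme.Modules.pullback (V.ι ≫ f')).map q₀) :=
      (NatIso.isIso_map_iff (Scheme.Modules.pullbackComp V.ι f') q₀).1
        (inferInstanceAs (IsIso ((Scheme.Modules.pullback V.ι).map ((Scheme.Modules.pullback f').map q₀))))
    exact FibTriv28.isIso_stalk_of_isIso_pullback' (V.ι ≫ f') (FinCov.isFinLocFree_of_rank (rankOne_iff.2 hF))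
      (FinCov.isFinLocFree_of_rank hB.invertible) q₀ (⟨y, h3⟩ : V)
  have hzero := S'.eq_zero_of_chain q' (fun n => M n ⊞ K) L c hlast (fun n hn =>
    ⟨hL n hn, biprod.map (aM n) (𝟙 K), biprod.fst ≫ bM n, by simp [habM n hn], shortExact_biprod_const (hexM n hn), by
      apply biprod.hom_ext'
      · simp [c, reassoc_of% (hcM n hn)]
      · simp [c]⟩) hαY hb' hsupp hR
  have hid : Cyc.DeltaCompat (𝟙 X) δ δ := Bivar.deltaCompat_id δ
  exact T.tower.inj X (𝟙 X) δ T.setupX hid Y h (𝟙 Y) (IsPullback.of_horiz_isIso ⟨by simp⟩) δY T.setupP T.compat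
    k α hα αY rfl hzero

end GrothLib.PBDeg
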