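import Groth.Agent.Lib.PBDeg17.PosSheaf
import Groth.Agent.S1896

/-!
# Submodules given by stalk conditions, and the class of a coherent module in the quotient
-/

set_option autoImplicit false
set_option linter.style.haveILetI false
set_option linter.unusedVariables false
set_option linter.unusedSectionVars false

universe u

open CategoryTheory CategoryTheory.Limits AlgebraicGeometry Opposite TopologicalSpace

noncomputable section

namespace GrothLib.PBDeg.K0Cyc

open GrothLib GrothLib.PBDeg.KPhi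

attribute [local instance] Abelian.hasFiniteBiproducts

variable {X : Scheme.{u}}

/-- The sections whose germs satisfy prescribed conditions. -/
def gsub (M : X.Modules) (W : ∀ z : X, Submodule (X.presheaf.stalk z) (stk M z)) : QCoh.SubData M where
  sec V :=
    { carrier := {s | ∀ z (hz : z ∈ V), M.presheaf.germ V z hz s ∈ W z}
      add_mem' := fun {a b} ha hb z hz => by
        show M.presheaf.germ V z hz (a + b) ∈ W z
        rw [map_add]
        exact (W z).add_mem (ha z hz) (hb z hz)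
      zero_mem' := fun z hz => by
        show M.presheaf.germ V z hz 0 ∈ W z
        rw [map_zero]
        exact (W z).zero_mem
      smul_mem' := fun r s hs z hz => by
        show M.presheaf.germ V z hz (r • s) ∈ W z
        rw [WeakAss.germ_smul]
        exact (W z).smul_mem _ (hs z hz) }
  map_mem {U V} i s hs z hz := by
    rw [QCoh.germ_map]
    exact hs z (i.le hz)
  locality {U} s h z hz := by
    obtain ⟨V, i, hzV, hV⟩ := h z hz
    have := hV z hzV
    rwa [QCoh.germ_map] at this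

/-- The conditions are implied by high powers of the maximal ideals. -/
def Good (M : X.Modules) (W : ∀ z : X, Submodule (X.presheaf.stalk z) (stk M z)) : Prop :=
  ∀ U : X.Opens, IsAffineOpen U → ∃ m : ℕ, ∀ z ∈ U,
    ∀ r ∈ IsLocalRing.maximalIdeal (X.presheaf.stalk z), ∀ e : stk M z, r ^ m • e ∈ W z

/-- The conditions are only at a locally finite set of points. -/
def WLF (M : X.Modules) (W : ∀ z : X, Submodule (X.presheaf.stalk z) (stk M z)) : Prop :=
  ∀ p : X, ∃ U : X.Opens, p ∈ U ∧ {z | z ∈ U ∧ W z ≠ ⊤}.Finite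

theorem gsub_isQuasicoherent (M : X.Modules) [M.IsQuasicoherent]
    (W : ∀ z : X, Submodule (X.presheaf.stalk z) (stk M z)) (hW : Good M W) :
    (gsub M W).obj.IsQuasicoherent := by
  refine (gsub M W).isQuasicoherent fun U hU g t ht => ?_
  obtain ⟨m, hm⟩ := hW U hU
  refine ⟨m, fun z hz => ?_⟩
  rw [WeakAss.germ_smul, map_pow]
  by_cases hg : z ∈ X.basicOpen g
  · have := ht z hg
    rw [QCoh.germ_map] at this
    exact (W z).smul_mem _ this
  · exact hm z hz _ (fun h => hg ((Scheme.mem_basicOpen _ g z hz).2 h)) _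

theorem gsub_isCoh [IsLocallyNoetherian X] (M : X.Modules) (hM : Coh.IsCoh M)
    (W : ∀ z : X, Submodule (X.presheaf.stalk z) (stk M z)) (hW : Good M W) :
    Coh.IsCoh (gsub M W).obj := by
  haveI := hM.1
  haveI := gsub_isQuasicoherent M W hW
  exact ⟨inferInstance, (gsub M W).isFiniteType hM⟩

instance gsub_mono (M : X.Modules) (W : ∀ z : X, Submodule (X.presheaf.stalk z) (stk M z)) :
    Mono (gsub M W).ι :=
  QCoh.mono_of_app_injective _ (gsub M W).ι_app_injective

theorem gsub_stalk_mem (M : X.Modules) (W : ∀ z : X, Submodule (X.presheaf.stalk z) (stk M z)) (x : X)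
    (e : stk (gsub M W).obj x) {z : X} (h : z ⤳ x) : specHom M h (stL (gsub M W).ι x e) ∈ W z := by
  obtain ⟨U, hx, s, rfl⟩ := TopCat.Presheaf.exists_germ_eq (gsub M W).obj.presheaf e
  erw [QCoh.stalkLin_germ, specHom_germ]
  exact (gsub M W).ι_app_mem s z _

theorem gsub_stalk_lift (M : X.Modules) (W : ∀ z : X, Submodule (X.presheaf.stalk z) (stk M z))
    (hW : WLF M W) (x : X) (e : stk M x) (he : ∀ (z : X) (h : z ⤳ x), specHom M h e ∈ W z) :
    e ∈ LinearMap.range (stL (gsub M W).ι x) := by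
  obtain ⟨U₀, hx₀, s, rfl⟩ := TopCat.Presheaf.exists_germ_eq M.presheaf e
  obtain ⟨U₁, hx₁, hfin⟩ := hW x
  set B := {z | z ∈ U₁ ∧ W z ≠ ⊤ ∧ ¬ z ⤳ x} with hB
  have hBfin : B.Finite := hfin.subset fun z hz => ⟨hz.1, hz.2.1⟩
  have hC : IsClosed (⋃ z ∈ B, closure ({z} : Set X)) := hBfin.isClosed_biUnion fun z _ => isClosed_closure
  let V : X.Opens := U₀ ⊓ U₁ ⊓ ⟨(⋃ z ∈ B, closure ({z} : Set X))ᶜ, hC.isOpen_compl⟩
  have hxV : x ∈ V := by
    refine ⟨⟨hx₀, hx₁⟩, ?_⟩
    show x ∉ ⋃ z ∈ B, closure ({z} : Set X)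
    rw [Set.mem_iUnion₂]
    rintro ⟨z, hz, hxz⟩
    exact hz.2.2 (specializes_iff_mem_closure.2 hxz)
  have hV0 : V ≤ U₀ := fun z hz => hz.1.1
  let t := M.presheaf.map (homOfLE hV0).op s
  have hmem : t ∈ (gsub M W).sec V := by
    intro z hz
    rw [QCoh.germ_map]
    by_cases hzW : W z = ⊤
    · rw [hzW]; trivial
    · by_cases hzx : z ⤳ x
      · have h := he z hzx
        erw [specHom_germ] at h
        exact h
      · exact absurd (Set.mem_biUnion (show z ∈ B from ⟨hz.1.2, hzW, hzx⟩)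
          (subset_closure (Set.mem_singleton z))) hz.2
  refine ⟨(gsub M W).obj.presheaf.germ V x hxV ((gsub M W).lift t hmem), ?_⟩
  erw [QCoh.stalkLin_germ]
  exact QCoh.germ_map M _ hxV s

/-- A map between the submodules of two sets of conditions. -/
theorem exists_gsub_map (M : X.Modules) {W W' : ∀ z : X, Submodule (X.presheaf.stalk z) (stk M z)}
    (h : ∀ z, W z ≤ W' z) : ∃ f : (gsub M W).obj ⟶ (gsub M W').obj, f ≫ (gsub M W').ι = (gsub M W).ι := by
  let g : ∀ V : X.Opens, (gsub M W).sec V →ₗ[Γ(X, V)] (gsub M W').sec V := fun V =>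
    Submodule.inclusion fun s hs z hz => h z (hs z hz)
  exact ⟨⟨PresheafOfModules.homMk
    { app := fun V => AddCommGrpCat.ofHom (g V.unop).toAddMonoidHom
      naturality := fun _ _ _ => rfl } fun _ _ _ => rfl⟩, rfl⟩

/-- Finite length modules are killed by a power of the maximal ideal. -/
theorem exists_pow_smul_eq_bot {A M : Type u} [CommRing A] [IsLocalRing A] [IsNoetherianRing A]
    [AddCommGroup M] [Module A M] (h : Module.length A M ≠ ⊤) :
    ∃ N : ℕ, ((IsLocalRing.maximalIdeal A) ^ N • ⊤ : Submodule A M) = ⊥ := by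
  haveI : IsFiniteLength A M := Module.length_ne_top_iff.1 h
  haveI : IsArtinian A M := (isFiniteLength_iff_isNoetherian_isArtinian.1 ‹_›).2
  haveI : IsNoetherian A M := (isFiniteLength_iff_isNoetherian_isArtinian.1 ‹_›).1
  obtain ⟨n, hn⟩ := IsArtinian.monotone_stabilizes (R := A) (M := M)
    ⟨fun j => OrderDual.toDual ((IsLocalRing.maximalIdeal A) ^ j • ⊤ : Submodule A M),
      fun a b hab => Submodule.smul_mono_left (Ideal.pow_le_pow_right hab)⟩
  refine ⟨n, Submodule.eq_bot_of_le_smul_of_le_jacobson_bot (IsLocalRing.maximalIdeal A) _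
    (IsNoetherian.noetherian _) ?_ (IsLocalRing.maximalIdeal_le_jacobson _)⟩
  rw [← Submodule.mul_smul, ← pow_succ']
  exact le_of_eq (hn (n + 1) (Nat.le_succ n))

/-- Two modules killed by the maximal ideal with the same finite length are isomorphic. -/
theorem nonempty_equiv_of_killed {A : Type u} [CommRing A] [IsLocalRing A] {M N : Type u}
    [AddCommGroup M] [Module A M] [AddCommGroup N] [Module A N]
    (hM : ∀ r ∈ IsLocalRing.maximalIdeal A, ∀ e : M, r • e = 0)
    (hN : ∀ r ∈ IsLocalRing.maximalIdeal A, ∀ e : N, r • e = 0)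
    (hl : Module.length A M = Module.length A N) (hf : Module.length A M ≠ ⊤) :
    Nonempty (M ≃ₗ[A] N) := by
  let I := IsLocalRing.maximalIdeal A
  letI : Field (A ⧸ I) := Ideal.Quotient.field I
  have tM : Module.IsTorsionBySet A M (I : Set A) := fun e r => hM r.1 r.2 e
  have tN : Module.IsTorsionBySet A N (I : Set A) := fun e r => hN r.1 r.2 e
  letI : Module (A ⧸ I) M := tM.module
  letI : Module (A ⧸ I) N := tN.module
  haveI : IsScalarTower A (A ⧸ I) M := tM.isScalarTower
  haveI : IsScalarTower A (A ⧸ I) N := tN.isScalarTower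
  have eM : Module.length A M = Module.length (A ⧸ I) M :=
    CycBasic.length_eq_of_surjective _ Ideal.Quotient.mk_surjective _ fun r e => rfl
  have eN : Module.length A N = Module.length (A ⧸ I) N :=
    CycBasic.length_eq_of_surjective _ Ideal.Quotient.mk_surjective _ fun r e => rfl
  have hfM : Module.Finite (A ⧸ I) M := by
    haveI : IsFiniteLength (A ⧸ I) M := Module.length_ne_top_iff.1 (eM ▸ hf)
    exact ⟨(isFiniteLength_iff_isNoetherian_isArtinian.1 ‹_›).1.noetherian ⊤⟩
  have hfN : Module.Finite (A ⧸ I) N := by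
    haveI : IsFiniteLength (A ⧸ I) N := Module.length_ne_top_iff.1 (eN ▸ hl ▸ hf)
    exact ⟨(isFiniteLength_iff_isNoetherian_isArtinian.1 ‹_›).1.noetherian ⊤⟩
  have hr : Module.finrank (A ⧸ I) M = Module.finrank (A ⧸ I) N := by
    have := hl
    rw [eM, eN, Module.length_eq_finrank, Module.length_eq_finrank] at this
    exact_mod_cast this
  exact ⟨(LinearEquiv.ofFinrankEq M N hr).restrictScalars A⟩

section classes

variable [IsLocallyNoetherian X] {δ : X → ℤ} {a b k : ℤ}

/-- The class in the quotient. -/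
abbrev q (δ : X → ℤ) (a b : ℤ) (F : X.Modules) : Cyc.K0CohQuot δ a b := Cyc.toK0CohQuot δ a b F

theorem q_add {T : ShortComplex X.Modules} (hT : T.ShortExact) (h₁ : Cyc.CohLe δ a T.X₁)
    (h₂ : Cyc.CohLe δ a T.X₂) (h₃ : Cyc.CohLe δ a T.X₃) :
    q δ a b T.X₂ = q δ a b T.X₁ + q δ a b T.X₃ := by
  show QuotientAddGroup.mk _ = _
  rw [K0Sub.clSub_add hT h₁ h₂ h₃]
  rfl

theorem q_zero {F : X.Modules} (hF : Cyc.CohLe δ b F) : q δ a b F = 0 :=
  (QuotientAddGroup.eq_zero_iff _).2 (AddSubgroup.subset_closure ⟨F, hF, rfl⟩)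

theorem cohLe_pred {F : X.Modules} (hF : Cyc.CohLe δ k F)
    (hk : ∀ x : X, δ x = k → Subsingleton (stk F x)) : Cyc.CohLe δ (k - 1) F :=
  ⟨hF.1, fun x hx => by
    have h1 := hF.2 x hx
    rcases eq_or_lt_of_le h1 with h | h
    · haveI := hk x h
      exact absurd hx (not_nontrivial_iff_subsingleton.2 (inferInstance : Subsingleton (stk F x)))
    · omega⟩

theorem q_biprod {F G : X.Modules} (hF : Cyc.CohLe δ a F) (hG : Cyc.CohLe δ a G) :
    Cyc.CohLe δ a (F ⊞ G) ∧ q δ a b (F ⊞ G) = q δ a b F + q δ a b G := by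
  have hT := (ShortComplex.Splitting.ofHasBinaryBiproduct F G).shortExact
  have h : Cyc.CohLe δ a (F ⊞ G) := by
    refine ⟨QCoh.isCoh_biprod' hF.1 hG.1, fun x hx => ?_⟩
    rcases (QCoh.support_subset_union hT) (CycBasic.nontrivial_iff_mem_support.1 hx) with h | h
    · exact hF.2 x (CycBasic.nontrivial_iff_mem_support.2 h)
    · exact hG.2 x (CycBasic.nontrivial_iff_mem_support.2 h)
  exact ⟨h, q_add hT hF h hG⟩

/-- A morphism that is bijective at the points of dimension `k`. -/
theorem q_eq_of_hom {A B : X.Modules} (f : A ⟶ B) (hk : k ≤ a) (hb : k - 1 ≤ b) (hA : Cyc.CohLe δ k A)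
    (hB : Cyc.CohLe δ k B) (h : ∀ z : X, δ z = k → Function.Bijective (stL f z)) :
    q δ a b A = q δ a b B := by
  have hK : Cyc.CohLe δ (k - 1) (kernel f) := by
    refine cohLe_pred (cohLe_kernel f hA hB.1) fun z hz => ?_
    exact QCoh.stalk_subsingleton_of_notMem (QCoh.notMem_support_kernel_of_injective f (h z hz).1)
  have hC : Cyc.CohLe δ (k - 1) (cokernel f) := by
    refine cohLe_pred (cohLe_cokernel f hA.1 hB) fun z hz => ?_
    exact QCoh.stalk_subsingleton_of_notMem (QCoh.notMem_support_cokernel_of_surjective f (h z hz).2)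
  have hI := cohLe_image f hA.1 hB
  obtain ⟨w, hs⟩ := QCoh.shortExact_kernel_image f
  have e1 := q_add (b := b) hs (cohLe_mono (by omega) hK) (cohLe_mono hk hA) (cohLe_mono hk hI)
  have e2 := q_add (b := b) (QCoh.shortExact_image_cokernel f) (cohLe_mono hk hI) (cohLe_mono hk hB)
    (cohLe_mono (by omega) hC)
  dsimp only at e1 e2
  rw [e1, e2, q_zero (cohLe_mono hb hK), q_zero (cohLe_mono hb hC), zero_add, add_zero]

theorem finite_level_affine (hδ : Cyc.IsDimFun X δ) {F : X.Modules} (hF : Cyc.CohLe δ k F) {U : X.Opens}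
    (hU : IsAffineOpen U) : {z | z ∈ U ∧ δ z = k ∧ Nontrivial (F.presheaf.stalk z)}.Finite := by
  choose V hV hfin using locFin_level hδ hF.1 hF.2
  obtain ⟨t, ht⟩ := hU.isCompact.elim_finite_subcover (fun p => ((V p : X.Opens) : Set X))
    (fun p => (V p).2) fun z hz => Set.mem_iUnion.2 ⟨z, hV z⟩
  refine (t.finite_toSet.biUnion fun p _ => hfin p).subset fun z hz => ?_
  obtain ⟨p, hp, hzp⟩ := Set.mem_iUnion₂.1 (ht hz.1)
  exact Set.mem_biUnion hp ⟨hzp, hz.2⟩

theorem exists_pow_kill (hδ : Cyc.IsDimFun X δ) {F : X.Modules} (hF : Cyc.CohLe δ k F) {U : X.Opens}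
    (hU : IsAffineOpen U) : ∃ m : ℕ, ∀ z ∈ U, δ z = k → ∀ j, m ≤ j →
      ((IsLocalRing.maximalIdeal (X.presheaf.stalk z)) ^ j • ⊤ :
        Submodule (X.presheaf.stalk z) (stk F z)) = ⊥ := by
  classical
  have key : ∀ z : X, δ z = k → ∃ N : ℕ, ((IsLocalRing.maximalIdeal (X.presheaf.stalk z)) ^ N • ⊤ :
        Submodule (X.presheaf.stalk z) (stk F z)) = ⊥ := fun z hz =>
    exists_pow_smul_eq_bot (CycBasic.length_lt_top_of_maximal hF.1 (maximal_of_le hδ hF.2 hz)).ne
  let N : X → ℕ := fun z => if h : δ z = k then (key z h).choose else 0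
  refine ⟨(finite_level_affine hδ hF hU).toFinset.sup N, fun z hz hzk j hj => ?_⟩
  by_cases hn : Nontrivial (F.presheaf.stalk z)
  · refine eq_bot_iff.2 ((Submodule.smul_mono_left (Ideal.pow_le_pow_right ?_)).trans
      (le_of_eq (key z hzk).choose_spec))
    refine le_trans (le_of_eq ?_) ((Finset.le_sup
      ((finite_level_affine hδ hF hU).mem_toFinset.2 ⟨hz, hzk, hn⟩)).trans hj)
    simp only [N, dif_pos hzk]
  · haveI : Subsingleton (stk F z) := not_nontrivial_iff_subsingleton.1 hn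
    exact Subsingleton.elim _ _

open Classical in
/-- Conditions only at the points of dimension `k`. -/
def lev {M : X.Modules} (δ : X → ℤ) (k : ℤ) (V : ∀ z : X, Submodule (X.presheaf.stalk z) (stk M z)) :
    ∀ z : X, Submodule (X.presheaf.stalk z) (stk M z) :=
  fun z => if δ z = k then V z else ⊤

theorem lev_eq {M : X.Modules} (V : ∀ z : X, Submodule (X.presheaf.stalk z) (stk M z)) {z : X}
    (hz : δ z = k) : lev δ k V z = V z := if_pos hz

theorem lev_of_ne {M : X.Modules} (V : ∀ z : X, Submodule (X.presheaf.stalk z) (stk M z)) {z : X}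
    (hz : δ z ≠ k) : lev δ k V z = ⊤ := if_neg hz

theorem good_lev (hδ : Cyc.IsDimFun X δ) {M : X.Modules} (hM : Cyc.CohLe δ k M)
    (V : ∀ z : X, Submodule (X.presheaf.stalk z) (stk M z)) : Good M (lev δ k V) := by
  intro U hU
  obtain ⟨m, hm⟩ := exists_pow_kill hδ hM hU
  refine ⟨m, fun z hz r hr e => ?_⟩
  by_cases hzk : δ z = k
  · have h : r ^ m • e ∈ ((IsLocalRing.maximalIdeal (X.presheaf.stalk z)) ^ m • ⊤ :
        Submodule (X.presheaf.stalk z) (stk M z)) :=
      Submodule.smul_mem_smul (Ideal.pow_mem_pow hr m) trivial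
    rw [hm z hz hzk m le_rfl, Submodule.mem_bot] at h
    rw [h]
    exact Submodule.zero_mem _
  · rw [lev_of_ne V hzk]
    trivial

theorem wlf_lev (hδ : Cyc.IsDimFun X δ) {M : X.Modules} (hM : Cyc.CohLe δ k M)
    (V : ∀ z : X, Submodule (X.presheaf.stalk z) (stk M z)) : WLF M (lev δ k V) := by
  intro p
  obtain ⟨U, hp, hfin⟩ := locFin_level hδ hM.1 hM.2 p
  refine ⟨U, hp, hfin.subset fun z hz => ⟨hz.1, ?_⟩⟩
  have hzk : δ z = k := by_contra fun h => hz.2 (lev_of_ne V h)
  refine ⟨hzk, by_contra fun hn => hz.2 ?_⟩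
  haveI : Subsingleton (stk M z) := not_nontrivial_iff_subsingleton.1 hn
  exact Subsingleton.elim _ _

theorem cohLe_gsub (hδ : Cyc.IsDimFun X δ) {M : X.Modules} (hM : Cyc.CohLe δ k M)
    (V : ∀ z : X, Submodule (X.presheaf.stalk z) (stk M z)) :
    Cyc.CohLe δ k (gsub M (lev δ k V)).obj :=
  cohLe_of_support (gsub_isCoh M hM.1 _ (good_lev hδ hM V)) (QCoh.support_subset_of_mono (gsub M _).ι) hM

theorem specHom_refl (F : X.Modules) {z : X} (h : z ⤳ z) (e : stk F z) : specHom F h e = e := by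
  obtain ⟨U, hU, s, rfl⟩ := TopCat.Presheaf.exists_germ_eq F.presheaf e
  exact specHom_germ F h U hU s

theorem range_gsub_stalk (hδ : Cyc.IsDimFun X δ) {M : X.Modules} (hM : Cyc.CohLe δ k M)
    (V : ∀ z : X, Submodule (X.presheaf.stalk z) (stk M z)) {z : X} (hz : δ z = k) :
    LinearMap.range (stL (gsub M (lev δ k V)).ι z) = V z := by
  refine le_antisymm ?_ fun e he => gsub_stalk_lift M _ (wlf_lev hδ hM V) z e fun y hy => ?_
  · rintro _ ⟨e, rfl⟩
    have := gsub_stalk_mem M (lev δ k V) z e (specializes_rfl : z ⤳ z)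
    rwa [specHom_refl, lev_eq V hz] at this
  · rcases eq_or_ne y z with rfl | hne
    · rw [specHom_refl, lev_eq V hz]
      exact he
    · rw [lev_of_ne V (by have := (hδ y z hy hne).1; omega)]
      trivial

/-- Modules with isomorphic stalks at the points of dimension `k`. -/
theorem q_eq_of_stalk (hδ : Cyc.IsDimFun X δ) (hk : k ≤ a) (hb : k - 1 ≤ b) {G G' : X.Modules}
    (hG : Cyc.CohLe δ k G) (hG' : Cyc.CohLe δ k G')
    (φ : ∀ z : X, δ z = k → Nonempty (stk G z ≃ₗ[X.presheaf.stalk z] stk G' z)) :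
    q δ a b G = q δ a b G' := by
  classical
  let M := G ⊞ G'
  have hM : Cyc.CohLe δ k M := (q_biprod (b := b) hG hG').1
  let ψ : ∀ z : X, stk G z →ₗ[X.presheaf.stalk z] stk G' z := fun z =>
    if h : δ z = k then (φ z h).some.toLinearMap else 0
  let V : ∀ z : X, Submodule (X.presheaf.stalk z) (stk M z) := fun z =>
    LinearMap.ker ((ψ z).comp (stL (biprod.fst : M ⟶ G) z) - stL (biprod.snd : M ⟶ G') z)
  let J := (gsub M (lev δ k V)).obj
  have hJ : Cyc.CohLe δ k J := cohLe_gsub hδ hM V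
  have hψ : ∀ z, δ z = k → Function.Bijective (ψ z) := fun z hz => by
    simp only [ψ, dif_pos hz]
    exact (φ z hz).some.bijective
  have hrel : ∀ z, δ z = k → ∀ e : stk J z,
      ψ z (stL ((gsub M (lev δ k V)).ι ≫ biprod.fst) z e) =
        stL ((gsub M (lev δ k V)).ι ≫ biprod.snd) z e := by
    intro z hz e
    have hmem : stL (gsub M (lev δ k V)).ι z e ∈ V z := by
      rw [← range_gsub_stalk hδ hM V hz]
      exact ⟨e, rfl⟩
    have := LinearMap.mem_ker.1 hmem
    rw [LinearMap.sub_apply, sub_eq_zero, LinearMap.comp_apply] at this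
    exact ((congrArg (ψ z) (QCoh.stalkLin_comp _ _ z e)).trans this).trans (QCoh.stalkLin_comp _ _ z e).symm
  have hfst : ∀ z, δ z = k → Function.Bijective (stL ((gsub M (lev δ k V)).ι ≫ biprod.fst) z) := by
    intro z hz
    refine ⟨(injective_iff_map_eq_zero _).2 fun e he => ?_, fun g => ?_⟩
    · have h2 : stL ((gsub M (lev δ k V)).ι ≫ biprod.snd) z e = 0 := by
        rw [← hrel z hz, he, map_zero]
      apply stL_injective (gsub M (lev δ k V)).ι z
      rw [map_zero]
      have ht := congrArg (fun p => ((OX.stalk z).map p).hom (stL (gsub M (lev δ k V)).ι z e))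
        (biprod.total (X := G) (Y := G'))
      simp only [Functor.map_add, Functor.map_comp, CategoryTheory.Functor.map_id, ModuleCat.hom_add,
        ModuleCat.hom_comp, LinearMap.add_apply, LinearMap.comp_apply, ModuleCat.hom_id, LinearMap.id_apply] at ht
      refine Eq.trans ?_ (ht.symm.trans ?_)
      · show _ = ((OX.stalk z).map (𝟙 M)).hom _
        rw [CategoryTheory.Functor.map_id]
        rfl
      have e1 : stL (biprod.fst : M ⟶ G) z (stL (gsub M (lev δ k V)).ι z e) = 0 :=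
        (QCoh.stalkLin_comp _ _ z e).symm.trans he
      have e2 : stL (biprod.snd : M ⟶ G') z (stL (gsub M (lev δ k V)).ι z e) = 0 :=
        (QCoh.stalkLin_comp _ _ z e).symm.trans h2
      refine (congrArg₂ (· + ·) ((congrArg _ e1).trans (map_zero _)) ((congrArg _ e2).trans (map_zero _))).trans
        (add_zero _)
    · let w : stk M z := stL (biprod.inl : G ⟶ M) z g + stL (biprod.inr : G' ⟶ M) z (ψ z g)
      have hid : ∀ {A B : X.Modules} (p : A ⟶ B) (r : B ⟶ A), p ≫ r = 𝟙 A → ∀ v, stL r z (stL p z v) = v := by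
        intro A B p r hpr v
        refine (QCoh.stalkLin_comp p r z v).symm.trans ?_
        rw [hpr]
        show ((OX.stalk z).map (𝟙 A)).hom v = v
        rw [CategoryTheory.Functor.map_id]
        rfl
      have hz0 : ∀ {A B C : X.Modules} (p : A ⟶ B) (r : B ⟶ C), p ≫ r = 0 → ∀ v, stL r z (stL p z v) = 0 := by
        intro A B C p r hpr v
        refine (QCoh.stalkLin_comp p r z v).symm.trans ?_
        rw [hpr]
        show ((OX.stalk z).map (0 : A ⟶ C)).hom v = 0
        rw [Functor.map_zero]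
        rfl
      have w1 : stL (biprod.fst : M ⟶ G) z w = g := by
        rw [map_add, hid _ _ biprod.inl_fst, hz0 _ _ biprod.inr_fst, add_zero]
      have w2 : stL (biprod.snd : M ⟶ G') z w = ψ z g := by
        rw [map_add, hz0 _ _ biprod.inl_snd, hid _ _ biprod.inr_snd, zero_add]
      obtain ⟨e, he⟩ := (range_gsub_stalk hδ hM V hz).symm.le (show w ∈ V z from by
        rw [LinearMap.mem_ker, LinearMap.sub_apply, LinearMap.comp_apply, w1, w2, sub_self])
      exact ⟨e, (QCoh.stalkLin_comp _ _ z e).trans ((congrArg _ he).trans w1)⟩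
  have hsnd : ∀ z, δ z = k → Function.Bijective (stL ((gsub M (lev δ k V)).ι ≫ biprod.snd) z) := by
    intro z hz
    have : (stL ((gsub M (lev δ k V)).ι ≫ biprod.snd) z : stk J z → stk G' z) =
        ψ z ∘ stL ((gsub M (lev δ k V)).ι ≫ biprod.fst) z := funext fun e => (hrel z hz e).symm
    rw [this]
    exact (hψ z hz).comp (hfst z hz)
  exact (q_eq_of_hom _ hk hb hJ hG hfst).symm.trans (q_eq_of_hom _ hk hb hJ hG' hsnd)

/-- The length at a point as a natural number. -/
theorem sheafFun_add (hX : Cyc.IsSetup X δ) {T : ShortComplex X.Modules} (hT : T.ShortExact)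
    (h₁ : Cyc.CohLe δ k T.X₁) (h₂ : Cyc.CohLe δ k T.X₂) (h₃ : Cyc.CohLe δ k T.X₃) :
    Cyc.sheafFun δ k T.X₂ = Cyc.sheafFun δ k T.X₁ + Cyc.sheafFun δ k T.X₃ :=
  Groth.Agent.S1896.result X δ hX k T hT h₁.1 h₂.1 h₃.1 h₂.2

theorem lf_sheafFun (hδ : Cyc.IsDimFun X δ) {F : X.Modules} (hF : Cyc.CohLe δ k F) :
    C1.LF (Cyc.sheafFun δ k F) := fun p => by
  obtain ⟨U, hp, hfin⟩ := locFin_level hδ hF.1 hF.2 p
  refine ⟨U, hp, hfin.subset fun z hz => ?_⟩
  obtain ⟨hzU, hz⟩ := hz
  simp only [Cyc.sheafFun] at hz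
  by_cases hzk : δ z = k
  · refine ⟨hzU, hzk, by_contra fun hn => hz ?_⟩
    haveI : Subsingleton (F.presheaf.stalk z) := not_nontrivial_iff_subsingleton.1 hn
    rw [if_pos hzk, Module.length_eq_zero]
    rfl
  · exact absurd (if_neg hzk) hz

theorem sheafFun_supp {F : X.Modules} {x : X} (h : Cyc.sheafFun δ k F x ≠ 0) : δ x = k :=
  by_contra fun hx => h (if_neg hx)

theorem killed_sigma_stalk {J : Type u} (F : J → X.Modules) (z : X) (r : X.presheaf.stalk z)
    (h : ∀ j, ∀ e : stk (F j) z, r • e = 0) (e : stk (∐ F) z) : r • e = 0 := by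
  let M : ModuleCat.{u} (X.presheaf.stalk z) := (OX.stalk z).obj (∐ F)
  let μ : M ⟶ M := ModuleCat.ofHom (r • (LinearMap.id : M →ₗ[X.presheaf.stalk z] M))
  have h0 : μ = 0 := K0Sub.stalk_sigma_hom_ext (F := F) (x := z) μ 0 fun j => by
    refine ModuleCat.hom_ext (LinearMap.ext fun e => ?_)
    change r • ((OX.stalk z).map (Sigma.ι F j)).hom e = 0
    rw [← map_smul, h, map_zero]
  exact congrArg (fun g : M ⟶ M => g.hom e) h0

theorem killed_pos (hδ : Cyc.IsDimFun X δ) {α : X → ℤ} (hk : ∀ x, α x ≠ 0 → δ x = k) {z : X}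
    (hz : δ z = k) {r : X.presheaf.stalk z} (hr : r ∈ IsLocalRing.maximalIdeal (X.presheaf.stalk z))
    (e : stk (Cyc.cycleSheafPos α) z) : r • e = 0 := by
  refine killed_sigma_stalk (fun i : PosIdx α => Cyc.closureStructureSheaf i.1.1) z r (fun i e => ?_) e
  by_cases hiz : i.1.1 = z
  · subst hiz
    let f : stk (Cyc.closureStructureSheaf i.1.1) i.1.1 ≃ₗ[X.presheaf.stalk i.1.1]
        IsLocalRing.ResidueField (X.presheaf.stalk i.1.1) := (K0Sub.closureSheaf_data i.1.1).2.2.some
    apply f.injective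
    rw [map_smul, map_zero, Algebra.smul_def, show algebraMap (X.presheaf.stalk i.1.1)
      (IsLocalRing.ResidueField (X.presheaf.stalk i.1.1)) r = 0 from (IsLocalRing.residue_eq_zero_iff _).2 hr,
      zero_mul]
  · haveI : Subsingleton (stk (Cyc.closureStructureSheaf i.1.1) z) := not_nontrivial_iff_subsingleton.1 fun h => by
      have hs := specializes_iff_mem_closure.2
        ((K0Sub.closureSheaf_data i.1.1).2.1 (CycBasic.nontrivial_iff_mem_support.1 h))
      have h1 := (hδ _ _ hs hiz).1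
      have h2 := hk i.1.1 (ne_of_gt i.1.2)
      omega
    exact Subsingleton.elim _ _

/-- A module semisimple at the points of dimension `k` is the module of its cycle. -/
theorem q_eq_pos_of_killed (hδ : Cyc.IsDimFun X δ) (hk : k ≤ a) (hb : k - 1 ≤ b) {G : X.Modules}
    (hG : Cyc.CohLe δ k G) (hkill : ∀ z, δ z = k → ∀ r ∈ IsLocalRing.maximalIdeal (X.presheaf.stalk z),
      ∀ e : stk G z, r • e = 0) :
    q δ a b G = q δ a b (Cyc.cycleSheafPos (Cyc.sheafFun δ k G)) := by
  have hl := lf_sheafFun hδ hG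
  have hP : Cyc.CohLe δ k (Cyc.cycleSheafPos (Cyc.sheafFun δ k G)) :=
    cohLe_pos hδ hl fun x hx => (sheafFun_supp hx).le
  refine q_eq_of_stalk hδ hk hb hG hP fun z hz => nonempty_equiv_of_killed (hkill z hz)
    (fun r hr e => killed_pos hδ (fun x => sheafFun_supp) hz hr e) ?_ ?_
  · have h1 := CycBasic.length_lt_top_of_maximal hG.1 (maximal_of_le hδ hG.2 hz)
    have h2 := CycBasic.length_lt_top_of_maximal hP.1 (maximal_of_le hδ hP.2 hz)
    have h3 := congrFun (sheafFun_pos hδ hl fun x => sheafFun_supp) z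
    simp only [Cyc.sheafFun, if_pos hz] at h3
    rw [max_eq_left (Nat.cast_nonneg _), Nat.cast_inj] at h3
    lift Module.length (X.presheaf.stalk z) (G.presheaf.stalk z) to ℕ using h1.ne with n hn
    lift Module.length (X.presheaf.stalk z) ((Cyc.cycleSheafPos (Cyc.sheafFun δ k G)).presheaf.stalk z) to ℕ
      using h2.ne with p hp
    simp only [ENat.toNat_natCast] at h3
    exact hn.symm.trans ((congrArg Nat.cast h3.symm).trans hp)
  · exact (CycBasic.length_lt_top_of_maximal hG.1 (maximal_of_le hδ hG.2 hz)).ne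

/-- The class of a coherent module of dimension `≤ k` is that of its cycle. -/
theorem q_eq_pos (hX : Cyc.IsSetup X δ) (hk : k ≤ a) (hb : k - 1 ≤ b) {F : X.Modules}
    (hF : Cyc.CohLe δ k F) : q δ a b F = q δ a b (Cyc.cycleSheafPos (Cyc.sheafFun δ k F)) := by
  classical
  have hδ := hX.2.2
  -- remove the part of lower dimension
  let T₀ := gsub F (lev δ k fun _ => ⊥)
  have hT₀ : Cyc.CohLe δ k T₀.obj := cohLe_gsub hδ hF _
  let Fb := cokernel T₀.ι
  let π : F ⟶ Fb := cokernel.π T₀.ι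
  have hFb : Cyc.CohLe δ k Fb := cohLe_cokernel _ hT₀.1 hF
  have hses : (ShortComplex.mk T₀.ι π (cokernel.condition _)).ShortExact :=
    ShortComplex.ShortExact.mk' (ShortComplex.exact_cokernel _) inferInstance inferInstance
  have hexact : ∀ x, Function.Exact (stL T₀.ι x) (stL π x) := fun x => stL_exact hses x
  have hπbij : ∀ z, δ z = k → Function.Bijective (stL π z) := fun z hz =>
    ⟨(injective_iff_map_eq_zero _).2 fun e he => by
      have h1 : e ∈ LinearMap.range (stL T₀.ι z) := (hexact z e).1 he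
      rw [range_gsub_stalk hδ hF _ hz] at h1
      exact (Submodule.mem_bot _).1 h1, stL_surjective π z⟩
  have htf : ∀ (x : X) (e : stk Fb x), (∀ (z : X) (h : z ⤳ x), δ z = k → specHom Fb h e = 0) → e = 0 := by
    intro x e he
    obtain ⟨f, rfl⟩ := stL_surjective π x e
    refine (hexact x f).2 (gsub_stalk_lift F _ (wlf_lev hδ hF _) x f fun z h => ?_)
    by_cases hz : δ z = k
    · rw [lev_eq _ hz, Submodule.mem_bot]
      apply (hπbij z hz).1
      rw [map_zero, ← he z h hz]
      exact (specHom_natural π h f).symm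
    · rw [lev_of_ne _ hz]
      trivial
  have eFb : q δ a b F = q δ a b Fb := q_eq_of_hom π hk hb hF hFb hπbij
  -- the filtration by powers of the maximal ideals
  let V : ℕ → ∀ z : X, Submodule (X.presheaf.stalk z) (stk Fb z) := fun j z =>
    (IsLocalRing.maximalIdeal (X.presheaf.stalk z)) ^ j • ⊤
  let W : ℕ → ∀ z : X, Submodule (X.presheaf.stalk z) (stk Fb z) := fun j => lev δ k (V j)
  have hWle : ∀ j z, W (j + 1) z ≤ W j z := fun j z => by
    show lev δ k (V (j + 1)) z ≤ lev δ k (V j) z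
    by_cases hz : δ z = k
    · rw [lev_eq _ hz, lev_eq _ hz]
      exact Submodule.smul_mono_left (Ideal.pow_le_pow_right (Nat.le_succ j))
    · rw [lev_of_ne (V j) hz]
      exact le_top
  let M : ℕ → X.Modules := fun j => (gsub Fb (W j)).obj
  choose m hm using fun j => exists_gsub_map Fb (hWle j)
  haveI : ∀ j, Mono (m j) := fun j => by
    haveI : Mono (m j ≫ (gsub Fb (W j)).ι) := by rw [hm j]; infer_instance
    exact mono_of_mono (m j) (gsub Fb (W j)).ι
  have hM : ∀ j, Cyc.CohLe δ k (M j) := fun j => cohLe_gsub hδ hFb _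
  have hlf : K0Sub.LF fun j : ULift.{u} ℕ => M j.down := by
    refine ⟨fun j => (hM _).1, fun p => ?_⟩
    obtain ⟨_, ⟨U, hU, rfl⟩, hpU, -⟩ :=
      X.isBasis_affineOpens.exists_subset_of_mem_open (Set.mem_univ p) isOpen_univ
    obtain ⟨N, hN⟩ := exists_pow_kill hδ hFb hU
    refine ⟨U, U.2.mem_nhds hpU, ((Set.finite_lt_nat N).image ULift.up).subset ?_⟩
    rintro ⟨j⟩ ⟨x, hx, hxU⟩
    refine ⟨j, ?_, rfl⟩
    show j < N
    refine lt_of_not_ge fun hj => ?_
    refine hx (show Subsingleton (stk (M j) x) from subsingleton_of_forall_eq 0 fun e =>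
      (injective_iff_map_eq_zero (stL (gsub Fb (W j)).ι x)).1 (stL_injective _ x) e ?_)
    refine htf x _ fun z h hz => ?_
    have := gsub_stalk_mem Fb (W j) x e h
    rw [show W j z = V j z from lev_eq _ hz, show V j z = ⊥ from
      hN z (h.mem_open U.2 hxU) hz j hj, Submodule.mem_bot] at this
    exact this
  have hsigma : ∀ G : ULift.{u} ℕ → X.Modules, K0Sub.LF G → (∀ j, Cyc.CohLe δ k (G j)) →
      Cyc.CohLe δ k (∐ G) := fun G hG hGk => ⟨hG.isCoh_sigma, fun x hx => by
    obtain ⟨j, hj⟩ := Set.mem_iUnion.1 (K0Sub.support_sigma_subset _ (CycBasic.nontrivial_iff_mem_support.1 hx))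
    exact (hGk j).2 x (CycBasic.nontrivial_iff_mem_support.2 hj)⟩
  have hlf1 : K0Sub.LF fun j : ULift.{u} ℕ => M (j.down + 1) := hlf.comp (e := fun j : ULift.{u} ℕ => (⟨j.down + 1⟩ : ULift.{u} ℕ)) fun a b e => ULift.ext _ _ (Nat.succ_injective (congrArg ULift.down e))
  let gr : ULift.{u} ℕ → X.Modules := fun j => cokernel (m j.down)
  have hgr : ∀ j, Cyc.CohLe δ k (gr j) := fun j => cohLe_cokernel _ (hM _).1 (hM _)
  have hlfg : K0Sub.LF gr := hlf.of_subset (fun j => (hgr j).1)
    fun j => QCoh.support_subset_of_epi (cokernel.π (m j.down))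
  have eM : KZero.clSub (Cyc.CohLe δ k) (M 0) = KZero.clSub (Cyc.CohLe δ k) (∐ gr) :=
    K0Sub.clSub_eq_gr M m (hM 0) (hsigma _ hlf1 fun j => hM _) (hsigma _ hlf fun j => hM _)
      (hsigma _ hlfg hgr)
  have hG : Cyc.CohLe δ k (∐ gr) := hsigma _ hlfg hgr
  have hι : ∀ z, δ z = k → Function.Bijective (stL (gsub Fb (W 0)).ι z) := fun z hz => by
    refine ⟨stL_injective _ z, LinearMap.range_eq_top.1 ?_⟩
    refine (range_gsub_stalk hδ hFb (V 0) hz).trans ?_
    show (IsLocalRing.maximalIdeal (X.presheaf.stalk z)) ^ 0 • ⊤ = ⊤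
    rw [pow_zero, Ideal.one_eq_top, Submodule.top_smul]
  have eM0 : q δ a b (M 0) = q δ a b (∐ gr) := by
    have hle : ∀ G, Cyc.CohLe δ k G → Cyc.CohLe δ a G := fun G hG => cohLe_mono hk hG
    show QuotientAddGroup.mk _ = QuotientAddGroup.mk _
    refine congrArg _ ?_
    exact K0Sub.clSub_eq_gr M m (hle _ (hM 0)) (hle _ (hsigma _ hlf1 fun j => hM _))
      (hle _ (hsigma _ hlf fun j => hM _)) (hle _ (hsigma _ hlfg hgr))
  -- the graded pieces are killed at the level points
  have hkillgr : ∀ j : ULift.{u} ℕ, ∀ z, δ z = k → ∀ r ∈ IsLocalRing.maximalIdeal (X.presheaf.stalk z),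
      ∀ e : stk (gr j) z, r • e = 0 := by
    intro j z hz r hr e
    obtain ⟨e, rfl⟩ := stL_surjective (cokernel.π (m j.down)) z e
    have hmem : r • stL (gsub Fb (W j.down)).ι z e ∈ V (j.down + 1) z := by
      show _ ∈ (IsLocalRing.maximalIdeal (X.presheaf.stalk z)) ^ (j.down + 1) • (⊤ : Submodule _ (stk Fb z))
      rw [pow_succ', Submodule.mul_smul]
      refine Submodule.smul_mem_smul hr ?_
      exact (range_gsub_stalk hδ hFb (V j.down) hz).le ⟨e, rfl⟩
    obtain ⟨e', he'⟩ := (range_gsub_stalk hδ hFb (V (j.down + 1)) hz).ge hmem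
    have h1 : stL (m j.down) z e' = r • e := by
      apply stL_injective (gsub Fb (W j.down)).ι z
      rw [map_smul, ← he']
      exact (QCoh.stalkLin_comp (m j.down) (gsub Fb (W j.down)).ι z e').symm.trans
        (by rw [hm j.down]; rfl)
    rw [← map_smul, ← h1]
    refine (QCoh.stalkLin_comp (m j.down) (cokernel.π (m j.down)) z e').symm.trans ?_
    rw [cokernel.condition]
    show ((OX.stalk z).map (0 : M (j.down + 1) ⟶ gr j)).hom e' = 0
    rw [Functor.map_zero]
    rfl
  have e1 : q δ a b F = q δ a b (∐ gr) :=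
    eFb.trans ((q_eq_of_hom (gsub Fb (W 0)).ι hk hb (hM 0) hFb hι).symm.trans eM0)
  rw [e1, q_eq_pos_of_killed hδ hk hb hG fun z hz r hr e =>
    killed_sigma_stalk gr z r (fun j e => hkillgr j z hz r hr e) e]
  -- the cycle of the graded module
  obtain ⟨ψ, hψ⟩ := K0Sub.exists_lift (P := Cyc.CohLe δ k) (Cyc.sheafFun δ k)
    fun T hT h₁ h₂ h₃ => sheafFun_add hX hT h₁ h₂ h₃
  have e2 := congrArg ψ eM
  rw [hψ _ (hM 0), hψ _ hG] at e2
  have e3 : Cyc.sheafFun δ k (M 0) = Cyc.sheafFun δ k F := by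
    funext z
    simp only [Cyc.sheafFun]
    split_ifs with hz
    · exact congrArg (fun t : ℕ∞ => (t.toNat : ℤ)) ((LinearEquiv.ofBijective _ (hι z hz)).length_eq.trans
        (LinearEquiv.ofBijective _ (hπbij z hz)).length_eq.symm)
    · rfl
  rw [← e2, e3]

/-- Modules with the same cycle. -/
theorem q_eq_of_sheafFun_eq (hX : Cyc.IsSetup X δ) (hk : k ≤ a) (hb : k - 1 ≤ b) {F G : X.Modules}
    (hF : Cyc.CohLe δ k F) (hG : Cyc.CohLe δ k G) (h : Cyc.sheafFun δ k F = Cyc.sheafFun δ k G) :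
    q δ a b F = q δ a b G := by
  rw [q_eq_pos hX hk hb hF, q_eq_pos hX hk hb hG, h]

/-- A difference of classes is the difference of the classes of the two halves of the cycle. -/
theorem q_sub_eq (hX : Cyc.IsSetup X δ) (hk : k ≤ a) (hb : k - 1 ≤ b) {F G : X.Modules}
    (hF : Cyc.CohLe δ k F) (hG : Cyc.CohLe δ k G) {α : X → ℤ}
    (hα : Cyc.sheafFun δ k F - Cyc.sheafFun δ k G = α) :
    q δ a b F - q δ a b G = q δ a b (Cyc.cycleSheafPos α) - q δ a b (Cyc.cycleSheafNeg α) := by
  have hδ := hX.2.2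
  have hsupp : ∀ x, α x ≠ 0 → δ x = k := fun x hx => by_contra fun h => hx (by
    rw [← hα, Pi.sub_apply, Cyc.sheafFun, Cyc.sheafFun, if_neg h, if_neg h, sub_zero])
  have hl : C1.LF α := by
    intro p
    obtain ⟨U, hp, hfU⟩ := lf_sheafFun hδ hF p
    obtain ⟨U', hp', hfU'⟩ := lf_sheafFun hδ hG p
    refine ⟨U ⊓ U', ⟨hp, hp'⟩, (hfU.union hfU').subset fun y hy => ?_⟩
    by_cases h : Cyc.sheafFun δ k F y = 0
    · refine Or.inr ⟨hy.1.2, fun h' => hy.2 ?_⟩
      rw [← hα, Pi.sub_apply, h, h', sub_zero]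
    · exact Or.inl ⟨hy.1.1, h⟩
  have hPp : Cyc.CohLe δ k (Cyc.cycleSheafPos α) := cohLe_pos hδ hl fun x hx => (hsupp x hx).le
  have hPn : Cyc.CohLe δ k (Cyc.cycleSheafNeg α) := cohLe_pos hδ (lf_neg hl) fun x hx =>
    (hsupp x fun h => hx (by rw [Pi.neg_apply, h, neg_zero])).le
  obtain ⟨hA, eA⟩ := q_biprod (b := k - 1) (a := k) hF hPn
  obtain ⟨hB, eB⟩ := q_biprod (b := k - 1) (a := k) hG hPp
  have eA' := sheafFun_add hX (ShortComplex.Splitting.ofHasBinaryBiproduct F (Cyc.cycleSheafNeg α)).shortExact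
    hF hA hPn
  have eB' := sheafFun_add hX (ShortComplex.Splitting.ofHasBinaryBiproduct G (Cyc.cycleSheafPos α)).shortExact
    hG hB hPp
  have e := q_eq_of_sheafFun_eq (a := a) (b := b) hX hk hb hA hB (by
    refine eA'.trans (Eq.trans ?_ eB'.symm)
    have := sheafFun_pos_sub_neg hδ hl hsupp
    rw [← sub_eq_zero]
    rw [← sub_eq_zero] at this
    refine Eq.trans ?_ (sub_eq_zero.2 (hα.trans (sub_eq_zero.1 this).symm))
    dsimp only [ShortComplex.Splitting.ofHasBinaryBiproduct]
    abel)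
  rw [(q_biprod (b := b) (cohLe_mono hk hF) (cohLe_mono hk hPn)).2,
    (q_biprod (b := b) (cohLe_mono hk hG) (cohLe_mono hk hPp)).2] at e
  rwa [sub_eq_sub_iff_add_eq_add, add_comm (q δ a b (Cyc.cycleSheafPos α))]

theorem exists_lf_eq_sub (hδ : Cyc.IsDimFun X δ) {α : X → ℤ} (hl : C1.LF α) (hsupp : ∀ x, α x ≠ 0 → δ x = k) :
    Cyc.CohLe δ k (Cyc.cycleSheafPos α) ∧ Cyc.CohLe δ k (Cyc.cycleSheafNeg α) :=
  ⟨cohLe_pos hδ hl fun x hx => (hsupp x hx).le, cohLe_pos hδ (lf_neg hl) fun x hx =>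
    (hsupp x fun h => hx (by rw [Pi.neg_apply, h, neg_zero])).le⟩

end classes

end GrothLib.PBDeg.K0Cyc

end
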