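import Groth.Agent.Lib.PBDeg17.Filt

/-!
# Chern class caps of a filtered module
-/

set_option autoImplicit false
set_option backward.isDefEq.respectTransparency false
set_option linter.style.haveILetI false

universe u

open CategoryTheory CategoryTheory.Limits AlgebraicGeometry TopologicalSpace
open GrothLib.Ref1 GrothLib.C1 GrothLib.CycFlat

noncomputable section

namespace GrothLib.PBDeg

theorem rz_sign {P : Scheme.{u}} [IsLocallyNoetherian P] {δ : P → ℤ} (hδ : Cyc.IsDimFun P δ) {k : ℤ} {a : P → ℤ}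
    (ha : RZ δ k a) (n : ℕ) : RZ δ k (fun y => (-1 : ℤ) ^ n * a y) := by
  rcases Nat.even_or_odd n with he | ho
  · exact ha.congr fun y => by rw [he.neg_one_pow, one_mul]
  · exact (ha.neg hδ).congr fun y => by rw [ho.neg_one_pow, neg_one_mul]; rfl

theorem stalkLin_zero {X : Scheme.{u}} (M N : X.Modules) (x : X) (v : M.presheaf.stalk x) :
    QCoh.stalkLin (0 : M ⟶ N) x v = 0 :=
  LinearMap.congr_fun (congrArg ModuleCat.Hom.hom ((OX.stalk x).map_zero M N)) v

variable {X P : Scheme.{u}} [IsLocallyNoetherian X] [IsLocallyNoetherian P] {p : P ⟶ X}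

theorem kappa_mem {δX : X → ℤ} {r : ℕ} {L : Fin r → X.Modules} {k : ℤ} {κ : Finset (Fin r) → AlgebraicCycle X ℤ}
    (hκ0 : κ ∅ ∈ Cyc.Zk X δX k) {s : (i : Fin r) → (ξ : X) → Cyc.secFibre (L i) ξ}
    (hκ : ∀ (I : Finset (Fin r)) (i : Fin r), (∀ i' ∈ I, i' < i) →
      ⇑(κ (insert i I)) = Cyc.c1CapFun δX (L i) ⇑(κ I) (s i)) (I : Finset (Fin r)) :
    κ I ∈ Cyc.Zk X δX (k - (I.card : ℤ)) := by
  induction I using Finset.induction_on_max with
  | empty => simpa using hκ0
  | insert i I hlt ih =>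
    intro x hx
    rw [hκ I i hlt]
    by_contra h
    obtain ⟨ξ, h1, -, h3, -⟩ := c1Cap_ne_zero h
    have : δX ξ = k - (I.card : ℤ) := by_contra fun h' => h1 (ih ξ h')
    refine hx ?_
    rw [Finset.card_insert_of_notMem fun h' => lt_irrefl i (hlt i h')]
    push_cast
    omega

open Classical in
/-- The sums of the products of first Chern classes of the pieces are Chern class caps. -/
theorem Setting.isChernCap_filtered {m : ℕ} {O : P.Modules} {δX : X → ℤ} {δP : P → ℤ}
    (S : Setting p O m δX δP) {E : X.Modules} (q : (Scheme.Modules.pullback p).obj E ⟶ O) [Epi q]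
    (M : Fin (m + 1 + 1) → X.Modules) (h0 : IsZero (M 0)) (e : M (Fin.last (m + 1)) ≅ E)
    (L : Fin (m + 1) → X.Modules) (hL : ∀ i, PicF.IsInvertible (L i))
    (a : ∀ i : Fin (m + 1), M (Fin.castSucc i) ⟶ M (Fin.succ i)) (b : ∀ i : Fin (m + 1), M (Fin.succ i) ⟶ L i)
    (hab : ∀ i, a i ≫ b i = 0) (hex : ∀ i, (ShortComplex.mk (a i) (b i) (hab i)).ShortExact)
    (s : (i : Fin (m + 1)) → (ξ : X) → Cyc.secFibre (L i) ξ) (hs : ∀ i ξ, s i ξ ≠ 0)
    {k : ℤ} {α : AlgebraicCycle X ℤ} (hα : α ∈ Cyc.Zk X δX k)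
    (κ : Finset (Fin (m + 1)) → AlgebraicCycle X ℤ) (hκ0 : κ ∅ = α)
    (hκ : ∀ (I : Finset (Fin (m + 1))) (i : Fin (m + 1)), (∀ i' ∈ I, i' < i) →
      ⇑(κ (insert i I)) = Cyc.c1CapFun δX (L i) ⇑(κ I) (s i)) :
    Cyc.IsChernCap p δX δP O (m + 1) k α (fun n => ∑ I ∈ Finset.powersetCard (n : ℕ) Finset.univ, κ I) := by
  haveI := S.charts.flat
  have hκz : ∀ I, κ I ∈ Cyc.Zk X δX (k - (I.card : ℤ)) := kappa_mem (hκ0 ▸ hα) hκ
  let c : ∀ i : Fin (m + 1 + 1), M i ⟶ E :=
    Fin.reverseInduction (motive := fun i => M i ⟶ E) e.hom (fun i f => a i ≫ f)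
  have hclast : c (Fin.last (m + 1)) = e.hom := by simp [c]
  have hcs : ∀ i : Fin (m + 1), c (Fin.castSucc i) = a i ≫ c (Fin.succ i) := fun i => by
    simp [c, Fin.reverseInduction_castSucc]
  obtain ⟨w, hw⟩ := exists_sec S.inv
  have hsh : ∀ x, MaxFib p x → δP x = δX (p x) + (m : ℤ) := fun x hx => S.charts.shift S.inv S.dimP S.compat x hx
  let T : Finset (Fin (m + 1)) → ℕ → P → ℤ := fun I n =>
    Cyc.c1PowFun δP O (fun _ => w) n (Cyc.pullFun p δP δX m ⇑(κ I))
  have hTlf : ∀ I n, LF (T I n) := fun I n => lf_c1Pow S.dimP S.inv (fun _ => hw) (S.lf_pull _) n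
  let sets : ℕ → Finset (Fin (m + 1)) := fun j => Finset.univ.filter fun i => (i : ℕ) < j
  let F : ℕ → P → ℤ := fun j y => ∑ I ∈ (sets j).powerset, (-1 : ℤ) ^ I.card * T I (j - I.card) y
  suffices main : ∀ (j : ℕ) (hj : j ≤ m + 1), ∃ f : P → ℤ, LF f ∧ (∀ ξ, f ξ ≠ 0 → δP ξ = k + m - j) ∧
      (∀ ξ, f ξ ≠ 0 → ξ ∈ vanLocus q (c ⟨j, by omega⟩)) ∧ RZ δP (k + m - j) (fun y => f y - F j y) by
    obtain ⟨f, -, -, hf, hR⟩ := main (m + 1) le_rfl
    have hf0 : ∀ y, f y = 0 := fun y => by_contra fun h => by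
      have hy := hf y h
      rw [show (⟨m + 1, by omega⟩ : Fin (m + 1 + 1)) = Fin.last (m + 1) from rfl, hclast] at hy
      exact notMem_vanLocus q S.inv e.hom y hy
    rw [show k + (m : ℤ) - ((m + 1 : ℕ) : ℤ) = k - 1 by push_cast; ring] at hR
    refine S.isChernCap (by simp [hκ0]) (fun n x hx => ?_) (t := fun _ => w) (fun _ => hw) ?_
    · rw [Function.locallyFinsuppWithin.coe_sum, Finset.sum_apply]
      refine Finset.sum_eq_zero fun I hI => hκz I x ?_
      rw [(Finset.mem_powersetCard.1 hI).2]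
      exact hx
    refine (rz_sign S.dimP (hR.neg S.dimP) (m + 1)).congr fun y => ?_
    rw [Pi.neg_apply, hf0, zero_sub, neg_neg]
    have hsets : sets (m + 1) = Finset.univ := Finset.filter_true_of_mem fun i _ => i.2
    simp only [F, hsets]
    rw [Finset.sum_powerset (f := fun I : Finset (Fin (m + 1)) => (-1 : ℤ) ^ I.card * T I (m + 1 - I.card) y),
      Finset.card_univ, Fintype.card_fin, Finset.mul_sum, Finset.sum_range, relFun, ← Equiv.sum_comp Fin.revPerm]
    refine Finset.sum_congr rfl fun n _ => ?_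
    simp only [Fin.revPerm_apply, Fin.rev_rev]
    have e1 : Cyc.pullFun p δP δX m ⇑(∑ I ∈ Finset.powersetCard (n : ℕ) Finset.univ, κ I) = fun x =>
        ∑ I : {I // I ∈ Finset.powersetCard (n : ℕ) (Finset.univ : Finset (Fin (m + 1)))},
          Cyc.pullFun p δP δX m ⇑(κ I.1) x := by
      funext x
      simp only [pullFun_apply]
      rw [Function.locallyFinsuppWithin.coe_sum, Finset.sum_apply]
      split_ifs
      · exact (Finset.sum_mul _ _ _).trans
          (Finset.sum_coe_sort _ fun I => κ I (p x) * ((fibLength p x).toNat : ℤ)).symm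
      · rw [Finset.sum_const_zero]
    rw [e1, c1Pow_sum S.dimP S.inv (fun _ => hw)
      (fun I : {I // I ∈ Finset.powersetCard (n : ℕ) (Finset.univ : Finset (Fin (m + 1)))} =>
        Cyc.pullFun p δP δX m ⇑(κ I.1)) (fun I => S.lf_pull _)]
    rw [← Finset.sum_coe_sort (Finset.powersetCard (n : ℕ) (Finset.univ : Finset (Fin (m + 1)))), Finset.mul_sum,
      Finset.mul_sum]
    refine Finset.sum_congr rfl fun I _ => ?_
    have hI : I.1.card = (n : ℕ) := (Finset.mem_powersetCard.1 I.2).2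
    have hn : (n : ℕ) ≤ m + 1 := Nat.lt_succ_iff.1 n.2
    have hrev : ((Fin.rev n : Fin (m + 1 + 1)) : ℕ) = m + 1 - n := by rw [Fin.val_rev]; omega
    rw [hI, hrev, ← mul_assoc, ← pow_add, show m + 1 + (n : ℕ) = (m + 1 - n) + 2 * n by omega, pow_add, pow_mul,
      neg_one_sq, one_pow, mul_one]
  intro j
  induction j with
  | zero =>
    intro _
    refine ⟨Cyc.pullFun p δP δX m ⇑α, S.lf_pull α, fun ξ hξ => ?_, fun ξ _ v => ?_, (RZ.zero S.dimP _).congr fun y => ?_⟩
    · obtain ⟨h1, h2⟩ := pullFun_ne_zero hξ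
      have : δX (p ξ) = k := by_contra fun h => h1 (hα _ h)
      omega
    · have : c ⟨0, by omega⟩ = 0 := h0.eq_of_src _ _
      rw [toQuot_apply, this, stalkLin_zero, map_zero, map_zero]
      rfl
    · have : sets 0 = ∅ := Finset.filter_eq_empty_iff.2 fun i _ => Nat.not_lt_zero _
      simp [F, this, T, hκ0, Cyc.c1PowFun]
  | succ j ih =>
    intro hj
    obtain ⟨f, hlf, hfd, hfW, hR⟩ := ih (by omega)
    let i : Fin (m + 1) := ⟨j, by omega⟩
    have hci : c ⟨j, by omega⟩ = a i ≫ c (Fin.succ i) := hcs i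
    obtain ⟨u, v, hu, hv, hnext⟩ := exists_next_locus q (c (Fin.succ i)) (hex i) (hL i) S.inv S.dimP hlf
      (fun ξ hξ => by have := hfW ξ hξ; rwa [hci] at this)
    let N := (Scheme.Modules.pullback p).obj (L i)
    have hN : PicF.IsInvertible N := isInvertible_pullback p (hL i)
    let sv : (ξ : P) → Cyc.secFibre N ξ := pullChoice p (hL i) (s i)
    have hsv : ∀ ξ, sv ξ ≠ 0 := fun ξ => pullFib_ne_zero p (hL i) (hs i _)
    refine ⟨fun y => Cyc.c1CapFun δP O f u y - Cyc.c1CapFun δP N f v y, ?_, ?_, hnext, ?_⟩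
    · exact LF.of_cycle (toCycle _ (lf_c1Cap S.dimP S.inv hlf hu) - toCycle _ (lf_c1Cap S.dimP hN hlf hv))
    · intro ξ hξ
      by_cases h1 : Cyc.c1CapFun δP O f u ξ = 0
      · obtain ⟨η, e1, -, e3, -⟩ := c1Cap_ne_zero (show Cyc.c1CapFun δP N f v ξ ≠ 0 from fun h => hξ (by
          show Cyc.c1CapFun δP O f u ξ - Cyc.c1CapFun δP N f v ξ = 0
          rw [h1, h, sub_zero]))
        have := hfd η e1
        push_cast
        omega
      · obtain ⟨η, e1, -, e3, -⟩ := c1Cap_ne_zero h1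
        have := hfd η e1
        push_cast
        omega
    have hk : k + (m : ℤ) - ((j + 1 : ℕ) : ℤ) + 1 = k + m - j := by push_cast; ring
    have hch1 := rz_change S.dimP S.inv hlf (k := k + m - ((j + 1 : ℕ) : ℤ))
      (fun ξ hξ => (hfd ξ hξ).trans hk.symm) hu hw
    have hch2 := rz_change S.dimP hN hlf (k := k + m - ((j + 1 : ℕ) : ℤ))
      (fun ξ hξ => (hfd ξ hξ).trans hk.symm) hv hsv
    rw [← hk] at hR
    have hFlf : LF (F j) := by
      refine (lf_sum (fun I : {I // I ∈ (sets j).powerset} => fun y => (-1 : ℤ) ^ I.1.card * T I.1 (j - I.1.card) y)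
        fun I => (hTlf _ _).mono fun y hy => right_ne_zero_of_mul hy).mono fun y hy => ?_
      rwa [Finset.sum_coe_sort _ (fun I => (-1 : ℤ) ^ I.card * T I (j - I.card) y)]
    have hcapO := rz_c1Cap S.dimP S.inv hR hw
    have hcapN := rz_c1Cap S.dimP hN hR hsv
    rw [show (fun y => f y - F j y) = f - F j from rfl, c1Cap_sub hlf hFlf] at hcapO hcapN
    have hsum : ∀ (Q : P.Modules) (hQ : PicF.IsInvertible Q) (z : (ξ : P) → Cyc.secFibre Q ξ) (hz : ∀ ξ, z ξ ≠ 0)
        (y : P), Cyc.c1CapFun δP Q (F j) z y =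
          ∑ I ∈ (sets j).powerset, (-1 : ℤ) ^ I.card * Cyc.c1CapFun δP Q (T I (j - I.card)) z y := by
      intro Q hQ z hz y
      have hF : F j = fun y => ∑ I : {I // I ∈ (sets j).powerset}, (-1 : ℤ) ^ I.1.card * T I.1 (j - I.1.card) y :=
        funext fun y => (Finset.sum_coe_sort _ fun I => (-1 : ℤ) ^ I.card * T I (j - I.card) y).symm
      rw [← Finset.sum_coe_sort (sets j).powerset, hF]
      refine (congrFun (c1Pow_sum S.dimP hQ (t := fun _ => z) (fun _ => hz) _ (fun I : {I // I ∈ (sets j).powerset} =>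
        (hTlf I.1 _).mono fun y hy => right_ne_zero_of_mul hy) 1) y).trans (Finset.sum_congr rfl fun I _ => ?_)
      exact congrFun (c1Pow_smul S.dimP (fun _ => z) ((-1 : ℤ) ^ I.1.card) (T I.1 (j - I.1.card)) 1) y
    have hmem : ∀ I ∈ (sets j).powerset, (∀ i' ∈ I, i' < i) ∧ i ∉ I ∧ I.card ≤ j := by
      intro I hI
      have h1 : ∀ i' ∈ I, i' < i := fun i' hi' => (Finset.mem_filter.1 (Finset.mem_powerset.1 hI hi')).2
      refine ⟨h1, fun h => lt_irrefl _ (h1 _ h), ?_⟩
      calc I.card ≤ (sets j).card := Finset.card_le_card (Finset.mem_powerset.1 hI)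
        _ = j := by
          rw [show sets j = Finset.Iio i from Finset.ext fun i' => by simp [sets, i, Fin.lt_def]]
          exact Fin.card_Iio i
    have hcomm := rz_sum (sets j).powerset S.dimP (k := k + m - ((j + 1 : ℕ) : ℤ)) (fun I y => (-1 : ℤ) ^ I.card *
        (Cyc.c1CapFun δP N (T I (j - I.card)) sv y - T (insert i I) (j - I.card) y)) fun I hI => by
      have hl : ∀ ξ, Cyc.pullFun p δP δX m ⇑(κ I) ξ ≠ 0 → δP ξ = k - (I.card : ℤ) + m := fun ξ hξ => by
        obtain ⟨h1, h2⟩ := pullFun_ne_zero hξ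
        have : δX (p ξ) = k - (I.card : ℤ) := by_contra fun h => h1 (hκz I _ h)
        omega
      have h := rz_c1Pow_comm S.dimP S.inv hN (t := fun _ => w) (fun _ => hw) hsv (S.lf_pull (κ I)) hl (j - I.card)
      rw [show k - (I.card : ℤ) + m - ((j - I.card : ℕ) : ℤ) - 1 = k + m - ((j + 1 : ℕ) : ℤ) by
        have := (hmem I hI).2.2; push_cast [this]; ring] at h
      have e2 : Cyc.c1CapFun δP N (Cyc.pullFun p δP δX m ⇑(κ I)) sv = Cyc.pullFun p δP δX m ⇑(κ (insert i I)) := by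
        rw [hκ I i (hmem I hI).1]
        exact (funext (c1Cap_pullFun p (hL i) S.dimP S.dimX hsh (LF.of_cycle _) (hs i))).symm
      rw [e2] at h
      exact rz_sign S.dimP h _
    refine ((((hch1.sub S.dimP hch2).add S.dimP hcapO).sub S.dimP hcapN).sub S.dimP hcomm).congr fun y => ?_
    have hins : sets (j + 1) = insert i (sets j) := Finset.ext fun i' => by
      simp [sets, i, Fin.ext_iff]; omega
    have hiset : i ∉ sets j := by simp [sets, i]
    have hFsucc : F (j + 1) y = (∑ I ∈ (sets j).powerset, (-1 : ℤ) ^ I.card * Cyc.c1CapFun δP O (T I (j - I.card)) w y) -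
        ∑ I ∈ (sets j).powerset, (-1 : ℤ) ^ I.card * T (insert i I) (j - I.card) y := by
      simp only [F, hins]
      rw [Finset.sum_powerset_insert hiset, sub_eq_add_neg, ← Finset.sum_neg_distrib]
      congr 1
      · refine Finset.sum_congr rfl fun I hI => ?_
        rw [show j + 1 - I.card = (j - I.card) + 1 by have := (hmem I hI).2.2; omega]
        rfl
      · refine Finset.sum_congr rfl fun I hI => ?_
        rw [Finset.card_insert_of_notMem (hmem I hI).2.1, pow_succ, Nat.succ_sub_succ]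
        ring
    simp only [Pi.sub_apply, Pi.add_apply]
    rw [hsum O S.inv w hw y, hsum N hN sv hsv y, hFsucc]
    simp only [mul_sub, Finset.sum_sub_distrib]
    ring

end GrothLib.PBDeg
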