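import Groth.Agent.Lib.PBDeg17.Spans
import Groth.Agent.Lib.C1.Ops

/-!
# Existence and linearity of Chern class caps
-/

set_option autoImplicit false
set_option backward.isDefEq.respectTransparency false
set_option linter.style.haveILetI false

universe u

open CategoryTheory AlgebraicGeometry TopologicalSpace
open GrothLib.Ref1 GrothLib.C1 GrothLib.CycFlat

noncomputable section

namespace GrothLib.PBDeg

variable {m : ℕ} {X P : Scheme.{u}} {p : P ⟶ X} {L : P.Modules} {δX : X → ℤ} {δP : P → ℤ}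
  [IsLocallyNoetherian X] [IsLocallyNoetherian P]

/-- The relation does not depend on the choice of sections. -/
theorem Setting.rel_change (S : Setting p L m δX δP) {k : ℤ} (γ : Fin (m + 1 + 1) → AlgebraicCycle X ℤ)
    (hγ : ∀ j : Fin (m + 1 + 1), γ j ∈ Cyc.Zk X δX (k - ((j : ℕ) : ℤ)))
    {t t' : ℕ → (ξ : P) → Cyc.secFibre L ξ} (ht : ∀ n ξ, t n ξ ≠ 0) (ht' : ∀ n ξ, t' n ξ ≠ 0) :
    RZ δP (k - 1) (fun y => relFun p L δX δP m t γ y - relFun p L δX δP m t' γ y) := by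
  refine (rz_sum Finset.univ S.dimP (fun i : Fin (m + 1 + 1) => fun y => (-1 : ℤ) ^ (i : ℕ) *
    (Cyc.c1PowFun δP L t i (Cyc.pullFun p δP δX m ⇑(γ (Fin.rev i))) y -
      Cyc.c1PowFun δP L t' i (Cyc.pullFun p δP δX m ⇑(γ (Fin.rev i))) y)) fun i _ => ?_).congr fun y => ?_
  · have h := (rzs_c1Pow_sub S.dimX S.dimP S.inv (k := k - (((Fin.rev i : Fin (m + 1 + 1)) : ℕ) : ℤ))
      (fun η hη => by_contra fun h => hη (hγ _ η h)) (S.lf_pull (γ (Fin.rev i))) ht ht' (i : ℕ)).toRZ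
    rw [show k - (((Fin.rev i : Fin (m + 1 + 1)) : ℕ) : ℤ) + (m : ℤ) - ((i : ℕ) : ℤ) = k - 1 by
      rw [Fin.val_rev]; have := i.2; omega] at h
    rcases Nat.even_or_odd (i : ℕ) with he | ho
    · exact h.congr fun y => by rw [he.neg_one_pow, one_mul]; rfl
    · exact (h.neg S.dimP).congr fun y => by rw [ho.neg_one_pow, neg_one_mul]; rfl
  · unfold relFun
    rw [← Finset.sum_sub_distrib]
    exact Finset.sum_congr rfl fun i _ => by ring

theorem Setting.isChernCap (S : Setting p L m δX δP) {k : ℤ} {α : AlgebraicCycle X ℤ}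
    {γ : Fin (m + 1 + 1) → AlgebraicCycle X ℤ} (h0 : γ 0 = α)
    (hγ : ∀ j : Fin (m + 1 + 1), γ j ∈ Cyc.Zk X δX (k - ((j : ℕ) : ℤ)))
    {t : ℕ → (ξ : P) → Cyc.secFibre L ξ} (ht : ∀ n ξ, t n ξ ≠ 0) (h : RZ δP (k - 1) (relFun p L δX δP m t γ)) :
    Cyc.IsChernCap p δX δP L (m + 1) k α γ := by
  refine ⟨h0, hγ, fun t' ht' β hβ => RZ.to_ratEquivZero S.dimP ?_⟩
  refine ((S.rel_change γ hγ ht' ht).add S.dimP h).congr fun y => ?_
  rw [hβ y, show ((m + 1 : ℕ) : ℤ) - 1 = (m : ℤ) by push_cast; ring]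
  show relFun p L δX δP m t' γ y = (relFun p L δX δP m t' γ y - relFun p L δX δP m t γ y) + relFun p L δX δP m t γ y
  ring

/-- Chern class caps exist. -/
theorem Setting.exists_chernCap (S : Setting p L m δX δP) [IsProper p] {k : ℤ} {α : AlgebraicCycle X ℤ}
    (hα : α ∈ Cyc.Zk X δX k) : ∃ γ, Cyc.IsChernCap p δX δP L (m + 1) k α γ := by
  classical
  obtain ⟨w, hw⟩ := exists_sec S.inv
  have hlf : LF (Cyc.c1PowFun δP L (fun _ => w) (m + 1) (Cyc.pullFun p δP δX m ⇑α)) :=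
    lf_c1Pow S.dimP S.inv (fun _ => hw) (S.lf_pull α) _
  let β : AlgebraicCycle P ℤ := ((-1 : ℤ) ^ m) • toCycle _ hlf
  have hβ : β ∈ Cyc.Zk P δP (k - 1 - m + m) := fun y hy => by
    show (-1 : ℤ) ^ m * Cyc.c1PowFun δP L (fun _ => w) (m + 1) (Cyc.pullFun p δP δX m ⇑α) y = 0
    rw [show Cyc.c1PowFun δP L (fun _ => w) (m + 1) (Cyc.pullFun p δP δX m ⇑α) y = 0 from by_contra fun h =>
      hy (by have := (S.delta_eq hα h).1; push_cast at this; omega), mul_zero]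
  obtain ⟨a, ha, hR⟩ := S.spans (k := k - 1 - m) (fun _ _ => w) (fun _ _ => hw) hβ
  let γ : Fin (m + 1 + 1) → AlgebraicCycle X ℤ :=
    fun j => Fin.lastCases α (fun i => ((-1 : ℤ) ^ (i : ℕ)) • a i) (Fin.rev j)
  have hγ0 : γ 0 = α := by simp [γ, Fin.rev_zero]
  have hγr : ∀ i : Fin (m + 1), γ (Fin.rev (Fin.castSucc i)) = ((-1 : ℤ) ^ (i : ℕ)) • a i := fun i => by
    simp [γ]
  have hγ : ∀ j : Fin (m + 1 + 1), γ j ∈ Cyc.Zk X δX (k - ((j : ℕ) : ℤ)) := by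
    intro j
    obtain ⟨i, rfl⟩ : ∃ i : Fin (m + 1 + 1), j = Fin.rev i := ⟨Fin.rev j, (Fin.rev_rev j).symm⟩
    refine Fin.lastCases ?_ (fun i => ?_) i
    · rw [Fin.rev_last, hγ0]
      simpa using hα
    · intro x hx
      rw [hγr]
      show (-1 : ℤ) ^ (i : ℕ) * a i x = 0
      rw [ha i x (fun h => hx (by rw [h, Fin.val_rev, Fin.val_castSucc]; have := i.2; omega)), mul_zero]
  refine ⟨γ, S.isChernCap hγ0 hγ (t := fun _ => w) (fun _ => hw) ?_⟩
  rw [show k - 1 - (m : ℤ) + m = k - 1 by ring] at hR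
  refine (hR.neg S.dimP).congr fun y => ?_
  rw [relFun, Fin.sum_univ_castSucc (n := m + 1), Fin.rev_last, hγ0, Fin.val_last]
  simp only [hγr, Fin.val_castSucc, Pi.neg_apply]
  show _ = -((-1 : ℤ) ^ m * Cyc.c1PowFun δP L (fun _ => w) (m + 1) (Cyc.pullFun p δP δX m ⇑α) y - _)
  rw [show (-1 : ℤ) ^ (m + 1) = -((-1 : ℤ) ^ m) by rw [pow_succ]; ring, neg_sub, sub_eq_add_neg, neg_mul]
  congr 1
  refine Finset.sum_congr rfl fun i _ => ?_
  have e : Cyc.pullFun p δP δX m ⇑(((-1 : ℤ) ^ (i : ℕ)) • a i) =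
      fun x => (-1 : ℤ) ^ (i : ℕ) * Cyc.pullFun p δP δX m ⇑(a i) x := by
    funext x
    rw [pullFun_apply, pullFun_apply]
    split_ifs
    · exact mul_assoc _ _ _
    · rw [mul_zero]
  rw [e, c1Pow_smul S.dimP, ← mul_assoc, ← pow_add, Even.neg_one_pow ⟨_, rfl⟩, one_mul]

theorem pullFun_zero (c : ℤ) : Cyc.pullFun p δP δX c (0 : X → ℤ) = 0 := funext fun x => by
  rw [pullFun_apply]
  simp

theorem c1Pow_zero (t : ℕ → (ξ : P) → Cyc.secFibre L ξ) : ∀ s : ℕ, Cyc.c1PowFun δP L t s 0 = 0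
  | 0 => rfl
  | s + 1 => by
    show Cyc.c1CapFun δP L (Cyc.c1PowFun δP L t s 0) (t s) = 0
    rw [c1Pow_zero t s]
    funext x
    simp [Cyc.c1CapFun]

theorem Setting.isChernCap_zero (S : Setting p L m δX δP) (k : ℤ) :
    Cyc.IsChernCap p δX δP L (m + 1) k 0 (fun _ => 0) := by
  obtain ⟨w, hw⟩ := exists_sec S.inv
  refine S.isChernCap rfl (fun j x _ => rfl) (t := fun _ => w) (fun _ => hw) ((RZ.zero S.dimP _).congr fun y => ?_)
  simp [relFun, pullFun_zero, c1Pow_zero]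

theorem Setting.isChernCap_sub (S : Setting p L m δX δP) {k : ℤ} {α α' : AlgebraicCycle X ℤ}
    {γ γ' : Fin (m + 1 + 1) → AlgebraicCycle X ℤ} (hγ : Cyc.IsChernCap p δX δP L (m + 1) k α γ)
    (hγ' : Cyc.IsChernCap p δX δP L (m + 1) k α' γ') :
    Cyc.IsChernCap p δX δP L (m + 1) k (α - α') (fun j => γ j - γ' j) := by
  obtain ⟨w, hw⟩ := exists_sec S.inv
  refine S.isChernCap (by rw [hγ.1, hγ'.1]) (fun j x hx => ?_) (t := fun _ => w) (fun _ => hw)
    (((S.rel_rz hγ (fun _ => hw)).sub S.dimP (S.rel_rz hγ' (fun _ => hw))).congr fun y =>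
      S.relFun_sub (fun _ => hw) γ γ' y)
  show (γ j - γ' j) x = 0
  rw [Function.locallyFinsuppWithin.coe_sub, Pi.sub_apply, hγ.2.1 j x hx, hγ'.2.1 j x hx, sub_zero]

theorem Setting.isChernCap_add (S : Setting p L m δX δP) {k : ℤ} {α α' : AlgebraicCycle X ℤ}
    {γ γ' : Fin (m + 1 + 1) → AlgebraicCycle X ℤ} (hγ : Cyc.IsChernCap p δX δP L (m + 1) k α γ)
    (hγ' : Cyc.IsChernCap p δX δP L (m + 1) k α' γ') :
    Cyc.IsChernCap p δX δP L (m + 1) k (α + α') (fun j => γ j + γ' j) := by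
  have h := S.isChernCap_sub hγ (S.isChernCap_sub (S.isChernCap_zero k) hγ')
  simpa [sub_eq_add_neg] using h

theorem Setting.isChernCap_sign (S : Setting p L m δX δP) {k : ℤ} {α : AlgebraicCycle X ℤ}
    {γ : Fin (m + 1 + 1) → AlgebraicCycle X ℤ} (hγ : Cyc.IsChernCap p δX δP L (m + 1) k α γ) (n : ℕ) :
    Cyc.IsChernCap p δX δP L (m + 1) k (((-1 : ℤ) ^ n) • α) (fun j => ((-1 : ℤ) ^ n) • γ j) := by
  rcases Nat.even_or_odd n with he | ho
  · simpa [he.neg_one_pow] using hγ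
  · simpa [ho.neg_one_pow] using S.isChernCap_sub (S.isChernCap_zero k) hγ

theorem Setting.isChernCap_sum (S : Setting p L m δX δP) {k : ℤ} {ι : Type*} (s : Finset ι)
    {α : ι → AlgebraicCycle X ℤ} {γ : ι → Fin (m + 1 + 1) → AlgebraicCycle X ℤ}
    (h : ∀ i ∈ s, Cyc.IsChernCap p δX δP L (m + 1) k (α i) (γ i)) :
    Cyc.IsChernCap p δX δP L (m + 1) k (∑ i ∈ s, α i) (fun j => ∑ i ∈ s, γ i j) := by
  classical
  induction s using Finset.induction_on with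
  | empty => simpa using S.isChernCap_zero k
  | insert a s has ih =>
    simp only [Finset.sum_insert has]
    exact S.isChernCap_add (h a (Finset.mem_insert_self a s)) (ih fun i hi => h i (Finset.mem_insert_of_mem hi))

/-- The powers of a tautological class commute with capping by any other first Chern class. -/
theorem rz_c1Pow_comm {N : P.Modules} (hδP : Cyc.IsDimFun P δP) (hL : PicF.IsInvertible L) (hN : PicF.IsInvertible N)
    {t : ℕ → (ξ : P) → Cyc.secFibre L ξ} (ht : ∀ n ξ, t n ξ ≠ 0) {v : (ξ : P) → Cyc.secFibre N ξ}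
    (hv : ∀ ξ, v ξ ≠ 0) {a : P → ℤ} (ha : LF a) {l : ℤ} (hl : ∀ ξ, a ξ ≠ 0 → δP ξ = l) : ∀ s : ℕ,
    RZ δP (l - s - 1) (Cyc.c1CapFun δP N (Cyc.c1PowFun δP L t s a) v -
      Cyc.c1PowFun δP L t s (Cyc.c1CapFun δP N a v))
  | 0 => (RZ.zero hδP _).congr fun x => by simp [Cyc.c1PowFun]
  | s + 1 => by
    have hb : ∀ ξ, Cyc.c1PowFun δP L t s a ξ ≠ 0 → δP ξ = l - ((s + 1 : ℕ) : ℤ) - 1 + 2 := fun ξ hξ => by
      obtain ⟨η, h1, -, h3⟩ := c1Pow_ne_zero δP t a s hξ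
      have := hl η h1
      push_cast
      omega
    have h1 := rz_c1Pow_comm hδP hL hN ht hv ha hl s
    rw [show l - (s : ℤ) - 1 = l - ((s + 1 : ℕ) : ℤ) - 1 + 1 by push_cast; ring] at h1
    have h2 := C1.rz_c1Cap hδP hL h1 (ht s)
    rw [c1Cap_sub (lf_c1Cap hδP hN (lf_c1Pow hδP hL ht ha s) hv)
      (lf_c1Pow hδP hL ht (lf_c1Cap hδP hN ha hv) s)] at h2
    have h3 := C1.rz_c1Cap_comm hδP hN hL (lf_c1Pow hδP hL ht ha s) hb hv hv (ht s) (ht s)
    exact (h2.add hδP h3).congr fun x => by simp only [Cyc.c1PowFun, Pi.add_apply, Pi.sub_apply]; ring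

/-- Capping Chern class caps with a first Chern class gives Chern class caps. -/
theorem Setting.isChernCap_c1Cap (S : Setting p L m δX δP) {M : X.Modules} (hM : PicF.IsInvertible M)
    {s : (ξ : X) → Cyc.secFibre M ξ} (hs : ∀ ξ, s ξ ≠ 0) {k : ℤ} {α : AlgebraicCycle X ℤ}
    {γ : Fin (m + 1 + 1) → AlgebraicCycle X ℤ} (hγ : Cyc.IsChernCap p δX δP L (m + 1) k α γ) :
    Cyc.IsChernCap p δX δP L (m + 1) (k - 1) (toCycle _ (lf_c1Cap S.dimX hM (LF.of_cycle α) hs))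
      (fun j => toCycle _ (lf_c1Cap S.dimX hM (LF.of_cycle (γ j)) hs)) := by
  haveI := S.charts.flat
  obtain ⟨w, hw⟩ := exists_sec S.inv
  refine S.isChernCap (by simp only [hγ.1]) (fun j x hx => ?_) (t := fun _ => w) (fun _ => hw) ?_
  · by_contra h
    obtain ⟨ξ, h1, -, h3, -⟩ := c1Cap_ne_zero (show Cyc.c1CapFun δX M ⇑(γ j) s x ≠ 0 from h)
    have : δX ξ = k - ((j : ℕ) : ℤ) := by_contra fun h' => h1 (hγ.2.1 j ξ h')
    omega
  have hsh : ∀ x, MaxFib p x → δP x = δX (p x) + (m : ℤ) := fun x hx => S.charts.shift S.inv S.dimP S.compat x hx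
  have hN := isInvertible_pullback p hM
  have hv : ∀ ξ, pullChoice p hM s ξ ≠ 0 := fun ξ => pullFib_ne_zero p hM (hs _)
  let a : Fin (m + 1 + 1) → P → ℤ := fun i =>
    Cyc.c1PowFun δP L (fun _ => w) i (Cyc.pullFun p δP δX m ⇑(γ (Fin.rev i)))
  have hla : ∀ i : Fin (m + 1 + 1), LF (fun y => (-1 : ℤ) ^ (i : ℕ) * a i y) := fun i =>
    (lf_c1Pow S.dimP S.inv (fun _ => hw) (S.lf_pull _) _).mono fun y hy => right_ne_zero_of_mul hy
  have h0 := S.rel_rz hγ (t := fun _ => w) (fun _ => hw)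
  rw [show k - 1 = k - 1 - 1 + 1 by ring] at h0
  have h1 := C1.rz_c1Cap S.dimP hN h0 hv
  have e : Cyc.c1CapFun δP ((Scheme.Modules.pullback p).obj M) (relFun p L δX δP m (fun _ => w) γ) (pullChoice p hM s) =
      fun y => ∑ i : Fin (m + 1 + 1), (-1 : ℤ) ^ (i : ℕ) *
        Cyc.c1CapFun δP ((Scheme.Modules.pullback p).obj M) (a i) (pullChoice p hM s) y := by
    have := c1Pow_sum S.dimP hN (t := fun _ => pullChoice p hM s) (fun _ => hv) _ hla 1
    refine this.trans (funext fun y => Finset.sum_congr rfl fun i _ => ?_)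
    exact congrFun (c1Pow_smul S.dimP (fun _ => pullChoice p hM s) ((-1 : ℤ) ^ (i : ℕ)) (a i) 1) y
  rw [e] at h1
  have h2 := rz_sum Finset.univ S.dimP (k := k - 1 - 1) (fun i : Fin (m + 1 + 1) => fun y => (-1 : ℤ) ^ (i : ℕ) *
    (Cyc.c1CapFun δP ((Scheme.Modules.pullback p).obj M) (a i) (pullChoice p hM s) y -
      Cyc.c1PowFun δP L (fun _ => w) i (Cyc.c1CapFun δP ((Scheme.Modules.pullback p).obj M)
        (Cyc.pullFun p δP δX m ⇑(γ (Fin.rev i))) (pullChoice p hM s)) y)) fun i _ => by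
    have hl : ∀ ξ, Cyc.pullFun p δP δX m ⇑(γ (Fin.rev i)) ξ ≠ 0 →
        δP ξ = k - (((Fin.rev i : Fin (m + 1 + 1)) : ℕ) : ℤ) + m := fun ξ hξ => by
      obtain ⟨h1, h2⟩ := pullFun_ne_zero hξ
      have : δX (p ξ) = k - (((Fin.rev i : Fin (m + 1 + 1)) : ℕ) : ℤ) := by_contra fun h => h1 (hγ.2.1 _ _ h)
      omega
    have h := rz_c1Pow_comm S.dimP S.inv hN (t := fun _ => w) (fun _ => hw) hv (S.lf_pull _) hl (i : ℕ)
    rw [show k - (((Fin.rev i : Fin (m + 1 + 1)) : ℕ) : ℤ) + m - ((i : ℕ) : ℤ) - 1 = k - 1 - 1 by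
      rw [Fin.val_rev]; have := i.2; omega] at h
    rcases Nat.even_or_odd (i : ℕ) with he | ho
    · exact h.congr fun y => by rw [he.neg_one_pow, one_mul]; rfl
    · exact (h.neg S.dimP).congr fun y => by rw [ho.neg_one_pow, neg_one_mul]; rfl
  refine (h1.sub S.dimP h2).congr fun y => ?_
  rw [Pi.sub_apply, ← Finset.sum_sub_distrib]
  refine Finset.sum_congr rfl fun i _ => ?_
  have e2 : Cyc.pullFun p δP δX m (Cyc.c1CapFun δX M ⇑(γ (Fin.rev i)) s) =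
      Cyc.c1CapFun δP ((Scheme.Modules.pullback p).obj M) (Cyc.pullFun p δP δX m ⇑(γ (Fin.rev i)))
        (pullChoice p hM s) :=
    funext (c1Cap_pullFun p hM S.dimP S.dimX hsh (LF.of_cycle _) hs)
  rw [show ⇑(toCycle _ (lf_c1Cap S.dimX hM (LF.of_cycle (γ (Fin.rev i))) hs)) =
    Cyc.c1CapFun δX M ⇑(γ (Fin.rev i)) s from rfl, e2]
  simp only [a]
  ring

/-- Iterated form of the previous statement. -/
theorem Setting.isChernCap_c1Pow (S : Setting p L m δX δP) {M : X.Modules} (hM : PicF.IsInvertible M)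
    {s : ℕ → (ξ : X) → Cyc.secFibre M ξ} (hs : ∀ n ξ, s n ξ ≠ 0) {k : ℤ} {α : AlgebraicCycle X ℤ}
    {γ : Fin (m + 1 + 1) → AlgebraicCycle X ℤ} (hγ : Cyc.IsChernCap p δX δP L (m + 1) k α γ) : ∀ n : ℕ,
    Cyc.IsChernCap p δX δP L (m + 1) (k - n) (toCycle _ (lf_c1Pow S.dimX hM hs (LF.of_cycle α) n))
      (fun j => toCycle _ (lf_c1Pow S.dimX hM hs (LF.of_cycle (γ j)) n))
  | 0 => by
    rw [Nat.cast_zero, sub_zero]
    exact hγ
  | n + 1 => by
    have h := S.isChernCap_c1Cap hM (hs n) (S.isChernCap_c1Pow hM hs hγ n)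
    rw [show k - (n : ℤ) - 1 = k - ((n + 1 : ℕ) : ℤ) by push_cast; ring] at h
    exact h

end GrothLib.PBDeg
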