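import Groth.Agent.Lib.PBDeg17.Exists
import Groth.Agent.Lib.PBDeg17.BaseChange
import Groth.Agent.Lib.PBDeg17.Caps
import Groth.Agent.Lib.K0Sub.Pullback
import Groth.Agent.Lib.CycP1.Graph
import Groth.Agent.Lib.OX.OneDegLocus
import Groth.Agent.Lib.OX.Support
import Groth.Agent.Lib.CatBasics.Basic
import Groth.Agent.S9708
import Groth.Agent.S4421
import Groth.Agent.S4452
import Groth.Agent.S9684

/-!
# The splitting tower
-/

set_option autoImplicit false
set_option backward.isDefEq.respectTransparency false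
set_option linter.style.haveILetI false

universe u

open CategoryTheory CategoryTheory.Limits AlgebraicGeometry TopologicalSpace
open GrothLib.C1 GrothLib.CycFlat

noncomputable section

namespace GrothLib.PBDeg

section Flags

variable {X Y : Scheme.{u}}

/-- A short exact sequence with invertible quotient. -/
def InvSeq (A B C : X.Modules) : Prop :=
  PicF.IsInvertible C ∧ ∃ (a : A ⟶ B) (b : B ⟶ C) (h : a ≫ b = 0), (ShortComplex.mk a b h).ShortExact

theorem InvSeq.of_iso {A A' B B' C : X.Modules} (h : InvSeq A B C) (eA : A ≅ A') (eB : B ≅ B') : InvSeq A' B' C := by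
  obtain ⟨hC, a, b, hab, hS⟩ := h
  refine ⟨hC, eA.inv ≫ a ≫ eB.hom, eB.inv ≫ b, by simp [hab], ShortComplex.shortExact_of_iso ?_ hS⟩
  exact ShortComplex.isoMk eA eB (Iso.refl _) (by simp) (by simp)

theorem InvSeq.pullback (f : X ⟶ Y) {A B C : Y.Modules} (h : InvSeq A B C) :
    InvSeq ((Scheme.Modules.pullback f).obj A) ((Scheme.Modules.pullback f).obj B)
      ((Scheme.Modules.pullback f).obj C) := by
  obtain ⟨hC, a, b, hab, hS⟩ := h
  exact ⟨isInvertible_pullback f hC, _, _, _,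
    K0Sub.shortExact_map_pullback f (ShortComplex.mk a b hab) hS (FinCov.isFinLocFree_of_rank (rankOne_iff.2 hC))⟩

/-- A module with a chain whose `r` quotients are invertible. -/
def Flag (r : ℕ) (V : X.Modules) : Prop :=
  ∃ (M L : ℕ → X.Modules), IsZero (M 0) ∧ Nonempty (M r ≅ V) ∧ ∀ j < r, InvSeq (M j) (M (j + 1)) (L j)

theorem Flag.of_iso {r : ℕ} {V V' : X.Modules} (h : Flag r V) (e : V ≅ V') : Flag r V' := by
  obtain ⟨M, L, h0, ⟨e'⟩, hs⟩ := h
  exact ⟨M, L, h0, ⟨e' ≪≫ e⟩, hs⟩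

theorem Flag.pullback (f : X ⟶ Y) {r : ℕ} {V : Y.Modules} (h : Flag r V) :
    Flag r ((Scheme.Modules.pullback f).obj V) := by
  obtain ⟨M, L, h0, ⟨e⟩, hs⟩ := h
  haveI : (Scheme.Modules.pullback f).IsLeftAdjoint := (Scheme.Modules.pullbackPushforwardAdjunction f).isLeftAdjoint
  haveI : (Scheme.Modules.pullback f).PreservesZeroMorphisms := inferInstance
  exact ⟨fun n => (Scheme.Modules.pullback f).obj (M n), fun n => (Scheme.Modules.pullback f).obj (L n),
    Functor.map_isZero _ h0, ⟨(Scheme.Modules.pullback f).mapIso e⟩, fun j hj => (hs j hj).pullback f⟩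

theorem Flag.succ {r : ℕ} {K V L₀ : X.Modules} (h : Flag r K) (hs₀ : InvSeq K V L₀) : Flag (r + 1) V := by
  obtain ⟨M, L, h0, ⟨e⟩, hs⟩ := h
  refine ⟨fun n => if n ≤ r then M n else V, fun n => if n < r then L n else L₀, ?_, ?_, fun j hj => ?_⟩
  · show IsZero (if 0 ≤ r then M 0 else V)
    rwa [if_pos (Nat.zero_le r)]
  · exact ⟨eqToIso (if_neg (by omega))⟩
  · show InvSeq (if j ≤ r then M j else V) (if j + 1 ≤ r then M (j + 1) else V) (if j < r then L j else L₀)
    rcases Nat.lt_or_ge j r with h | h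
    · rw [if_pos h.le, if_pos (show j + 1 ≤ r by omega), if_pos h]
      exact hs j h
    · obtain rfl : j = r := by omega
      rw [if_pos le_rfl, if_neg (show ¬ j + 1 ≤ j by omega), if_neg (lt_irrefl j)]
      exact hs₀.of_iso e.symm (Iso.refl _)

theorem flag_zero {V : X.Modules} (hV : FlatMod.IsFinLocFreeOfRank 0 V) : Flag 0 V := by
  refine ⟨fun _ => V, fun _ => V, OX.isZero_of_subsingleton_stalks V fun x => ?_, ⟨Iso.refl _⟩,
    fun j hj => absurd hj (Nat.not_lt_zero j)⟩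
  obtain ⟨b⟩ := OmegaFree.exists_basis_stalk hV x
  exact b.repr.toEquiv.subsingleton

end Flags

section Tower

variable {X : Scheme.{u}}

/-- The properties of the towers of projective bundles. -/
structure GoodTower (δ : X → ℤ) {P : Scheme.{u}} (π : P ⟶ X) (d : ℕ) : Prop where
  proper : IsProper π
  flat : Flat π
  relDim : Cyc.HasRelDim π d
  proj : ∀ U : X.Opens, IsAffineOpen U → RelProj.IsProjective (π ∣_ U)
  inj : ∀ (Y : Scheme.{u}) (f : Y ⟶ X) [LocallyOfFiniteType f] (δY : Y → ℤ), Cyc.IsSetup Y δY →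
    Cyc.DeltaCompat f δY δ → ∀ (PY : Scheme.{u}) (πY : PY ⟶ Y) (g : PY ⟶ P), IsPullback g πY π f →
    ∀ (δPY : PY → ℤ), Cyc.IsSetup PY δPY → Cyc.DeltaCompat πY δPY δY →
    ∀ (k : ℤ) (α : AlgebraicCycle Y ℤ), α ∈ Cyc.Zk Y δY k → ∀ β : AlgebraicCycle PY ℤ,
      ⇑β = Cyc.pullFun πY δPY δY d ⇑α → Cyc.RatEquivZero δPY (k + d) β → Cyc.RatEquivZero δY k α

theorem isSetup_of_lft {δ : X → ℤ} (hX : Cyc.IsSetup X δ) {Q : Scheme.{u}} (f : Q ⟶ X) [LocallyOfFiniteType f]
    {δQ : Q → ℤ} (hδ : Cyc.DeltaCompat f δQ δ) : Cyc.IsSetup Q δQ := by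
  haveI := hX.1
  refine ⟨LocallyOfFiniteType.isLocallyNoetherian f, fun x => ?_, Groth.Agent.S9684.result f δ hX δQ hδ⟩
  letI := (f.stalkMap x).hom.toAlgebra
  haveI : Algebra.EssFiniteType (X.presheaf.stalk (f x)) (Q.presheaf.stalk x) := LocallyOfFiniteType.stalkMap f x
  exact GrothLib.CatBasics.isUniversallyCatenary_of_essFiniteType (A := X.presheaf.stalk (f x)) (hX.2.1 _)

theorem resTrdeg_iso {A B : Scheme.{u}} (g : A ⟶ B) [IsIso g] (x : A) : resTrdeg g x = 0 := by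
  have hb : Function.Bijective (g.residueFieldMap x).hom := ConcreteCategory.bijective_of_isIso (g.residueFieldMap x)
  letI := (g.residueFieldMap x).hom.toAlgebra
  haveI : Algebra.IsAlgebraic (B.residueField (g x)) (A.residueField x) := ⟨fun a => by
    obtain ⟨b, rfl⟩ := hb.2 a
    exact isAlgebraic_algebraMap b⟩
  exact trdeg_eq_zero

theorem pullFun_self (δX : X → ℤ) (α : X → ℤ) : Cyc.pullFun (𝟙 X) δX δX 0 α = α := by
  funext x
  rw [pullFun_apply, show (𝟙 X : X ⟶ X) x = x from rfl, if_pos (by ring)]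
  have h : fibLength (𝟙 X) x = 1 := by
    show Module.length (X.presheaf.stalk x) (X.presheaf.stalk x ⧸ Ideal.map ((𝟙 X : X ⟶ X).stalkMap x).hom
      (IsLocalRing.maximalIdeal _)) = 1
    rw [Scheme.Hom.stalkMap_id]
    erw [Ideal.map_id]
    show Module.length (X.presheaf.stalk x) (X.presheaf.stalk x ⧸ IsLocalRing.maximalIdeal (X.presheaf.stalk x)) = 1
    haveI : IsSimpleModule (X.presheaf.stalk x) (X.presheaf.stalk x ⧸ IsLocalRing.maximalIdeal (X.presheaf.stalk x)) :=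
      isSimpleModule_iff_isCoatom.2 (IsLocalRing.maximalIdeal.isMaximal (X.presheaf.stalk x)).out
    exact Module.length_eq_one _ _
  rw [h]
  simp

theorem goodTower_id {δ : X → ℤ} : GoodTower δ (𝟙 X) 0 := by
  refine ⟨inferInstance, inferInstance, (hasRelDim_iff _ _).2 fun x _ => ?_,
    fun U _ => Groth.Agent.S4452.result _, ?_⟩
  · rw [Nat.cast_zero]
    exact resTrdeg_iso (𝟙 X) x
  intro Y f _ δY hY _ PY πY g hsq δPY hPY hδY k α _ β hβ hR
  haveI := hY.1
  haveI := hPY.1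
  haveI : IsIso πY := hsq.isIso_snd_of_isIso
  have hc : ∀ y, MaxFib πY y → δPY y = δY (πY y) + 0 := fun y _ => by
    obtain ⟨n, hn, h⟩ := hδY y
    have h0 : (n : Cardinal.{u}) = 0 := hn.symm.trans (resTrdeg_iso πY y)
    rw [Nat.cast_eq_zero] at h0
    omega
  have hc' : ∀ y, MaxFib (inv πY) y → δY y = δPY (inv πY y) + 0 := fun y _ => by
    obtain ⟨n, hn, h⟩ := hδY (inv πY y)
    have h0 : (n : Cardinal.{u}) = 0 := hn.symm.trans (resTrdeg_iso πY _)
    rw [Nat.cast_eq_zero] at h0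
    rw [← Scheme.Hom.comp_apply, IsIso.inv_hom_id, show (𝟙 Y : Y ⟶ Y) y = y from rfl] at h
    omega
  have h1 := GrothLib.CycDiv.ratEquivZero_pullFun (inv πY) hY.2.2 hPY.2.2 hc' _ β hR α (by
    rw [hβ]
    have h2 := pullFun_comp (inv πY) πY hY.2.2 hPY.2.2 hc hc' ⇑α
    rw [pullFun_congr (IsIso.inv_hom_id πY), add_zero, pullFun_self] at h2
    simpa using h2)
  simpa using h1

theorem GoodTower.lft {δ : X → ℤ} {P : Scheme.{u}} {π : P ⟶ X} {d : ℕ} (h : GoodTower δ π d) :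
    LocallyOfFiniteType π := by
  haveI := h.proper
  infer_instance

/-- Adding a projective bundle on top of a tower. -/
theorem GoodTower.step {δ : X → ℤ} (hX : Cyc.IsSetup X δ) {P : Scheme.{u}} {π : P ⟶ X} {d : ℕ}
    (h : GoodTower δ π d) {E : P.Modules} {m : ℕ} (hE : FlatMod.IsFinLocFreeOfRank (m + 1) E)
    {P' : Scheme.{u}} {p : P' ⟶ P} {O : P'.Modules} {q : (Scheme.Modules.pullback p).obj E ⟶ O}
    (hB : KRR.IsProjBundle p E O q) (hp : RelProj.IsProjective p) [IsProper p] :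
    GoodTower δ (p ≫ π) (d + m) := by
  haveI := h.proper
  haveI := h.flat
  haveI := hX.1
  haveI : IsLocallyNoetherian P := LocallyOfFiniteType.isLocallyNoetherian π
  haveI : IsLocallyNoetherian P' := LocallyOfFiniteType.isLocallyNoetherian p
  obtain ⟨δP, hδP⟩ := CycP1.exists_deltaCompat π δ
  have hP := isSetup_of_lft hX π hδP
  obtain ⟨δP', hδP'⟩ := CycP1.exists_deltaCompat p δP
  have hP' := isSetup_of_lft hP p hδP'
  have S := setting_univ hP hE hB hP' hδP'
  haveI := S.charts.flat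
  have hrel : Cyc.HasRelDim p m := (hasRelDim_iff p m).2 fun x hx => by
    obtain ⟨n, hn, hd⟩ := hδP' x
    have e : n = m := by
      have := S.charts.shift S.inv S.dimP S.compat x hx
      omega
    exact e ▸ hn
  refine ⟨inferInstance, inferInstance, Nat.add_comm d m ▸ hasRelDim_comp p π hrel h.relDim, fun U hU => ?_, ?_⟩
  · rw [morphismRestrict_comp]
    haveI : CompactSpace ↥(U : Scheme) := isCompact_iff_compactSpace.1 hU.isCompact
    haveI : QuasiSeparatedSpace ↥(U : Scheme) := by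
      haveI : IsAffine (U : Scheme) := hU
      infer_instance
    refine Groth.Agent.S9708.result _ _ ?_ (h.proj U hU)
    obtain ⟨SS, R, r, chart, e, h1, h2, h3, h4⟩ := Groth.Agent.S4421.result p hp (π ⁻¹ᵁ U).ι
    refine ⟨SS, R, r, chart, (isPullback_morphismRestrict p (π ⁻¹ᵁ U)).flip.isoPullback ≪≫ e, h1, h2, h3, ?_⟩
    rw [Iso.trans_hom, Category.assoc, h4]
    exact (isPullback_morphismRestrict p (π ⁻¹ᵁ U)).flip.isoPullback_hom_snd
  intro Y f _ δY hY hδY PY πY g hsq δPY hPY hδPY k α hα β hβ hR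
  haveI := hY.1
  haveI := hPY.1
  let Q := pullback π f
  let π₁ : Q ⟶ Y := pullback.snd π f
  let f₁ : Q ⟶ P := pullback.fst π f
  have hQsq : IsPullback f₁ π₁ π f := IsPullback.of_hasPullback π f
  let l : PY ⟶ Q := hQsq.lift (g ≫ p) πY (by rw [Category.assoc]; exact hsq.w)
  have hl1 : l ≫ f₁ = g ≫ p := hQsq.lift_fst _ _ _
  have hl2 : l ≫ π₁ = πY := hQsq.lift_snd _ _ _
  have htop : IsPullback g l p f₁ := IsPullback.of_bot (by rw [hl2]; exact hsq) hl1.symm hQsq
  obtain ⟨δQ, hδQ⟩ := CycP1.exists_deltaCompat π₁ δY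
  have hQ := isSetup_of_lft hY π₁ hδQ
  haveI := hQ.1
  haveI : IsProper l := MorphismProperty.of_isPullback htop inferInstance
  haveI : Flat l := MorphismProperty.of_isPullback htop inferInstance
  have hδl : Cyc.DeltaCompat l δPY δQ := by
    intro x
    obtain ⟨n₁, hn₁, h₁⟩ := hδQ (l x)
    obtain ⟨n, hn, hd⟩ := hδPY x
    obtain ⟨δ'', hδ''⟩ := CycP1.exists_deltaCompat l δQ
    obtain ⟨n₂, hn₂, h₂⟩ := hδ'' x
    refine ⟨n₂, hn₂, ?_⟩
    have e : n = n₁ + n₂ := by
      have e' : (n : Cardinal.{u}) = (n₁ : Cardinal.{u}) + n₂ := by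
        show (n : Cardinal.{u}) = _
        rw [← show resTrdeg π₁ (l x) = n₁ from hn₁, ← show resTrdeg l x = n₂ from hn₂, ← resTrdeg_comp, hl2]
        exact hn.symm
      exact_mod_cast e'
    rw [← hl2, Scheme.Hom.comp_apply] at hd
    subst e
    push_cast at hd
    omega
  have S' : Setting l ((Scheme.Modules.pullback g).obj O) m δQ δPY :=
    ⟨S.charts.baseChange S.inv htop (Iso.refl _), hQ.2.2, hPY.2.2, hδl, isInvertible_pullback g S.inv⟩
  have hs1 : ∀ y, MaxFib π₁ y → δQ y = δY (π₁ y) + d := fun y hy =>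
    shift_of_hasRelDim π₁ (hasRelDim_of_isPullback hQsq h.relDim) hδQ y hy
  have hs2 : ∀ x, MaxFib l x → δPY x = δQ (l x) + m := fun x hx => S'.charts.shift S'.inv S'.dimP S'.compat x hx
  haveI : Flat π₁ := MorphismProperty.of_isPullback hQsq inferInstance
  let αQ : AlgebraicCycle Q ℤ := toCycle _ (lf_pullFun π₁ hQ.2.2 hs1 (LF.of_cycle α))
  have hαQ : αQ ∈ Cyc.Zk Q δQ (k + d) := fun y hy => by
    show Cyc.pullFun π₁ δQ δY d ⇑α y = 0
    rw [pullFun_apply]
    split_ifs with h'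
    · rw [hα _ (fun e => hy (by rw [h', e])), zero_mul]
    · rfl
  have hβ' : ⇑β = Cyc.pullFun l δPY δQ m ⇑αQ := by
    rw [hβ, pullFun_congr hl2.symm, Nat.cast_add]
    exact pullFun_comp l π₁ hPY.2.2 hQ.2.2 hs1 hs2 ⇑α
  obtain ⟨w, hw⟩ := exists_sec S'.inv
  have hR' : RZ δPY (k + (d + m : ℕ) - (m : ℕ))
      (Cyc.c1PowFun δPY ((Scheme.Modules.pullback g).obj O) (fun _ => w) m ⇑β) :=
    rz_c1Pow S'.dimP S'.inv (fun _ => hw) (RZ.of_ratEquivZero S'.dimP hR) m
  rw [hβ', show k + ((d + m : ℕ) : ℤ) - ((m : ℕ) : ℤ) = k + d by push_cast; ring] at hR'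
  let γ : AlgebraicCycle PY ℤ := toCycle _ (lf_c1Pow S'.dimP S'.inv (t := fun _ => w) (fun _ => hw) (S'.lf_pull αQ) m)
  have hγ : Cyc.RatEquivZero δPY (k + d) γ := RZ.to_ratEquivZero S'.dimP hR'
  have h1 := ratEquivZero_map (p := l) hPY.2.2 hQ.2.2 hδl hγ
  rw [S'.map_eq_self hαQ (t := fun _ => w) (fun _ => hw) γ rfl] at h1
  exact h.inj Y f δY hY hδY Q π₁ f₁ hQsq δQ hQ hδQ k α hα αQ rfl h1

/-- Towers split any module. -/
theorem exists_flag {δ : X → ℤ} (hX : Cyc.IsSetup X δ) : ∀ (r : ℕ) {P : Scheme.{u}} (π : P ⟶ X) (d : ℕ),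
    GoodTower δ π d → ∀ K : P.Modules, FlatMod.IsFinLocFreeOfRank r K →
    ∃ (P' : Scheme.{u}) (σ : P' ⟶ P) (d' : ℕ), GoodTower δ (σ ≫ π) d' ∧ Flag r ((Scheme.Modules.pullback σ).obj K) := by
  intro r
  induction r with
  | zero =>
    intro P π d h K hK
    exact ⟨P, 𝟙 P, d, by rwa [Category.id_comp], flag_zero (OX.isFinLocFreeOfRank_pullback _ hK)⟩
  | succ r ih =>
    intro P π d h K hK
    obtain ⟨P', p, O, q, hB, hp, hpp⟩ := exists_isProjBundle hK
    haveI := hpp
    haveI := hX.1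
    haveI := h.lft
    haveI : IsLocallyNoetherian P := LocallyOfFiniteType.isLocallyNoetherian π
    haveI : IsLocallyNoetherian P' := LocallyOfFiniteType.isLocallyNoetherian p
    haveI : Epi q := hB.epi
    have hO : PicF.IsInvertible O := rankOne_iff.1 hB.invertible
    have hker := isFinLocFreeOfRank_kernel_of_epi (OX.isFinLocFreeOfRank_pullback p hK) hO q
    obtain ⟨P'', σ, d'', h', hF⟩ := ih (p ≫ π) (d + r) (h.step hX hK hB hp) (kernel q) hker
    refine ⟨P'', σ ≫ p, d'', by rwa [Category.assoc], ?_⟩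
    have hseq : InvSeq (kernel q) ((Scheme.Modules.pullback p).obj K) O :=
      ⟨hO, kernel.ι q, q, kernel.condition q,
        { exact := ShortComplex.exact_of_f_is_kernel _ (kernelIsKernel q) }⟩
    exact (hF.succ (hseq.pullback σ)).of_iso ((Scheme.Modules.pullbackComp σ p).app K)

/-- The splitting principle. -/
theorem exists_tower {δ : X → ℤ} (hX : Cyc.IsSetup X δ) {ι : Type*} (rk : ι → ℕ) (E : ι → X.Modules)
    (hE : ∀ i, FlatMod.IsFinLocFreeOfRank (rk i) (E i)) (s : Finset ι) :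
    ∃ (P : Scheme.{u}) (π : P ⟶ X) (d : ℕ),
      GoodTower δ π d ∧ ∀ i ∈ s, Flag (rk i) ((Scheme.Modules.pullback π).obj (E i)) := by
  classical
  induction s using Finset.induction with
  | empty => exact ⟨X, 𝟙 X, 0, goodTower_id, fun i hi => absurd hi (Finset.notMem_empty i)⟩
  | insert a s _ ih =>
    obtain ⟨P, π, d, h, hF⟩ := ih
    obtain ⟨P', σ, d', h', hF'⟩ :=
      exists_flag hX (rk a) π d h _ (OX.isFinLocFreeOfRank_pullback π (hE a))
    refine ⟨P', σ ≫ π, d', h', fun i hi => ?_⟩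
    rcases Finset.mem_insert.1 hi with rfl | hi
    · exact hF'.of_iso ((Scheme.Modules.pullbackComp σ π).app _)
    · exact ((hF i hi).pullback σ).of_iso ((Scheme.Modules.pullbackComp σ π).app _)

theorem GoodTower.isLocallyProjective {δ : X → ℤ} {P : Scheme.{u}} {π : P ⟶ X} {d : ℕ} (h : GoodTower δ π d) :
    RelProj.IsLocallyProjective π := fun x => by
  obtain ⟨U, hU, hx, -⟩ := exists_isAffineOpen_mem_and_subset (show x ∈ (⊤ : X.Opens) from trivial)
  exact ⟨U, hx, h.proj U hU⟩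

end Tower

end GrothLib.PBDeg
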