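import Groth.Agent.Lib.PBDeg17.Apply
import Groth.Agent.Lib.HilbObs26.DualCoh
import Groth.Agent.Lib.LocFreeHom.IsoNear
import Groth.Agent.Lib.LocFreeHom.NearFibre
import Groth.Agent.Lib.LocFreeDual20.Basic
import Groth.Agent.Lib.OX.LocalLift
import Groth.Agent.Lib.OX.ExtZeroOpen
import Groth.Agent.Lib.K0Sub.LocFree
import Groth.Agent.Lib.Seesaw26.Criterion

/-!
# Roots of the dual
-/

set_option autoImplicit false
set_option backward.isDefEq.respectTransparency false
set_option linter.style.haveILetI false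

universe u

open CategoryTheory CategoryTheory.Limits AlgebraicGeometry TopologicalSpace
open GrothLib.LocFreeHom GrothLib.LocFreeDual20

noncomputable section

namespace GrothLib.PBDeg

attribute [local instance] LocFreeHom.hasSheafHom

section Dual

variable {X : Scheme.{u}}

/-- Dualising an extension by a locally free module. -/
theorem epi_hMap_dual {A B C : X.Modules} (hA : FlatMod.IsFinLocFree A) (hB : FlatMod.IsFinLocFree B)
    (hC : FlatMod.IsFinLocFree C) (a : A ⟶ B) (b : B ⟶ C) (hab : a ≫ b = 0)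
    (hS : (ShortComplex.mk a b hab).ShortExact) : Epi (hMap a (Coh.structureModule X)) := by
  refine (OX.epi_iff _).2 fun x => ?_
  haveI : Epi b := hS.epi_g
  obtain ⟨U, j, hj, s, ⟨z, rfl⟩, hs⟩ := OX.exists_local_lift hC b (𝟙 _) x
  let R := Scheme.Modules.restrictFunctor j
  let S := ShortComplex.mk a b hab
  haveI := hS.mono_f
  haveI : Epi (S.map R).g := inferInstanceAs (Epi (R.map b))
  haveI : Mono (S.map R).f := inferInstanceAs (Mono (R.map a))
  let spl := ShortComplex.Splitting.ofExactOfSection (S.map R) (hS.exact.map R) s (hs.trans (R.map_id _)) inferInstance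
  let F := Scheme.Modules.pullback j
  let θ : R ≅ F := Scheme.Modules.restrictFunctorIsoPullback j
  let r : F.obj B ⟶ F.obj A := θ.inv.app B ≫ spl.r ≫ θ.hom.app A
  have hr : F.map a ≫ r = 𝟙 _ := by
    show F.map a ≫ θ.inv.app B ≫ spl.r ≫ θ.hom.app A = _
    rw [← Category.assoc, θ.inv.naturality]
    have h : R.map a ≫ spl.r = 𝟙 _ := spl.f_r
    simp only [Category.assoc]
    rw [← Category.assoc (R.map a), h, Category.id_comp, Iso.inv_hom_id_app]
  haveI : Epi (hMap (F.map a) (F.obj (Coh.structureModule X))) :=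
    (SplitEpi.mk (hMap r _) (by rw [← hMap_comp, hr, hMap_id])).epi
  haveI := isIso_cmp j hA (Coh.structureModule X)
  haveI := isIso_cmp j hB (Coh.structureModule X)
  haveI : Epi (F.map (hMap a (Coh.structureModule X))) := by
    have h : F.map (hMap a (Coh.structureModule X)) =
        cmp j B _ ≫ hMap (F.map a) _ ≫ inv (cmp j A (Coh.structureModule X)) := by
      rw [← Category.assoc, ← cmp_natural, Category.assoc, IsIso.hom_inv_id, Category.comp_id]
    rw [h]
    infer_instance
  haveI : Epi (R.map (hMap a (Coh.structureModule X))) := by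
    rw [show R.map (hMap a (Coh.structureModule X)) = θ.hom.app _ ≫ F.map (hMap a _) ≫ θ.inv.app _ by
      rw [θ.inv.naturality, Iso.hom_inv_id_app_assoc]]
    infer_instance
  exact OX.epi_stalk_map_of_restrict j _ z inferInstance

theorem shortExact_dual {A B C : X.Modules} (hA : FlatMod.IsFinLocFree A) (hB : FlatMod.IsFinLocFree B)
    (hC : FlatMod.IsFinLocFree C) (a : A ⟶ B) (b : B ⟶ C) (hab : a ≫ b = 0)
    (hS : (ShortComplex.mk a b hab).ShortExact) :
    ∃ h : hMap b (Coh.structureModule X) ≫ hMap a (Coh.structureModule X) = 0,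
      (ShortComplex.mk _ _ h).ShortExact := by
  let O := Coh.structureModule X
  haveI : Epi b := hS.epi_g
  have hz : hMap b O ≫ hMap a O = 0 := by rw [← hMap_comp, hab, HilbObs26.hMap_zero]
  haveI := HilbObs26.hMap_mono b O
  haveI := epi_hMap_dual hA hB hC a b hab hS
  refine ⟨hz, ShortComplex.ShortExact.mk' (ShortComplex.exact_of_f_is_kernel _
    (KernelFork.IsLimit.ofι' (hMap b O) hz fun {P} k hk => Classical.indefiniteDescription _ ?_)) ‹_› ‹_›⟩
  obtain ⟨v, hv⟩ := HilbObs26.wh_exact (S := ShortComplex.mk a b hab) hS.exact P (uncurry k) (by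
    rw [← uncurry_comp_hMap, hk]
    simp [uncurry])
  refine ⟨curry v, hom_ext ?_⟩
  rw [uncurry_comp_hMap, uncurry_curry, hv]

theorem exists_dual_inverse {L : X.Modules} (hL : PicF.IsInvertible L) :
    PicF.IsInvertible (dual L) ∧ Nonempty (CohB1.tensorMod L (dual L) ≅ Coh.structureModule X) := by
  have hLl := LocFreeHom.isFinLocFree_of_isInvertible hL
  obtain ⟨e⟩ := LocFreeHom.nonempty_iHom_self_iso hLl fun x => (hL x).imp fun U hU =>
    ⟨hU.1, hU.2.map fun e => ((Scheme.Modules.restrictFunctorIsoPullback U.ι).app L).symm ≪≫ e⟩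
  haveI := isIso_θ hLl L
  let i : CohB1.tensorMod L (dual L) ≅ Coh.structureModule X := asIso (θ L L) ≪≫ e.symm
  exact ⟨Seesaw26.isInvertible_of_tensor_iso i hL, ⟨i⟩⟩

theorem isZero_dual {A : X.Modules} (h : IsZero A) : IsZero (dual A) := by
  rw [IsZero.iff_id_eq_zero, ← hMap_id, h.eq_of_src (𝟙 A) 0, HilbObs26.hMap_zero]

end Dual

variable {P : Scheme.{u}} [IsLocallyNoetherian P] {δP : P → ℤ} {hP : Cyc.IsDimFun P δP}

theorem c1R_dual {L : P.Modules} (hL : PicF.IsInvertible L) :
    c1R hP (exists_dual_inverse hL).1 = -c1R hP hL := by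
  obtain ⟨hD, ⟨e⟩⟩ := exists_dual_inverse hL
  have h := c1R_tensor hP hL hD
  rw [c1R_structure hP _ e] at h
  exact eq_neg_of_add_eq_zero_right h.symm

theorem HasRoots.finLocFree : ∀ {r : ℕ} {V : P.Modules} {x : ℕ → C1Ring hP}, HasRoots hP r V x →
    FlatMod.IsFinLocFree V := by
  intro r
  induction r with
  | zero =>
    intro V x h y
    refine ⟨⊤, 0, trivial, ⟨?_⟩⟩
    haveI : (Scheme.Modules.restrictFunctor (⊤ : P.Opens).ι).PreservesZeroMorphisms := inferInstance
    exact (Functor.map_isZero _ h.isZero).iso (Euler.isZero_freeMod_zero _)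
  | succ r ih =>
    intro V x h
    obtain ⟨M, L, h0, ⟨e⟩, hs, hx⟩ := h
    obtain ⟨hL, a, b, hab, hS⟩ := hs r (Nat.lt_succ_self _)
    have hM := ih (x := x) ⟨M, L, h0, ⟨Iso.refl _⟩, fun j hj => hs j (Nat.lt_succ_of_lt hj),
      fun j hj => hx j (Nat.lt_succ_of_lt hj)⟩
    exact DCoh.isFinLocFree_of_iso e (K0Sub.isFinLocFree_ext _ hS hM (LocFreeHom.isFinLocFree_of_isInvertible hL))

theorem HasRoots.dual : ∀ {r : ℕ} {V : P.Modules} {x : ℕ → C1Ring hP}, HasRoots hP r V x →
    ∃ z, HasRoots hP r (LocFreeDual20.dual V) z ∧ cp r z = cp r fun j => -x j := by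
  intro r
  induction r with
  | zero => exact fun {V x} h => ⟨fun j => -x j, hasRoots_zero (isZero_dual h.isZero) _, rfl⟩
  | succ r ih =>
    intro V x h
    have hVf := h.finLocFree
    obtain ⟨M, L, h0, ⟨e⟩, hs, hx⟩ := h
    obtain ⟨hL, a, b, hab, hS⟩ := hs r (Nat.lt_succ_self _)
    have hM : HasRoots hP r (M r) x := ⟨M, L, h0, ⟨Iso.refl _⟩, fun j hj => hs j (Nat.lt_succ_of_lt hj),
      fun j hj => hx j (Nat.lt_succ_of_lt hj)⟩
    obtain ⟨w, hw, hwc⟩ := ih hM
    have hS' : (ShortComplex.mk (a ≫ e.hom) (e.inv ≫ b) (by simp [hab])).ShortExact :=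
      ShortComplex.shortExact_of_iso (S₁ := ShortComplex.mk a b hab)
        (ShortComplex.isoMk (Iso.refl _) e (Iso.refl _) (by simp) (by simp)) hS
    obtain ⟨hz, hD⟩ := shortExact_dual hM.finLocFree hVf (LocFreeHom.isFinLocFree_of_isInvertible hL) _ _ _ hS'
    have hxr : c1R hP hL = x r := (root_eq hP L hL).symm.trans (hx r (Nat.lt_succ_self _))
    let z : ℕ → C1Ring hP := fun i => if i = 0 then -x r else w (i - 1)
    have h2 : ∀ i, z (1 + i) = w i := fun i => by
      show (if 1 + i = 0 then -x r else w (1 + i - 1)) = w i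
      rw [if_neg (by omega), Nat.add_sub_cancel_left]
    have hz1 : HasRoots hP 1 (LocFreeDual20.dual (L r)) z := (hasRoots_invertible (exists_dual_inverse hL).1).congr
      fun i hi => by
        obtain rfl : i = 0 := by omega
        show (-x r : C1Ring hP) = _
        rw [c1R_dual hL, hxr]
    refine ⟨z, Nat.add_comm 1 r ▸ HasRoots.ext _ _ hz hD hz1 (hw.congr fun i _ => h2 i), ?_⟩
    rw [Nat.add_comm r 1, cp_add, cp_congr (fun i _ => h2 i), hwc, cp_one, Nat.add_comm 1 r, cp_succ, mul_comm]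
    rfl

theorem TowerData.roots_dual {X : Scheme.{u}} [IsLocallyNoetherian X] {δ : X → ℤ} {π : P ⟶ X} {d : ℕ}
    (T : TowerData δ π d δP) {r : ℕ} {E : X.Modules} (hE : FlatMod.IsFinLocFree E)
    {x : ℕ → C1Ring T.setupP.2.2} (hx : HasRoots T.setupP.2.2 r ((Scheme.Modules.pullback π).obj E) x) :
    ∃ z, HasRoots T.setupP.2.2 r ((Scheme.Modules.pullback π).obj (LocFreeDual20.dual E)) z ∧
      cp r z = cp r fun j => -x j := by
  obtain ⟨z, hz, hc⟩ := hx.dual
  haveI := isIso_cmp π hE (Coh.structureModule X)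
  exact ⟨z, hz.of_iso (asIso (cmp π E (Coh.structureModule X)) ≪≫ iHomCongr (Iso.refl _) (OX.pullUnitIso π)).symm, hc⟩

theorem coeff_cp_neg {B : Type*} [CommRing B] (r : ℕ) (x : ℕ → B) (n : ℕ) :
    (cp r fun j => -x j).coeff n = (-1) ^ n * (cp r x).coeff n := by
  rw [coeff_cp, coeff_cp, Finset.mul_sum]
  refine Finset.sum_congr rfl fun I hI => ?_
  rw [Finset.prod_congr rfl (fun i _ => neg_eq_neg_one_mul (x (i : Fin r))), Finset.prod_mul_distrib, Finset.prod_const,
    (Finset.mem_powersetCard.1 hI).2]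

end GrothLib.PBDeg
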