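import Groth.Agent.Lib.PBDeg17.BivLocal

/-!
# Bivariant classes are determined by integral test schemes
-/

set_option autoImplicit false
set_option backward.isDefEq.respectTransparency false
set_option linter.style.haveILetI false

universe u

open CategoryTheory CategoryTheory.Limits AlgebraicGeometry TopologicalSpace
open GrothLib GrothLib.C1 GrothLib.CycFlat GrothLib.Ref1 GrothLib.CycPush

noncomputable section

namespace GrothLib.PBDeg

variable {X Y : Scheme.{u}} {f : X ⟶ Y} {δX : X → ℤ} {δY : Y → ℤ} {p : ℤ}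

/-- A square restricted along a morphism. -/
def sqAlong (hX : Cyc.IsSetup X δX) (hY : Cyc.IsSetup Y δY) (s : Bivar.Sq f δX δY) {V : Scheme.{u}}
    (h : V ⟶ s.Y') [LocallyOfFiniteType h] : Bivar.Sq s.f' s.δX' s.δY' :=
  haveI := (sq_setupX hX s).1
  haveI := (sq_setupY hY s).1
  haveI : LocallyOfFiniteType (pullback.snd h s.f') := MorphismProperty.pullback_snd _ _ inferInstance
  ⟨V, _, h, pullback.fst h s.f', pullback.snd h s.f', IsPullback.of_hasPullback h s.f', inferInstance,
    (CycP1.exists_deltaCompat h s.δY').choose, (CycP1.exists_deltaCompat (pullback.snd h s.f') s.δX').choose,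
    (CycP1.exists_deltaCompat h s.δY').choose_spec,
    (CycP1.exists_deltaCompat (pullback.snd h s.f') s.δX').choose_spec⟩

theorem surjective_residueFieldMap_of_isIso {A B : Scheme.{u}} (g : A ⟶ B) (a : A) [IsIso (g.stalkMap a)] :
    Function.Surjective (g.residueFieldMap a).hom := by
  intro z
  obtain ⟨x, rfl⟩ := A.residue_surjective a z
  obtain ⟨y, rfl⟩ := (ConcreteCategory.bijective_of_isIso (g.stalkMap a)).2 x
  refine ⟨B.residue (g a) y, ?_⟩
  show (B.residue (g a) ≫ g.residueFieldMap a) y = (g.stalkMap a ≫ A.residue a) y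
  rw [Scheme.residue_residueFieldMap]

theorem residueDegree_of_surjective {A B : Scheme.{u}} (g : A ⟶ B) {a : A}
    (hs : Function.Surjective (g.residueFieldMap a).hom) : g.residueDegree a = 1 :=
  C1.BasePush.residueDegree_eq_one g a ⟨(g.residueFieldMap a).hom.injective, hs⟩

/-- Pushforward of a cycle supported on points with trivial residue extensions and separate images. -/
theorem map_points {A B : Scheme.{u}} (h : A ⟶ B) [QuasiCompact h] {δA : A → ℤ} {δB : B → ℤ}
    (hδ : Cyc.DeltaCompat h δA δB) (β : AlgebraicCycle A ℤ) (α : AlgebraicCycle B ℤ)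
    (hres : ∀ a, β a ≠ 0 → Function.Surjective (h.residueFieldMap a).hom)
    (hinj : ∀ a b, β a ≠ 0 → β b ≠ 0 → h a = h b → a = b)
    (hval : ∀ a, β a ≠ 0 → α (h a) = β a) (hsurj : ∀ y, α y ≠ 0 → ∃ a, β a ≠ 0 ∧ h a = y) :
    AlgebraicCycle.map h δA δB β = α := by
  ext y
  rw [CycPush.map_apply]
  by_cases hy : α y = 0
  · rw [hy]
    refine finsum_mem_eq_zero_of_forall_eq_zero fun a ha => ?_
    by_cases hb : β a = 0
    · rw [hb, zero_mul]
    · exact absurd (hy ▸ (show h a = y from ha) ▸ hval a hb : (0 : ℤ) = β a).symm hb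
  · obtain ⟨a, ha, rfl⟩ := hsurj y hy
    rw [finsum_mem_inter_support_eq' _ _ {a} fun b hb => ?_, finsum_mem_singleton, AlgebraicCycle.mapCoeff,
      if_pos (CycPush.delta_eq h hδ (RingHom.Finite.of_surjective _ (hres a ha))),
      residueDegree_of_surjective h (hres a ha), Nat.cast_one, mul_one, hval a ha]
    exact ⟨fun hb' => hinj b a (left_ne_zero_of_mul hb) ha hb', fun e => by
      rw [Set.mem_singleton_iff.1 e]; rfl⟩

/-- A cycle supported at one point. -/
def single {A : Scheme.{u}} (a : A) (n : ℤ) : AlgebraicCycle A ℤ :=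
  open Classical in
  toCycle (fun x => if x = a then n else 0) fun x => ⟨⊤, trivial, (Set.finite_singleton a).subset fun y hy => by
    by_contra h
    exact hy.2 (if_neg h)⟩

theorem single_apply_self {A : Scheme.{u}} (a : A) (n : ℤ) : single a n a = n := if_pos rfl

theorem single_apply_ne {A : Scheme.{u}} {a x : A} (n : ℤ) (h : x ≠ a) : single a n x = 0 := if_neg h

theorem single_supp {A : Scheme.{u}} {a x : A} {n : ℤ} (h : single a n x ≠ 0) : x = a :=
  by_contra fun hne => h (single_apply_ne n hne)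

/-- A class killing proper birational models of integral test schemes kills every one-point cycle. -/
theorem op_point_eq_zero (hX : Cyc.IsSetup X δX) (hY : Cyc.IsSetup Y δY) (c : Bivar.Cl p f δX δY)
    (h3 : ∀ (s : Bivar.Sq f δX δY) [IsIntegral s.Y'],
      ∃ (t : Bivar.Sq s.f' s.δX' s.δY') (_ : IrreducibleSpace t.Y') (_ : IsProper t.g),
        t.g (genericPoint t.Y') = genericPoint s.Y' ∧ IsIso (t.g.stalkMap (genericPoint t.Y')) ∧
          ∀ (k : ℤ) (α : AlgebraicCycle t.Y' ℤ) (hα : α ∈ Cyc.Zk t.Y' t.δY' k), α (genericPoint t.Y') = 1 →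
            (∀ y : t.Y', y ≠ genericPoint t.Y' → α y = 0) → c.op (s.paste t) k (ChowOps.cl α hα) = 0)
    (s : Bivar.Sq f δX δY) {k : ℤ} {α : AlgebraicCycle s.Y' ℤ} (hα : α ∈ Cyc.Zk s.Y' s.δY' k) (ξ : s.Y')
    (hξ : ∀ x, x ≠ ξ → α x = 0) : c.op s k (ChowOps.cl α hα) = 0 := by
  haveI := (sq_setupX hX s).1
  haveI := (sq_setupY hY s).1
  by_cases hn : α ξ = 0
  · have e : α = 0 := by
      ext x
      by_cases h : x = ξ
      · rw [h]; exact hn
      · exact hξ x h
    subst e
    exact (congrArg (c.op s k) (Bivar.cl_zero)).trans (map_zero _)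
  have hk : s.δY' ξ = k := zk_supp hα ξ hn
  let v := sqAlong hX hY s (clι ξ)
  haveI : IsIntegral (s.paste v).Y' := inferInstanceAs (IsIntegral (clSub ξ))
  obtain ⟨t, hirr, hproper, hgen, hiso, hzero⟩ := h3 (s.paste v)
  let h : ((s.paste v).paste t).Y' ⟶ s.Y' := t.g ≫ clι ξ
  haveI : IsClosedImmersion v.g' :=
    MorphismProperty.of_isPullback (P := @IsClosedImmersion) v.isPullback (inferInstanceAs (IsClosedImmersion (clι ξ)))
  haveI : IsProper t.g' := MorphismProperty.of_isPullback (P := @IsProper) t.isPullback hproper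
  let h' : ((s.paste v).paste t).X' ⟶ s.X' := t.g' ≫ v.g'
  haveI : IsClosedImmersion (v.g : (s.paste v).Y' ⟶ s.Y') := inferInstanceAs (IsClosedImmersion (clι ξ))
  haveI : IsProper h := inferInstanceAs (IsProper (t.g ≫ (v.g : (s.paste v).Y' ⟶ s.Y')))
  haveI : IsProper h' := inferInstanceAs (IsProper (t.g' ≫ v.g'))
  have w₁ : h ≫ s.g = ((s.paste v).paste t).g := Category.assoc _ _ _
  have w₂ : h' ≫ s.f' = ((s.paste v).paste t).f' ≫ h := by
    show (t.g' ≫ v.g') ≫ s.f' = t.f' ≫ t.g ≫ v.g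
    rw [Category.assoc, ← v.isPullback.w, ← Category.assoc, ← t.isPullback.w, Category.assoc]
  have w₃ : h' ≫ s.g' = ((s.paste v).paste t).g' := Category.assoc _ _ _
  let η := genericPoint t.Y'
  have hηξ : h η = ξ := by
    show clι ξ (t.g η) = ξ
    rw [hgen]
    exact clι_genericPoint ξ
  have hres : Function.Surjective (h.residueFieldMap η).hom := by
    show Function.Surjective ((t.g ≫ clι ξ).residueFieldMap η).hom
    rw [Scheme.residueFieldMap_comp]
    exact (surjective_residueFieldMap_of_isIso t.g η).comp (residueFieldMap_bijective (clι ξ) (t.g η)).2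
  have hδη : t.δY' η = k := by
    rw [CycPush.delta_eq h (sq_compat_hom (s := s) (t := (s.paste v).paste t) w₁)
      (RingHom.Finite.of_surjective _ hres), hηξ, hk]
  have h1 : single η (1 : ℤ) ∈ Cyc.Zk t.Y' t.δY' k := fun x hx => by
    by_contra hne
    exact hx (single_supp hne ▸ hδη)
  let γ := α ξ • single η (1 : ℤ)
  have hγ : γ ∈ Cyc.Zk t.Y' t.δY' k := (ChowOps.zk t.Y' t.δY' k).zsmul_mem h1 _
  have hγx : ∀ x, γ x = α ξ * single η (1 : ℤ) x := fun x => by
    simp [γ]
  have hγ0 : c.op ((s.paste v).paste t) k (ChowOps.cl γ hγ) = 0 := by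
    rw [show ChowOps.cl γ hγ = α ξ • ChowOps.cl (single η (1 : ℤ)) h1 from
      map_zsmul (ChowOps.clHom t.Y' t.δY' k) (α ξ) ⟨_, h1⟩, map_zsmul,
      hzero k _ h1 (single_apply_self _ _) fun y hy => single_apply_ne _ hy, zsmul_zero]
  have hsupp : ∀ x, γ x ≠ 0 → x = η := fun x hx => single_supp (right_ne_zero_of_mul (hγx x ▸ hx))
  obtain ⟨β, hβ, e₁, e₂⟩ := c.push s ((s.paste v).paste t) h h' w₁ w₂ w₃ k γ hγ
  have hmap : AlgebraicCycle.map h t.δY' s.δY' γ = α :=
    map_points h (sq_compat_hom (s := s) (t := (s.paste v).paste t) w₁) γ α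
      (fun a ha => hsupp a ha ▸ hres) (fun a b ha hb _ => (hsupp a ha).trans (hsupp b hb).symm)
      (fun a ha => by rw [hsupp a ha, hηξ, hγx, single_apply_self, mul_one])
      fun y hy => by
        obtain rfl : y = ξ := by_contra fun hne => hy (hξ y hne)
        exact ⟨η, by rw [hγx, single_apply_self, mul_one]; exact hy, hηξ⟩
  obtain ⟨μ, hμ⟩ := exists_mapHom h' (sq_setupX hX ((s.paste v).paste t)) (sq_setupX hX s)
    (sq_compat_hom' w₃) (k - p)
  refine (congrArg (c.op s k) (Bivar.cl_congr hmap.symm _ _)).trans (e₂.trans ?_)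
  rw [← hμ β hβ, ← e₁, hγ0, map_zero]

theorem eq_zero_of_birational (hX : Cyc.IsSetup X δX) (hY : Cyc.IsSetup Y δY) (c : Bivar.Cl p f δX δY)
    (h3 : ∀ (s : Bivar.Sq f δX δY) [IsIntegral s.Y'],
      ∃ (t : Bivar.Sq s.f' s.δX' s.δY') (_ : IrreducibleSpace t.Y') (_ : IsProper t.g),
        t.g (genericPoint t.Y') = genericPoint s.Y' ∧ IsIso (t.g.stalkMap (genericPoint t.Y')) ∧
          ∀ (k : ℤ) (α : AlgebraicCycle t.Y' ℤ) (hα : α ∈ Cyc.Zk t.Y' t.δY' k), α (genericPoint t.Y') = 1 →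
            (∀ y : t.Y', y ≠ genericPoint t.Y' → α y = 0) → c.op (s.paste t) k (ChowOps.cl α hα) = 0) :
    c = 0 := by
  classical
  refine Bivar.Cl.ext (funext fun s => funext fun k => AddMonoidHom.ext fun a => ?_)
  obtain ⟨α, hα, rfl⟩ := Bivar.exists_rep a
  show c.op s k _ = 0
  haveI := (sq_setupX hX s).1
  haveI := (sq_setupY hY s).1
  let J := {ξ : s.Y' // α ξ ≠ 0}
  let Z : J → Scheme.{u} := fun j => clSub (j : s.Y')
  let g : ∀ j : J, Z j ⟶ s.Y' := fun j => clι (j : s.Y')
  haveI : ∀ j, IsFinite (g j) := fun j => inferInstanceAs (IsFinite (clι (j : s.Y')))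
  haveI : IsFinite (Sigma.desc g) := isFinite_sigmaDesc g fun x => by
    obtain ⟨U, hx, hfin⟩ := LF.of_cycle α x
    refine ⟨U, hx, (hfin.preimage (Subtype.val_injective.injOn)).subset ?_⟩
    rintro ⟨ξ, hξ⟩ ⟨y, hy, hyU⟩
    exact ⟨((mem_range_clι ξ).1 hy).mem_open U.2 hyU, hξ⟩
  let w := sqAlong hX hY s (Sigma.desc g)
  let π : (s.paste w).Y' ⟶ s.Y' := Sigma.desc g
  haveI : IsProper w.g' := MorphismProperty.of_isPullback (P := @IsProper) w.isPullback
    (inferInstanceAs (IsProper (Sigma.desc g)))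
  haveI : IsProper π := inferInstanceAs (IsProper (Sigma.desc g))
  let η : J → (∐ Z :) := fun j => Sigma.ι Z j (genericPoint (Z j))
  have hπη : ∀ j : J, π (η j) = (j : s.Y') := fun j => by
    show Sigma.desc g (Sigma.ι Z j _) = _
    rw [← Scheme.Hom.comp_apply, Sigma.ι_desc]
    exact clι_genericPoint _
  have hres : ∀ j : J, Function.Surjective (π.residueFieldMap (η j)).hom := fun j => by
    intro z
    haveI : SurjectiveOnStalks (Sigma.ι Z j ≫ Sigma.desc g) := by
      rw [Sigma.ι_desc]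
      exact inferInstanceAs (SurjectiveOnStalks (clι (j : s.Y')))
    have hc := (residueFieldMap_bijective (Sigma.ι Z j ≫ Sigma.desc g) (genericPoint (Z j))).2
    rw [Scheme.residueFieldMap_comp] at hc
    change Function.Surjective fun w => (Sigma.ι Z j).residueFieldMap (genericPoint (Z j))
      ((Sigma.desc g).residueFieldMap (η j) w) at hc
    obtain ⟨w, hw⟩ := hc ((Sigma.ι Z j).residueFieldMap (genericPoint (Z j)) z)
    exact ⟨w, ((Sigma.ι Z j).residueFieldMap (genericPoint (Z j))).hom.injective hw⟩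
  let av : (∐ Z :) → ℤ := fun x =>
    if ((sigmaMk Z).symm x).2 = genericPoint (Z ((sigmaMk Z).symm x).1)
      then α (((sigmaMk Z).symm x).1 : s.Y') else 0
  have hav : ∀ (j : J) (z : Z j), av (Sigma.ι Z j z) = if z = genericPoint (Z j) then α (j : s.Y') else 0 := by
    intro j z
    simp only [av]
    rw [show (sigmaMk Z).symm (Sigma.ι Z j z) = ⟨j, z⟩ from by rw [← sigmaMk_mk, Homeomorph.symm_apply_apply]]
  have hsupp : ∀ x, av x ≠ 0 → ∃ j, x = η j := fun x hx => by
    obtain ⟨⟨j, z⟩, rfl⟩ := (sigmaMk Z).surjective x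
    rw [sigmaMk_mk] at hx ⊢
    rw [hav] at hx
    exact ⟨j, congrArg _ (by_contra fun h => hx (if_neg h))⟩
  let αW : AlgebraicCycle (∐ Z :) ℤ := toCycle av fun x => by
    obtain ⟨⟨j, z⟩, rfl⟩ := (sigmaMk Z).surjective x
    refine ⟨(Sigma.ι Z j).opensRange, ⟨z, (sigmaMk_mk _ _ _).symm⟩, (Set.finite_singleton (η j)).subset ?_⟩
    rintro y ⟨⟨z', rfl⟩, hy⟩
    rw [hav] at hy
    rw [Set.mem_singleton_iff, show z' = genericPoint (Z j) from by_contra fun h => hy (if_neg h)]
  have hη : ∀ j, αW (η j) = α (j : s.Y') := fun j => (hav j _).trans (if_pos rfl)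
  have hδη : ∀ j, w.δY' (η j) = k := fun j => by
    rw [CycPush.delta_eq π (sq_compat_hom (s := s) (t := s.paste w) rfl)
      (RingHom.Finite.of_surjective _ (hres j)), hπη, zk_supp hα _ j.2]
  have hαW : αW ∈ Cyc.Zk w.Y' w.δY' k := fun x hx => by
    by_contra hne
    obtain ⟨j, rfl⟩ := hsupp x hne
    exact hx (hδη j)
  have hmap : AlgebraicCycle.map π w.δY' s.δY' αW = α :=
    map_points π (sq_compat_hom (s := s) (t := s.paste w) rfl) αW α
      (fun a ha => by obtain ⟨j, rfl⟩ := hsupp a ha; exact hres j)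
      (fun a b ha hb he => by
        obtain ⟨i, rfl⟩ := hsupp a ha
        obtain ⟨j, rfl⟩ := hsupp b hb
        rw [hπη, hπη] at he
        rw [Subtype.ext he])
      (fun a ha => by obtain ⟨j, rfl⟩ := hsupp a ha; rw [hπη]; exact (hη j).symm)
      fun y hy => ⟨η ⟨y, hy⟩, (hη ⟨y, hy⟩).trans_ne hy, hπη ⟨y, hy⟩⟩
  obtain ⟨β, hβ, e₁, e₂⟩ := c.push s (s.paste w) π w.g' rfl w.isPullback.w.symm rfl k αW hαW
  obtain ⟨μ, hμ⟩ := exists_mapHom w.g' (sq_setupX hX (s.paste w)) (sq_setupX hX s)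
    (sq_compat_hom' (s := s) (t := s.paste w) rfl) (k - p)
  refine (congrArg (c.op s k) (Bivar.cl_congr hmap.symm _ _)).trans (e₂.trans ?_)
  rw [← hμ β hβ, ← e₁]
  refine (congrArg μ ?_).trans (map_zero μ)
  haveI : ∀ j : J, IsOpenImmersion (sqAlong hX hY (s.paste w) (Sigma.ι Z j)).g := fun j =>
    inferInstanceAs (IsOpenImmersion (Sigma.ι Z j))
  refine op_eq_zero_of_cover hX hY c (s.paste w) (fun j => sqAlong hX hY (s.paste w) (Sigma.ι Z j))
    (fun i j hij => ?_) (fun x => ?_) hαW fun j α₁ hα₁ hα₁c => ?_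
  · exact Set.disjoint_left.2 fun x hi hj =>
      Set.disjoint_left.1 (Opens.coe_disjoint.2 (disjoint_opensRange_sigmaι Z i j hij)) hi hj
  · obtain ⟨⟨j, z⟩, rfl⟩ := (sigmaMk Z).surjective x
    exact ⟨j, z, (sigmaMk_mk _ _ _).symm⟩
  · refine op_point_eq_zero hX hY c h3 _ hα₁ (genericPoint (Z j)) fun x hx => ?_
    rw [hα₁c]
    exact (hav j x).trans (if_neg hx)

end GrothLib.PBDeg
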