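import Groth.Agent.Lib.PBDeg17.BivGysin

/-!
# The proper pushforward class
-/

set_option autoImplicit false
set_option backward.isDefEq.respectTransparency false
set_option linter.style.haveILetI false

universe u

open CategoryTheory CategoryTheory.Limits AlgebraicGeometry
open GrothLib GrothLib.C1 GrothLib.CycFlat GrothLib.Ref1

noncomputable section

namespace GrothLib.PBDeg

theorem map_id_cycle {X : Scheme.{u}} (δ : X → ℤ) (α : AlgebraicCycle X ℤ) :
    AlgebraicCycle.map (𝟙 X) δ δ α = α :=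
  DFunLike.coe_injective (map_restrict (𝟙 X) (δS := δ) rfl (fun x _ => ⟨x, rfl⟩) α fun _ => rfl)

/-- Pushforward on Chow groups. -/
theorem exists_mapHom {A B : Scheme.{u}} (f : A ⟶ B) [IsProper f] {δA : A → ℤ} {δB : B → ℤ}
    (hA : Cyc.IsSetup A δA) (hB : Cyc.IsSetup B δB) (hf : Cyc.DeltaCompat f δA δB) (k : ℤ) :
    ∃ φ : ChowOps.CH A δA k →+ ChowOps.CH B δB k, ∀ (α : AlgebraicCycle A ℤ) (hα : α ∈ Cyc.Zk A δA k)
      (hm : AlgebraicCycle.map f δA δB α ∈ Cyc.Zk B δB k),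
      φ (ChowOps.cl α hα) = ChowOps.cl (AlgebraicCycle.map f δA δB α) hm := by
  haveI := hA.1
  haveI := hB.1
  obtain ⟨φ, hφ⟩ := exists_chHom hB.2.2 (δ := δA) (k := k) (l := k) (AlgebraicCycle.map f δA δB)
    (fun a ha => Bivar.cycMap_mem_Zk f δA δB k ha) (fun a b _ _ => Bivar.cycMap_add f δA δB a b)
    (fun a _ ha => RZ.of_ratEquivZero hB.2.2 (ratEquivZero_map f hA.2.2 hB.2.2 hf ha))
  exact ⟨φ, fun α hα hm => hφ α hα⟩

variable {X Y Z : Scheme.{u}} {δX : X → ℤ} {δY : Y → ℤ} {δZ : Z → ℤ} {f : X ⟶ Y} {g : Y ⟶ Z}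

/-- A chosen fibre product over a square, with its dimension function. -/
structure Over (f : X ⟶ Y) (δX : X → ℤ) (s : Bivar.Sq g δY δZ) : Type (u + 1) where
  X' : Scheme.{u}
  f' : X' ⟶ s.X'
  gX : X' ⟶ X
  hp : IsPullback f' gX s.g' f
  δX' : X' → ℤ
  compat : Cyc.DeltaCompat gX δX' δX

/-- The square over the composite. -/
abbrev Over.sq {s : Bivar.Sq g δY δZ} (o : Over f δX s) : Bivar.Sq (f ≫ g) δX δZ :=
  ⟨s.Y', o.X', s.g, o.f' ≫ s.f', o.gX, o.hp.paste_horiz s.isPullback, s.lft, s.δY', o.δX', s.compatY, o.compat⟩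

theorem Over.proper [IsProper f] {s : Bivar.Sq g δY δZ} (o : Over f δX s) : IsProper o.f' :=
  MorphismProperty.of_isPullback (P := @IsProper) o.hp.flip inferInstance

theorem Over.compat' (hδ : Cyc.DeltaCompat f δX δY) {s : Bivar.Sq g δY δZ} (o : Over f δX s) :
    Cyc.DeltaCompat o.f' o.δX' s.δX' :=
  C1.deltaCompat_of_comp o.f' s.g' (o.gX ≫ f) o.hp.w s.compatX
    (Bivar.deltaCompat_comp o.gX f o.δX' δX δY o.compat hδ)

theorem exists_over (hX : Cyc.IsSetup X δX) (s : Bivar.Sq g δY δZ) : Nonempty (Over f δX s) := by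
  haveI := hX.1
  haveI := sq_lftX s
  haveI : LocallyOfFiniteType (pullback.snd s.g' f) := inferInstance
  obtain ⟨δ', h'⟩ := CycP1.exists_deltaCompat (pullback.snd s.g' f) δX
  exact ⟨⟨_, _, _, IsPullback.of_hasPullback s.g' f, δ', h'⟩⟩

theorem exists_isProperPushClass (hX : Cyc.IsSetup X δX) (hY : Cyc.IsSetup Y δY) (hZ : Cyc.IsSetup Z δZ)
    [IsProper f] (hδ : Cyc.DeltaCompat f δX δY) {p : ℤ} (c : Bivar.Cl p (f ≫ g) δX δZ) :
    ∃ c' : Bivar.Cl p g δY δZ, Bivar.IsProperPushClass f g c c' := by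
  let o : (s : Bivar.Sq g δY δZ) → Over f δX s := fun s => (exists_over hX s).some
  choose μ hμ using fun (s : Bivar.Sq g δY δZ) (o : Over f δX s) (k : ℤ) =>
    haveI := o.proper
    exists_mapHom o.f' (sq_setupX hX o.sq) (sq_setupX hY s) (o.compat' hδ) k
  let φ : (s : Bivar.Sq g δY δZ) → (k : ℤ) → ChowOps.CH s.Y' s.δY' k →+ ChowOps.CH s.X' s.δX' (k - p) :=
    fun s k => (μ s (o s) (k - p)).comp (c.op (o s).sq k)
  -- a morphism of squares induces one of the chosen fibre products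
  have hlift : ∀ (s t : Bivar.Sq g δY δZ) (os : Over f δX s) (ot : Over f δX t) (h' : t.X' ⟶ s.X'),
      h' ≫ s.g' = t.g' → ∃ hX' : ot.X' ⟶ os.X', hX' ≫ os.gX = ot.gX ∧ hX' ≫ os.f' = ot.f' ≫ h' ∧
        IsPullback hX' ot.f' os.f' h' := by
    intro s t os ot h' w₃
    refine ⟨os.hp.lift (ot.f' ≫ h') ot.gX (by rw [Category.assoc, w₃, ot.hp.w]), os.hp.lift_snd _ _ _,
      os.hp.lift_fst _ _ _, ?_⟩
    have ht : IsPullback ot.f' ((os.hp.lift (ot.f' ≫ h') ot.gX (by rw [Category.assoc, w₃, ot.hp.w])) ≫ os.gX)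
        (h' ≫ s.g') f := by
      rw [os.hp.lift_snd, w₃]; exact ot.hp
    exact (IsPullback.of_bot ht (os.hp.lift_fst _ _ _).symm os.hp).flip
  refine ⟨{ op := φ, push := ?_, pull := ?_, gysin := ?_ }, inferInstance, hδ, ?_⟩
  · intro s t h _ h' _ w₁ w₂ w₃ k α hα
    obtain ⟨hX', v₁, v₂, hsq⟩ := hlift s t (o s) (o t) h' w₃
    haveI : IsProper hX' := MorphismProperty.of_isPullback (P := @IsProper) hsq.flip inferInstance
    haveI := (o s).proper
    haveI := (o t).proper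
    obtain ⟨β, hβ, e₁, e₂⟩ := c.push (o s).sq (o t).sq h hX' w₁
      (show hX' ≫ ((o s).f' ≫ s.f') = ((o t).f' ≫ t.f') ≫ h by
        rw [← Category.assoc, v₂, Category.assoc, w₂, Category.assoc]) v₁ k α hα
    refine ⟨AlgebraicCycle.map (o t).f' (o t).δX' t.δX' β, Bivar.cycMap_mem_Zk _ _ _ _ hβ, ?_, ?_⟩
    · show μ t (o t) (k - p) (c.op (o t).sq k _) = _
      rw [e₁]
      exact hμ t (o t) _ β hβ _
    · show μ s (o s) (k - p) (c.op (o s).sq k _) = _
      rw [e₂]
      refine (hμ s (o s) _ _ _ (Bivar.cycMap_mem_Zk _ _ _ _ (Bivar.cycMap_mem_Zk _ _ _ _ hβ))).trans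
        (Bivar.cl_congr ?_ _ _)
      rw [CycBasic.map_map hX' (o s).f' _ _ _ (sq_compat_hom' (s := (o s).sq) (t := (o t).sq) v₁) ((o s).compat' hδ),
        C1.map_congr v₂, ← CycBasic.map_map (o t).f' h' _ _ _ ((o t).compat' hδ) (sq_compat_hom' w₃)]
  · intro s t h _ h' _ n hn hn' w₁ w₂ w₃ k α hα
    obtain ⟨hX', v₁, v₂, hsq⟩ := hlift s t (o s) (o t) h' w₃
    haveI := (o s).proper
    haveI := (o t).proper
    haveI := (sq_setupX hY t).1
    haveI := (sq_setupX hY s).1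
    haveI := (sq_setupX hX (o s).sq).1
    haveI := (sq_setupX hX (o t).sq).1
    haveI := sq_lft_hom' w₃
    haveI : Flat hX' := MorphismProperty.of_isPullback hsq.flip inferInstance
    haveI : LocallyOfFiniteType hX' := MorphismProperty.of_isPullback hsq.flip inferInstance
    obtain ⟨β, hβ, e₁, e₂⟩ := c.pull (o s).sq (o t).sq h hX' n hn (hasRelDim_of_isPullback hsq.flip hn') w₁
      (show hX' ≫ ((o s).f' ≫ s.f') = ((o t).f' ≫ t.f') ≫ h by
        rw [← Category.assoc, v₂, Category.assoc, w₂, Category.assoc]) v₁ k α hα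
    refine ⟨AlgebraicCycle.map (o s).f' (o s).δX' s.δX' β, Bivar.cycMap_mem_Zk _ _ _ _ hβ, ?_,
      fun α₁ hα₁c hα₁ => ?_⟩
    · show μ s (o s) (k - p) (c.op (o s).sq k _) = _
      rw [e₁]
      exact hμ s (o s) _ β hβ _
    · obtain ⟨β₁, hβ₁, b₁, b₂⟩ := e₂ α₁ hα₁c hα₁
      refine ⟨AlgebraicCycle.map (o t).f' (o t).δX' t.δX' β₁, Bivar.cycMap_mem_Zk _ _ _ _ hβ₁, ?_, ?_⟩
      · exact (BasePush.pullFun_map hsq.flip (sq_setupX hY t).2.2 ((o s).compat' hδ) ((o t).compat' hδ)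
          (shift_of_hasRelDim h' hn' (sq_compat_hom' w₃)) β β₁ b₁).symm
      · show μ t (o t) (k + n - p) (c.op (o t).sq (k + n) _) = _
        rw [b₂]
        exact hμ t (o t) _ β₁ hβ₁ _
  · intro s t i _ j _ w₁ w₂ w₃ L hL σ hσ τ hτ k α hα
    obtain ⟨jX, v₁, v₂, hsq⟩ := hlift s t (o s) (o t) j w₃
    haveI := (o s).proper
    haveI := (o t).proper
    haveI : IsClosedImmersion jX := MorphismProperty.of_isPullback hsq.flip inferInstance
    haveI := (sq_setupX hY s).1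
    haveI := (sq_setupX hY t).1
    haveI := (sq_setupX hX (o s).sq).1
    haveI := (sq_setupX hX (o t).sq).1
    have hds := (sq_setupX hX (o s).sq).2.2
    have hN := C1.isInvertible_pullback s.f' hL
    have hN' := C1.isInvertible_pullback (o s).f' hN
    have hN'' : PicF.IsInvertible ((Scheme.Modules.pullback ((o s).f' ≫ s.f')).obj L) :=
      C1.isInvertible_pullback _ hL
    let e : (Scheme.Modules.pullback (o s).f').obj ((Scheme.Modules.pullback s.f').obj L) ≅
        (Scheme.Modules.pullback ((o s).f' ≫ s.f')).obj L :=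
      (Scheme.Modules.pullbackComp (o s).f' s.f').app L
    have hz := isZeroSchemeOf_of_isPullback hsq.flip hN hτ
    obtain ⟨β, hβ, e₁, e₂⟩ := c.gysin (o s).sq (o t).sq i jX w₁
      (show jX ≫ ((o s).f' ≫ s.f') = ((o t).f' ≫ t.f') ≫ i by
        rw [← Category.assoc, v₂, Category.assoc, w₂, Category.assoc]) v₁ L hL σ hσ _
      (isZeroSchemeOf_iso e hN' hz) k α hα
    refine ⟨AlgebraicCycle.map (o s).f' (o s).δX' s.δX' β, Bivar.cycMap_mem_Zk _ _ _ _ hβ, ?_,
      fun w hw γ hγc hγ w' hw' => ?_⟩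
    · show μ s (o s) (k - p) (c.op (o s).sq k _) = _
      rw [e₁]
      exact hμ s (o s) _ β hβ _
    · let v := pullChoice (o s).f' hN w'
      have hv : ∀ ξ, v ξ ≠ 0 := fun ξ => pullFib_ne_zero (o s).f' hN (hw' _)
      obtain ⟨ζX, hζX, z₁, z₂⟩ := e₂ w hw γ hγc hγ (fun ξ => isoFib e ξ (v ξ))
        fun ξ => isoFib_ne_zero e hN' (hv ξ)
      refine ⟨AlgebraicCycle.map (o t).f' (o t).δX' t.δX' ζX, Bivar.cycMap_mem_Zk _ _ _ _ hζX, fun d => ?_, ?_⟩
      · have hgv := gysinChoice_ne_zero (s := pullSec (o s).f' _ τ) hv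
        have hlf := lf_c1Cap hds hN' (LF.of_cycle β) hgv
        have hfull : AlgebraicCycle.map jX (o t).δX' (o s).δX' ζX = toCycle _ hlf :=
          DFunLike.coe_injective (map_restrict jX
            (delta_closed (sq_compat_hom' (s := (o s).sq) (t := (o t).sq) v₁))
            (fun x hx => gysin_supp jX hds hN' hz v hx) ζX fun d => by
              rw [z₁]
              show Cyc.c1CapFun _ _ ⇑β (Cyc.gysinChoice _ (isoSec e _) (fun ξ => isoFib e ξ (v ξ))) _ = _
              rw [← gysinChoice_iso e hN', c1Cap_iso e hds hN' hN'']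
              )
        have hm := map_c1Cap_pull (o s).f' hN hds (sq_setupX hY s).2.2 ((o s).compat' hδ) β
          (gysinChoice_ne_zero (s := τ) hw') (toCycle _ hlf) (by
            show Cyc.c1CapFun _ _ ⇑β (Cyc.gysinChoice _ (pullSec (o s).f' _ τ) v) = _
            rw [show pullChoice (o s).f' hN (Cyc.gysinChoice _ τ w') =
              Cyc.gysinChoice _ (pullSec (o s).f' _ τ) v from
                funext fun y => gysinChoice_pullback (o s).f' hN w' y])
        rw [← hfull, CycBasic.map_map jX (o s).f' _ _ _ (sq_compat_hom' (s := (o s).sq) (t := (o t).sq) v₁)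
          ((o s).compat' hδ), C1.map_congr v₂,
          ← CycBasic.map_map (o t).f' j _ _ _ ((o t).compat' hδ) (sq_compat_hom' w₃)] at hm
        have hd := congrFun hm (j d)
        rw [delta_closed (sq_compat_hom' w₃), map_on] at hd
        rw [delta_closed (sq_compat_hom' w₃)]
        exact hd
      · show μ t (o t) (k - 1 - p) (c.op (o t).sq (k - 1) _) = _
        rw [z₂]
        exact hμ t (o t) _ ζX hζX _
  · intro s X' f' _ gX hp δX' hX' k α hα β hβ hc
    let o' : Over f δX s := ⟨X', f', gX, hp, δX', hX'⟩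
    let e : X' ⟶ (o s).X' := (o s).hp.lift f' gX hp.w
    have v₁ : e ≫ (o s).gX = gX := (o s).hp.lift_snd _ _ _
    have v₂ : e ≫ (o s).f' = f' := (o s).hp.lift_fst _ _ _
    haveI := (o s).proper
    haveI := (sq_setupX hY s).1
    haveI : IsIso e := by
      refine ⟨hp.lift (o s).f' (o s).gX (o s).hp.w, ?_, ?_⟩
      · exact hp.hom_ext (by rw [Category.assoc, hp.lift_fst, v₂, Category.id_comp])
          (by rw [Category.assoc, hp.lift_snd, v₁, Category.id_comp])
      · exact (o s).hp.hom_ext (by rw [Category.assoc, v₂, hp.lift_fst, Category.id_comp])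
          (by rw [Category.assoc, v₁, hp.lift_snd, Category.id_comp])
    obtain ⟨β₀, hβ₀, e₁, e₂⟩ := c.push (o s).sq o'.sq (𝟙 s.Y') e (Category.id_comp _)
      (show e ≫ ((o s).f' ≫ s.f') = (f' ≫ s.f') ≫ 𝟙 _ by rw [← Category.assoc, v₂, Category.comp_id]) v₁ k α hα
    have e₂' : c.op (o s).sq k (ChowOps.cl α hα) =
        ChowOps.cl (AlgebraicCycle.map e δX' (o s).δX' β₀) (Bivar.cycMap_mem_Zk _ _ _ _ hβ₀) :=
      (congrArg (c.op (o s).sq k) (Bivar.cl_congr (map_id_cycle s.δY' α).symm _ _)).trans e₂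
    show μ s (o s) (k - p) (c.op (o s).sq k _) = _
    rw [e₂']
    refine (hμ s (o s) _ _ _ (Bivar.cycMap_mem_Zk _ _ _ _ (Bivar.cycMap_mem_Zk _ _ _ _ hβ₀))).trans ?_
    refine (Bivar.cl_congr ?_ _ (Bivar.cycMap_mem_Zk f' δX' s.δX' _ hβ₀)).trans ?_
    · rw [CycBasic.map_map e (o s).f' _ _ _ (sq_compat_hom' (s := (o s).sq) (t := o'.sq) v₁) ((o s).compat' hδ),
        C1.map_congr v₂]
    · rw [← hμ s o' _ β₀ hβ₀, ← hμ s o' _ β hβ]
      exact congrArg _ (e₁.symm.trans hc)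

end GrothLib.PBDeg
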