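import Groth.Agent.Lib.PBDeg17.VBInj

/-!
# Flat pullback to an open piece of a projective bundle is injective
-/

set_option autoImplicit false
set_option backward.isDefEq.respectTransparency false
set_option linter.style.haveILetI false
set_option maxHeartbeats 1600000

universe u

open CategoryTheory CategoryTheory.Limits AlgebraicGeometry
open GrothLib.C1 GrothLib.CycFlat

noncomputable section

namespace GrothLib.PBDeg

variable {X : Scheme.{u}}

/-- Pullback of a cycle is injective on an open piece of `P(E)` containing every point at which a rank one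
sub-bundle with locally free quotient survives. -/
theorem ratEquivZero_of_open_projBundle {δ : X → ℤ} (hX : Cyc.IsSetup X δ) {E ℱ : X.Modules} {r : ℕ}
    (i₀ : Coh.structureModule X ⟶ E) (g₀ : E ⟶ ℱ) (w₀ : i₀ ≫ g₀ = 0) (hS₀ : (ShortComplex.mk i₀ g₀ w₀).ShortExact)
    (hr : FlatMod.IsFinLocFreeOfRank r ℱ) (hE' : FlatMod.IsFinLocFreeOfRank (r + 1) E)
    {P : Scheme.{u}} {π : P ⟶ X} [IsProper π] {O1 : P.Modules} {q : (Scheme.Modules.pullback π).obj E ⟶ O1}
    (hB : KRR.IsProjBundle π E O1 q)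
    {B : Scheme.{u}} {φB : B ⟶ X} (ψ : B ⟶ P) [IsOpenImmersion ψ] (hψ : ψ ≫ π = φB)
    (hoff : ∀ y, y ∉ Set.range ψ → ¬ IsIso ((OX.stalk y).map ((Scheme.Modules.pullback π).map i₀ ≫ q)))
    {δE : B → ℤ} (hE : Cyc.IsSetup B δE)
    (hδ : Cyc.DeltaCompat φB δE δ) {k : ℤ} {α : AlgebraicCycle X ℤ} (hα : α ∈ Cyc.Zk X δ k)
    {γ : AlgebraicCycle B ℤ} (hγ : ⇑γ = Cyc.pullFun φB δE δ r ⇑α)
    (h0 : Cyc.RatEquivZero δE (k + r) γ) : Cyc.RatEquivZero δ k α := by
  classical
  haveI := hX.1
  haveI := hE.1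
  have hO : PicF.IsInvertible (Coh.structureModule X) := ParaPair.isInvertible_structure X
  obtain ⟨δP, hδP⟩ := CycP1.exists_deltaCompat π δ
  have hPs : Cyc.IsSetup P δP := isSetup_of_lft hX π hδP
  haveI := hPs.1
  have S := setting_univ hX hE' hB hPs hδP
  haveI := S.charts.flat
  haveI := hB.epi
  have hψc : Cyc.DeltaCompat ψ δE δP := C1.deltaCompat_of_comp ψ π φB hψ hδP hδ
  have hsπ : ∀ x, MaxFib π x → δP x = δ (π x) + (r : ℤ) := fun x hx => S.charts.shift S.inv S.dimP S.compat x hx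
  have hsψ : ∀ x, MaxFib ψ x → δE x = δP (ψ x) + ((0 : ℕ) : ℤ) :=
    shift_of_hasRelDim ψ (hasRelDim_openImm ψ) hψc
  let a : AlgebraicCycle P ℤ := toCycle _ (S.lf_pull α)
  have ha : a ∈ Cyc.Zk P δP (k + r) := fun x hx => by_contra fun h => by
    obtain ⟨h1, h2⟩ := pullFun_ne_zero (show Cyc.pullFun π δP δ r ⇑α x ≠ 0 from h)
    have : δ (π x) = k := by_contra fun e => h1 (hα _ e)
    omega
  have hγa : ∀ v, γ v = a (ψ v) := fun v => by
    have h := pullFun_comp ψ π hE.2.2 hPs.2.2 hsπ hsψ ⇑α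
    rw [show ((r : ℤ) + ((0 : ℕ) : ℤ)) = (r : ℤ) by simp, pullFun_openImm ψ hψc] at h
    have h' : Cyc.pullFun (ψ ≫ π) δE δ r ⇑α v = a (ψ v) := congrFun h v
    rw [hψ] at h'
    rw [hγ]
    exact h'
  -- excision
  let U : P.Opens := ψ.opensRange
  let i : B ⟶ (U : Scheme.{u}) := ψ.isoOpensRange.hom
  have hi : ∀ v, U.ι (i v) = ψ v := fun v => by
    rw [← Scheme.Hom.comp_apply]
    exact congrArg (fun f : B ⟶ P => f v) ψ.isoOpensRange_hom_ι
  let aU : AlgebraicCycle (U : Scheme.{u}) ℤ := toCycle (fun u => a (U.ι u)) (fun x => by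
    obtain ⟨V, hV, hfin⟩ := LF.of_cycle a (U.ι x)
    exact ⟨U.ι ⁻¹ᵁ V, hV, (hfin.preimage U.ι.isOpenEmbedding.injective.injOn).subset fun y hy => hy⟩)
  have hdU : Cyc.IsDimFun (U : Scheme.{u}) (fun u => δP (U.ι u)) := CycPush.isDimFun_openι hPs.2.2 U
  haveI : IsLocallyNoetherian (U : Scheme.{u}) := LocallyOfFiniteType.isLocallyNoetherian U.ι
  have hδi : δE = fun v => δP (U.ι (i v)) := by
    rw [residueDegree_openImm ψ hψc]
    exact funext fun v => by rw [hi]
  have hRU : RZ (fun u : (U : Scheme.{u}) => δP (U.ι u)) (k + r) (fun u => aU u) := by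
    refine rz_push i hdU (a := ⇑γ) ?_ (fun v => ?_) (fun x hx => absurd ?_ hx)
    · rw [← hδi]
      exact RZ.of_ratEquivZero hE.2.2 h0
    · show a (U.ι (i v)) = γ v
      rw [hγa, hi]
    · exact ⟨ψ.isoOpensRange.inv x, by
        show i (ψ.isoOpensRange.inv x) = x
        rw [← Scheme.Hom.comp_apply, Iso.inv_hom_id]
        rfl⟩
  obtain ⟨b, hbZ, hbU, hab⟩ := Groth.Agent.S1863.result P δP hPs U (k + r) a 0 ha (ChowOps.zk P δP _).zero_mem aU 0
    (fun _ => rfl) (fun _ => rfl) (by
      show Cyc.RatEquivZero (fun u : (U : Scheme.{u}) => δP (U.ι u)) (k + r) (aU - 0)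
      rw [sub_zero]
      exact RZ.to_ratEquivZero hdU hRU)
  -- pull back to a tower on which `ℱ` is filtered
  obtain ⟨Y, hY, h, d, δY, T, hF⟩ := exists_towerData hX (ι := Unit) (fun _ => r) (fun _ => ℱ) fun _ => hr
  haveI := T.tower.flat
  haveI := T.tower.lft
  obtain ⟨M, L, hM0, ⟨eM⟩, hs⟩ := hF ()
  let P' := pullback π h
  let f' : P' ⟶ P := pullback.fst π h
  let π' : P' ⟶ Y := pullback.snd π h
  have hsq : IsPullback f' π' π h := IsPullback.of_hasPullback π h
  haveI : IsProper π' := MorphismProperty.of_isPullback hsq inferInstance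
  haveI : Flat π' := MorphismProperty.of_isPullback hsq inferInstance
  haveI : Flat f' := MorphismProperty.of_isPullback hsq.flip inferInstance
  haveI : LocallyOfFiniteType f' := MorphismProperty.of_isPullback hsq.flip inferInstance
  obtain ⟨δ', hδ'⟩ := CycP1.exists_deltaCompat π' δY
  have hP' := isSetup_of_lft T.setupP π' hδ'
  haveI := hP'.1
  have S' : Setting π' ((Scheme.Modules.pullback f').obj O1) r δY δ' :=
    ⟨S.charts.baseChange S.inv hsq (Iso.refl _), T.setupP.2.2, hP'.2.2, hδ', C1.isInvertible_pullback f' S.inv⟩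
  have hsπ' : ∀ x, MaxFib π' x → δ' x = δY (π' x) + (r : ℤ) := fun x hx =>
    S'.charts.shift S'.inv S'.dimP S'.compat x hx
  have hsf : ∀ x, MaxFib f' x → δ' x = δP (f' x) + (d : ℤ) := fun x hx =>
    shift_of_hasRelDim f' (hasRelDim_of_isPullback hsq.flip T.tower.relDim)
      (deltaCompat_of_comp f' π (π' ≫ h) hsq.w hδP (deltaCompat_comp' π' h hδ' T.compat)) x hx
  let αY := pullCyc h T.setupP.2.2 T.shift α
  have hαY : αY ∈ Cyc.Zk Y δY (k + d) := fun x hx => by
    show Cyc.pullFun h δY δ d ⇑α x = 0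
    rw [pullFun_apply]
    split_ifs with hh
    · rw [hα _ (fun e => hx (by rw [hh, e])), zero_mul]
    · rfl
  let b' := pullCyc f' hP'.2.2 hsf b
  have hb' : b' ∈ Cyc.Zk P' δ' (k + d + r) := fun x hx => by
    show Cyc.pullFun f' δ' δP d ⇑b x = 0
    rw [pullFun_apply]
    split_ifs with hh
    · rw [hbZ _ (fun e => hx (by rw [hh, e]; ring)), zero_mul]
    · rfl
  have hR : RZ δ' (k + d + r) (fun y => b' y - Cyc.pullFun π' δ' δY r ⇑αY y) := by
    have hp := CycDiv.ratEquivZero_pullFun f' hP'.2.2 hPs.2.2 hsf _ (a - (0 + b)) hab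
      (pullCyc f' hP'.2.2 hsf (a - (0 + b))) rfl
    rw [zero_add, show k + (r : ℤ) + (d : ℤ) = k + d + r by ring, map_sub] at hp
    refine ((RZ.of_ratEquivZero hP'.2.2 hp).neg hP'.2.2).congr fun y => ?_
    have h1 := congrFun (pullFun_comp f' π hP'.2.2 hPs.2.2 hsπ hsf ⇑α) y
    have h2 := congrFun (pullFun_comp π' h hP'.2.2 T.setupP.2.2 T.shift hsπ' ⇑α) y
    rw [hsq.w, add_comm (r : ℤ) (d : ℤ), h2] at h1
    rw [Function.locallyFinsuppWithin.coe_sub]
    show b' y - _ = -(Cyc.pullFun f' δ' δP d ⇑a y - b' y)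
    rw [show Cyc.pullFun π' δ' δY r ⇑αY y = Cyc.pullFun f' δ' δP d ⇑a y from h1]
    ring
  -- the chain
  haveI : Epi ((Scheme.Modules.pullbackComp π' h).hom.app E ≫ quotAlong E q f' hsq.w) := by
    haveI : (Scheme.Modules.pullback f').IsLeftAdjoint :=
      (Scheme.Modules.pullbackPushforwardAdjunction f').isLeftAdjoint
    unfold quotAlong
    infer_instance
  let q' : (Scheme.Modules.pullback π').obj ((Scheme.Modules.pullback h).obj E) ⟶ (Scheme.Modules.pullback f').obj O1 :=
    (Scheme.Modules.pullbackComp π' h).hom.app E ≫ quotAlong E q f' hsq.w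
  haveI : Epi q' := ‹_›
  choose! hL aM bM habM hexM using hs
  let am : ∀ n, M n ⟶ M (n + 1) := fun n => if n < r then aM n else 0
  let C : ℕ ⥤ Y.Modules := Functor.ofSequence am
  let cM : ∀ n, M n ⟶ (Scheme.Modules.pullback h).obj ℱ := fun n =>
    if hn : n ≤ r then C.map (homOfLE hn) ≫ eM.hom else 0
  let ι₂ : (Scheme.Modules.pullback h).obj (Coh.structureModule X) ⟶ (Scheme.Modules.pullback h).obj E :=
    (Scheme.Modules.pullback h).map i₀
  let g₁ : (Scheme.Modules.pullback h).obj E ⟶ (Scheme.Modules.pullback h).obj ℱ := (Scheme.Modules.pullback h).map g₀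
  haveI : (Scheme.Modules.pullback h).Additive := inferInstance
  have hS₁ := K0Sub.shortExact_map_pullback h (ShortComplex.mk i₀ g₀ w₀) hS₀ (FinCov.isFinLocFree_of_rank hr)
  haveI : Epi g₁ := hS₁.epi_g
  have hcM : ∀ n, n < r → aM n ≫ cM (n + 1) = cM n := fun n hn => by
    simp only [cM, dif_pos (show n + 1 ≤ r by omega), dif_pos hn.le]
    rw [← Category.assoc]
    congr 1
    rw [show aM n = C.map (homOfLE (Nat.le_succ n)) by
      rw [Functor.ofSequence_map_homOfLE_succ]
      exact (if_pos hn).symm]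
    exact (C.map_comp _ _).symm
  let c : ∀ n, Limits.pullback g₁ (cM n) ⟶ (Scheme.Modules.pullback h).obj E := fun n => pullback.fst g₁ (cM n)
  have hlast : Epi (c r) := by
    have hcr : cM r = eM.hom := by
      simp only [cM, dif_pos le_rfl]
      exact (congrArg (· ≫ eM.hom) (C.map_id r)).trans (Category.id_comp _)
    haveI : IsIso (cM r) := by rw [hcr]; infer_instance
    show Epi (pullback.fst g₁ (cM r))
    infer_instance
  have hsupp : ∀ y, b' y ≠ 0 → y ∈ vanLocus q' (c 0) := by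
    intro y hy
    obtain ⟨h1, -⟩ := pullFun_ne_zero (show Cyc.pullFun f' δ' δP d ⇑b y ≠ 0 from hy)
    have hnot := hoff (f' y) (fun hmem => h1 (hbU _ hmem))
    obtain ⟨l, hl⟩ := KernelFork.IsLimit.lift' hS₁.fIsKernel (c 0) (by
      show pullback.fst g₁ (cM 0) ≫ g₁ = 0
      rw [pullback.condition, show cM 0 = 0 from hM0.eq_of_src _ _, comp_zero])
    refine vanLocus_mono q' ι₂ l hl (by_contra fun hn => hnot ?_)
    have hi1 := isIso_stalk_of_notMem_vanLocus (C1.isInvertible_pullback h hO) S'.inv q' ι₂ hn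
    let q₀ := (Scheme.Modules.pullback π).map i₀ ≫ q
    have e1 : (Scheme.Modules.pullback π').map ι₂ ≫ q' =
        (Scheme.Modules.pullbackComp π' h).hom.app _ ≫ quotAlong _ q₀ f' hsq.w := by
      rw [quotAlong_map]
      exact (Category.assoc _ _ _).symm.trans ((congrArg (· ≫ _)
        ((Scheme.Modules.pullbackComp π' h).hom.naturality i₀)).trans (Category.assoc _ _ _))
    rw [e1] at hi1
    have e2 : quotAlong _ q₀ f' hsq.w = (Scheme.Modules.pullbackCongr hsq.w).inv.app _ ≫
        (Scheme.Modules.pullbackComp f' π).inv.app _ ≫ (Scheme.Modules.pullback f').map q₀ := rfl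
    rw [e2, Functor.map_comp, Functor.map_comp, Functor.map_comp] at hi1
    haveI := hi1
    haveI h3 : IsIso ((OX.stalk y).map ((Scheme.Modules.pullback f').map q₀)) := by
      have h4 := IsIso.of_isIso_comp_left ((OX.stalk y).map ((Scheme.Modules.pullbackComp π' h).hom.app _))
        ((OX.stalk y).map ((Scheme.Modules.pullbackCongr hsq.w).inv.app _) ≫
          (OX.stalk y).map ((Scheme.Modules.pullbackComp f' π).inv.app _) ≫
            (OX.stalk y).map ((Scheme.Modules.pullback f').map q₀))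
      have h5 := @IsIso.of_isIso_comp_left _ _ _ _ _ ((OX.stalk y).map ((Scheme.Modules.pullbackCongr hsq.w).inv.app _))
        _ inferInstance h4
      exact @IsIso.of_isIso_comp_left _ _ _ _ _ _ _ inferInstance h5
    have hF : PicF.IsInvertible ((Scheme.Modules.pullback π).obj (Coh.structureModule X)) :=
      C1.isInvertible_pullback π hO
    let V : P'.Opens := ⟨{z | IsIso ((OX.stalk z).map ((Scheme.Modules.pullback f').map q₀))},
      isOpen_isIso_stalk (C1.isInvertible_pullback f' hF) (C1.isInvertible_pullback f' S.inv) _⟩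
    haveI : IsIso ((Scheme.Modules.pullback V.ι).map ((Scheme.Modules.pullback f').map q₀)) := by
      refine (OX.isIso_iff _).2 fun z => ?_
      haveI : IsIso ((OX.stalk (V.ι z)).map ((Scheme.Modules.pullback f').map q₀)) := z.2
      exact (NatIso.isIso_map_iff (OX.pullStalkIso V.ι z) _).2
        (inferInstanceAs (IsIso ((ModuleCat.extendScalars (V.ι.stalkMap z).hom).map
          ((OX.stalk (V.ι z)).map ((Scheme.Modules.pullback f').map q₀)))))
    haveI : IsIso ((Scheme.Modules.pullback (V.ι ≫ f')).map q₀) :=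
      (NatIso.isIso_map_iff (Scheme.Modules.pullbackComp V.ι f') q₀).1
        (inferInstanceAs (IsIso ((Scheme.Modules.pullback V.ι).map ((Scheme.Modules.pullback f').map q₀))))
    exact FibTriv28.isIso_stalk_of_isIso_pullback' (V.ι ≫ f') (FinCov.isFinLocFree_of_rank (rankOne_iff.2 hF))
      (FinCov.isFinLocFree_of_rank hB.invertible) q₀ (⟨y, h3⟩ : V)
  have hzero := S'.eq_zero_of_chain q' (fun n => Limits.pullback g₁ (cM n)) L c hlast (fun n hn => by
    haveI := (hexM n hn).mono_f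
    haveI := (hexM n hn).epi_g
    let a' : Limits.pullback g₁ (cM n) ⟶ Limits.pullback g₁ (cM (n + 1)) :=
      pullback.lift (pullback.fst g₁ (cM n)) (pullback.snd g₁ (cM n) ≫ aM n)
        (by rw [Category.assoc, hcM n hn, pullback.condition])
    have ha' : a' ≫ pullback.snd g₁ (cM (n + 1)) ≫ bM n = 0 := by
      rw [← Category.assoc, pullback.lift_snd, Category.assoc, habM n hn, comp_zero]
    haveI : Mono a' := ⟨fun f g hfg => by
      apply pullback.hom_ext
      · simpa [a'] using congrArg (· ≫ pullback.fst g₁ (cM (n + 1))) hfg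
      · rw [← cancel_mono (aM n)]
        simpa [a'] using congrArg (· ≫ pullback.snd g₁ (cM (n + 1))) hfg⟩
    haveI : Epi (pullback.snd g₁ (cM (n + 1)) ≫ bM n) := epi_comp _ _
    refine ⟨hL n hn, a', pullback.snd g₁ (cM (n + 1)) ≫ bM n, ha',
      { exact := ShortComplex.exact_of_f_is_kernel _ (KernelFork.IsLimit.ofι' _ ha' fun {W} g hg => ?_) },
      pullback.lift_fst _ _ _⟩
    obtain ⟨l, hl⟩ := KernelFork.IsLimit.lift' (hexM n hn).fIsKernel (g ≫ pullback.snd g₁ (cM (n + 1)))
      (by simpa using hg)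
    have hl' : l ≫ aM n = g ≫ pullback.snd g₁ (cM (n + 1)) := hl
    refine ⟨pullback.lift (g ≫ pullback.fst g₁ (cM (n + 1))) l (by
      rw [← hcM n hn, ← Category.assoc l, hl', Category.assoc, Category.assoc, pullback.condition]), ?_⟩
    apply pullback.hom_ext
    · simp [a']
    · simp [a', hl']) hαY hb' hsupp hR
  have hid : Cyc.DeltaCompat (𝟙 X) δ δ := Bivar.deltaCompat_id δ
  exact T.tower.inj X (𝟙 X) δ T.setupX hid Y h (𝟙 Y) (IsPullback.of_horiz_isIso ⟨by simp⟩) δY T.setupP T.compat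
    k α hα αY rfl hzero

end GrothLib.PBDeg
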