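import Groth.Agent.Lib.PBDeg17.SymSub
import Groth.Agent.Lib.PBDeg17.VBInj2
import Groth.Agent.Lib.FunMor20.BCProj
import Groth.Agent.Lib.FunMor20.Supp

/-!
# Flat pullback to an affine bundle is injective
-/

set_option autoImplicit false
set_option backward.isDefEq.respectTransparency false
set_option linter.style.haveILetI false

universe u

open CategoryTheory CategoryTheory.Limits AlgebraicGeometry Opposite
open GrothLib.C1

noncomputable section

namespace GrothLib.PBDeg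

variable {X : Scheme.{u}}

/-- Functoriality of the tautological forms. -/
theorem formAlong_specMap {M ℰ : X.Modules} {A1 : RelSpec.QCAlg X} {j1 : M ⟶ A1.toModule} {AE : RelSpec.QCAlg X}
    {jE : ℰ ⟶ AE.toModule} (ψ : A1 ⟶ AE) (a : M ⟶ ℰ)
    (hψ : j1 ≫ RelSpec.QCAlg.Hom.toModuleMap ψ = a ≫ jE) :
    formAlong (tautForm A1 j1) (RelSpec.QCAlg.specMap ψ) (RelSpec.QCAlg.specMap_π ψ) =
      (Scheme.Modules.pullback AE.π).map a ≫ tautForm AE jE := by
  refine (theta AE.π).injective ?_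
  have side : RLpsi8.diMap A1.π AE.π (RelSpec.QCAlg.specMap ψ) (RelSpec.QCAlg.specMap_π ψ) =
      A1.gammaHom ≫ ψ ≫ inv AE.gammaHom := by
    rw [← cancel_mono AE.gammaHom, Category.assoc, Category.assoc, IsIso.inv_hom_id, Category.comp_id]
    exact RLpsi8.ofHom_specMap ψ
  have hnat : theta AE.π ((Scheme.Modules.pullback AE.π).map a ≫ tautForm AE jE) = a ≫ theta AE.π (tautForm AE jE) := by
    simp only [theta, Equiv.trans_apply, Iso.homToEquiv_apply, Adjunction.homEquiv_naturality_left, Category.assoc]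
  rw [formAlong, theta_comp, theta_tautForm, hnat, theta_tautForm, Category.assoc, ← toModuleMap_comp, side,
    IsIso.inv_hom_id_assoc, toModuleMap_comp, ← Category.assoc, hψ, Category.assoc]

/-- The structure map of the spectrum of the unit algebra has an inverse. -/
theorem exists_inv_unit_π (X : Scheme.{u}) :
    ∃ z : X ⟶ (RelSpec.QCAlg.unit X).spec, z ≫ (RelSpec.QCAlg.unit X).π = 𝟙 X ∧ (RelSpec.QCAlg.unit X).π ≫ z = 𝟙 _ := by
  let π₀ := (RelSpec.QCAlg.unit X).π
  have hc : π₀.c ≫ (RelSpec.QCAlg.unit X).gammaMap = 𝟙 _ := (RelSpec.QCAlg.unit X).π_c_gammaMap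
  haveI := RLpsi8.isIso_gammaMap (RelSpec.QCAlg.unit X)
  haveI : IsIso π₀.c := by
    haveI : IsIso (π₀.c ≫ (RelSpec.QCAlg.unit X).gammaMap) := by rw [hc]; infer_instance
    exact IsIso.of_isIso_comp_right π₀.c (RelSpec.QCAlg.unit X).gammaMap
  obtain ⟨z, hz, -⟩ := GrothLib.AffAlg8.exists_hom π₀ (𝟙 X) (inv π₀.c ≫ (𝟙 X : X ⟶ X).c) (IsIso.hom_inv_id_assoc _ _)
  refine ⟨z, hz, RLpsi8.diMap_injective π₀ π₀ (by rw [Category.assoc, hz, Category.comp_id]) (Category.id_comp _)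
    (RelSpec.QCAlg.hom_ext ?_)⟩
  rw [← cancel_epi π₀.c]
  exact ((RLpsi8.diMap π₀ π₀ (π₀ ≫ z) (by rw [Category.assoc, hz, Category.comp_id])).comm).trans
    (RLpsi8.diMap π₀ π₀ (𝟙 _) (Category.id_comp _)).comm.symm

/-- A cycle pulling back to zero on an affine bundle is zero. -/
theorem ratEquivZero_of_affineBundle {δ : X → ℤ} (hX : Cyc.IsSetup X δ) {S : ShortComplex X.Modules}
    (hS : S.ShortExact) (e : S.X₁ ≅ Coh.structureModule X) {n : ℕ} (hE : FlatMod.IsFinLocFreeOfRank (n + 1) S.X₂)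
    (hF : FlatMod.IsFinLocFreeOfRank n S.X₃) {AE : RelSpec.QCAlg X} {jE : S.X₂ ⟶ AE.toModule}
    (hAE : RelSpec.IsSymAlg S.X₂ AE jE) {A1 : RelSpec.QCAlg X} {j1 : Coh.structureModule X ⟶ A1.toModule}
    (hA1 : RelSpec.IsSymAlg (Coh.structureModule X) A1 j1) (ψ : A1 ⟶ AE)
    (hψ : j1 ≫ RelSpec.QCAlg.Hom.toModuleMap ψ = e.inv ≫ S.f ≫ jE)
    (u : Coh.structureModule X ⟶ (RelSpec.QCAlg.unit X).toModule) [IsIso u] (ε : A1 ⟶ RelSpec.QCAlg.unit X)
    (hε : j1 ≫ RelSpec.QCAlg.Hom.toModuleMap ε = u)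
    {δB : ↥(pullback (RelSpec.QCAlg.specMap ψ) (RelSpec.QCAlg.specMap ε)) → ℤ}
    (hBs : Cyc.IsSetup (pullback (RelSpec.QCAlg.specMap ψ) (RelSpec.QCAlg.specMap ε)) δB)
    (hδB : Cyc.DeltaCompat (pullback.fst (RelSpec.QCAlg.specMap ψ) (RelSpec.QCAlg.specMap ε) ≫ AE.π) δB δ) {k : ℤ}
    {α : AlgebraicCycle X ℤ} (hα : α ∈ Cyc.Zk X δ k)
    {γ : AlgebraicCycle (pullback (RelSpec.QCAlg.specMap ψ) (RelSpec.QCAlg.specMap ε)) ℤ}
    (hγ : ⇑γ = Cyc.pullFun (pullback.fst (RelSpec.QCAlg.specMap ψ) (RelSpec.QCAlg.specMap ε) ≫ AE.π) δB δ n ⇑α)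
    (h0 : Cyc.RatEquivZero δB (k + n) γ) : Cyc.RatEquivZero δ k α := by
  haveI := hX.1
  let sψ := RelSpec.QCAlg.specMap ψ
  let sε := RelSpec.QCAlg.specMap ε
  let fst := pullback.fst sψ sε
  let snd := pullback.snd sψ sε
  let π₀ := (RelSpec.QCAlg.unit X).π
  obtain ⟨z, hz1, hz2⟩ := exists_inv_unit_π X
  haveI : IsIso π₀ := ⟨z, hz2, hz1⟩
  have hsψ : sψ ≫ A1.π = AE.π := RelSpec.QCAlg.specMap_π ψ
  have hsε : sε ≫ A1.π = π₀ := RelSpec.QCAlg.specMap_π ε
  have hfs : fst ≫ AE.π = snd ≫ π₀ := by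
    rw [← hsψ, ← hsε, ← Category.assoc, ← Category.assoc, pullback.condition]
  haveI : QuasiCompact sψ := by
    haveI : QuasiCompact (sψ ≫ A1.π) := by rw [hsψ]; infer_instance
    exact QuasiCompact.of_comp sψ A1.π
  haveI : QuasiSeparated sψ := by
    haveI : QuasiSeparated (sψ ≫ A1.π) := by rw [hsψ]; infer_instance
    exact QuasiSeparated.of_comp sψ A1.π
  haveI : QuasiCompact snd := MorphismProperty.pullback_snd _ _ inferInstance
  haveI : QuasiSeparated snd := MorphismProperty.pullback_snd _ _ inferInstance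
  haveI : QuasiCompact (fst ≫ AE.π) := by rw [hfs]; infer_instance
  haveI : QuasiSeparated (fst ≫ AE.π) := by rw [hfs]; infer_instance
  -- the normalisation
  let w₀ := formAlong (tautForm A1 j1) sε hsε
  haveI hw₀ : IsIso w₀ := by
    have side : RLpsi8.diMap A1.π π₀ sε hsε = A1.gammaHom ≫ ε ≫ inv (RelSpec.QCAlg.unit X).gammaHom := by
      rw [← cancel_mono (RelSpec.QCAlg.unit X).gammaHom, Category.assoc, Category.assoc, IsIso.inv_hom_id,
        Category.comp_id]
      exact RLpsi8.ofHom_specMap ε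
    have hθ : theta π₀ w₀ = u ≫ RelSpec.QCAlg.Hom.toModuleMap (inv (RelSpec.QCAlg.unit X).gammaHom) := by
      rw [show theta π₀ w₀ = _ from theta_comp A1.π π₀ sε hsε (tautForm A1 j1), theta_tautForm, Category.assoc,
        ← toModuleMap_comp, side, IsIso.inv_hom_id_assoc, toModuleMap_comp, ← Category.assoc, hε]
    haveI : IsIso (RelSpec.QCAlg.Hom.toModuleMap (inv (RelSpec.QCAlg.unit X).gammaHom)) :=
      ⟨RelSpec.QCAlg.Hom.toModuleMap (RelSpec.QCAlg.unit X).gammaHom, by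
        rw [← toModuleMap_comp, IsIso.inv_hom_id]; exact GrothLib.RelSpec.modHom_ext fun _ _ _ => rfl, by
        rw [← toModuleMap_comp, IsIso.hom_inv_id]; exact GrothLib.RelSpec.modHom_ext fun _ _ _ => rfl⟩
    haveI : IsIso (theta π₀ w₀) := by rw [hθ]; infer_instance
    haveI : IsIso ((Scheme.Modules.pullbackPushforwardAdjunction π₀).homEquiv _ _ w₀) := by
      have e' : (Scheme.Modules.pullbackPushforwardAdjunction π₀).homEquiv _ _ w₀ = theta π₀ w₀ ≫ (pushToDI π₀).inv := by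
        rw [show theta π₀ w₀ = _ ≫ (pushToDI π₀).hom from rfl, Category.assoc, Iso.hom_inv_id, Category.comp_id]
      rw [e']; infer_instance
    haveI := FunMor20.isIso_counit_open π₀
    rw [← ((Scheme.Modules.pullbackPushforwardAdjunction π₀).homEquiv _ _).symm_apply_apply w₀,
      Adjunction.homEquiv_counit]
    infer_instance
  let W : ∀ {T : Scheme.{u}} (g : T ⟶ X),
      (Scheme.Modules.pullback g).obj (Coh.structureModule X) ⟶ Coh.structureModule T := fun g =>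
    formAlong w₀ (g ≫ z) (by rw [Category.assoc, hz1, Category.comp_id])
  have hWiso : ∀ {T : Scheme.{u}} (g : T ⟶ X), IsIso (W g) := fun g => by
    simp only [W, formAlong, quotAlong]
    infer_instance
  have hcs : ∀ {T : Scheme.{u}} (g : T ⟶ X) (y : T ⟶ (RelSpec.QCAlg.unit X).spec), y ≫ π₀ = g → y = g ≫ z := by
    intro T g y hy
    rw [← hy, Category.assoc, hz2, Category.comp_id]
  let τ := formAlong (tautForm AE jE) fst (rfl : fst ≫ AE.π = fst ≫ AE.π)
  have hW : ∀ {T : Scheme.{u}} (g : T ⟶ X) [QuasiCompact g] [QuasiSeparated g] (x : T ⟶ pullback sψ sε)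
      (hx : x ≫ fst ≫ AE.π = g), formAlong (W (fst ≫ AE.π)) x hx = W g := by
    intro T g _ _ x hx
    exact (formAlong_comp w₀ _ _ x hx).trans (formAlong_congr w₀ (by rw [← hx]; simp only [Category.assoc]) _ _)
  have hnat : formAlong (tautForm A1 j1) sψ hsψ = (Scheme.Modules.pullback AE.π).map (e.inv ≫ S.f) ≫ tautForm AE jE :=
    formAlong_specMap ψ (e.inv ≫ S.f) (by rw [hψ, Category.assoc])
  have hτi : (Scheme.Modules.pullback (fst ≫ AE.π)).map (e.inv ≫ S.f) ≫ τ = W (fst ≫ AE.π) := by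
    rw [← formAlong_map, ← hnat, formAlong_comp,
      formAlong_congr (tautForm A1 j1) (pullback.condition : fst ≫ sψ = snd ≫ sε) _
        (by rw [Category.assoc, hsε, hfs]), ← formAlong_comp (tautForm A1 j1) sε hsε snd hfs.symm]
    exact formAlong_congr w₀ (hcs _ _ hfs.symm) _ _
  have hτ : ∀ (T : Scheme.{u}) (g : T ⟶ X) [QuasiCompact g] [QuasiSeparated g]
      (t : (Scheme.Modules.pullback g).obj S.X₂ ⟶ Coh.structureModule T),
      (Scheme.Modules.pullback g).map (e.inv ≫ S.f) ≫ t = W g →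
        ∃! x : T ⟶ pullback sψ sε, ∃ hx : x ≫ fst ≫ AE.π = g, formAlong τ x hx = t := by
    intro T g _ _ t ht
    obtain ⟨xE, ⟨hxE, hxEt⟩, huniq⟩ := tautForm_spec hAE T g t
    have hgz : (g ≫ z) ≫ π₀ = g := by rw [Category.assoc, hz1, Category.comp_id]
    have hcond : xE ≫ sψ = (g ≫ z) ≫ sε := by
      refine (tautForm_spec hA1 T g (W g)).unique ⟨by rw [Category.assoc, hsψ, hxE], ?_⟩
        ⟨by rw [Category.assoc, hsε, hgz], ?_⟩
      · show formAlong (tautForm A1 j1) (xE ≫ sψ) _ = W g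
        rw [← formAlong_comp (tautForm A1 j1) sψ hsψ xE hxE, hnat, formAlong_map,
          show formAlong (tautForm AE jE) xE hxE = t from hxEt, ht]
      · show formAlong (tautForm A1 j1) ((g ≫ z) ≫ sε) _ = W g
        rw [← formAlong_comp (tautForm A1 j1) sε hsε (g ≫ z) hgz]
    have hl : pullback.lift xE (g ≫ z) hcond ≫ fst ≫ AE.π = g := by
      rw [← Category.assoc, pullback.lift_fst, hxE]
    refine ⟨pullback.lift xE (g ≫ z) hcond, ⟨hl, ?_⟩, fun y ⟨hy, hyt⟩ => ?_⟩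
    · rw [formAlong_comp]
      exact (formAlong_congr _ (pullback.lift_fst _ _ _) _ hxE).trans hxEt
    · apply pullback.hom_ext
      · rw [pullback.lift_fst]
        refine huniq _ ⟨by rw [Category.assoc]; exact hy, ?_⟩
        rw [formAlong_comp] at hyt
        exact hyt
      · rw [pullback.lift_snd]
        refine hcs _ _ ?_
        rw [Category.assoc, ← hfs]
        exact hy
  obtain ⟨P, π, O1, q, hB, -, hπ⟩ := exists_isProjBundle hE
  haveI := hπ
  haveI : IsLocallyNoetherian P := LocallyOfFiniteType.isLocallyNoetherian π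
  obtain ⟨j, hj, hjπ, hoff⟩ := exists_openImm_of_points (e.inv ≫ S.f) (fst ≫ AE.π) τ W hWiso hW hτi hτ hB
  have hw : (e.inv ≫ S.f) ≫ S.g = 0 := by rw [Category.assoc, S.zero, comp_zero]
  have hS' : (ShortComplex.mk (e.inv ≫ S.f) S.g hw).ShortExact :=
    ShortComplex.shortExact_of_iso (ShortComplex.isoMk e (Iso.refl _) (Iso.refl _) (by simp) (by simp)) hS
  exact ratEquivZero_of_open_projBundle hX (e.inv ≫ S.f) S.g hw hS' hF hE hB j hjπ hoff hBs hδB hα hγ h0

end GrothLib.PBDeg
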