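import Groth.Agent.Lib.PBDeg17.Flags

/-!
# The splitting principle
-/

set_option autoImplicit false
set_option backward.isDefEq.respectTransparency false
set_option linter.style.haveILetI false

universe u

open CategoryTheory CategoryTheory.Limits AlgebraicGeometry TopologicalSpace Polynomial
open GrothLib.C1

noncomputable section

namespace GrothLib.PBDeg

variable {X P : Scheme.{u}} {δ : X → ℤ} {π : P ⟶ X} {d : ℕ} {δP : P → ℤ}
  [IsLocallyNoetherian X] [IsLocallyNoetherian P]

/-- The class of a cycle pulled back to a tower. -/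
abbrev TowerData.up (T : TowerData δ π d δP) (α : AlgebraicCycle X ℤ) : Cls T.setupP.2.2 :=
  T.pull (cls' T.setupX.2.2 α)

theorem TowerData.chern (T : TowerData δ π d δP) {r : ℕ} {E : X.Modules}
    (hE : FlatMod.IsFinLocFreeOfRank r E) {PE : Scheme.{u}} {p : PE ⟶ X} [IsProper p] {O : PE.Modules}
    {q : (Scheme.Modules.pullback p).obj E ⟶ O} (hB : KRR.IsProjBundle p E O q) {δE : PE → ℤ}
    (hEs : Cyc.IsSetup PE δE) (hδE : Cyc.DeltaCompat p δE δ)
    {x : ℕ → C1Ring T.setupP.2.2} (hx : HasRoots T.setupP.2.2 r ((Scheme.Modules.pullback π).obj E) x)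
    {k : ℤ} {α : AlgebraicCycle X ℤ} (hα : α ∈ Cyc.Zk X δ k)
    {γ : Fin (r + 1) → AlgebraicCycle X ℤ} (hγ : Cyc.IsChernCap p δ δE O r k α γ) (n : Fin (r + 1)) :
    T.up (γ n) = act T.setupP.2.2 ((cp r x).coeff n) (T.up α) := by
  obtain ⟨M, L, h0, ⟨e⟩, hs, hxr⟩ := hx
  rw [show cp r x = cp r (root T.setupP.2.2 L) from cp_congr fun i hi => (hxr i hi).symm]
  exact T.chern_roots hE hB hEs hδE M L h0 e hs hα hγ n

theorem TowerData.roots_invertible (T : TowerData δ π d δP) {L : X.Modules} (hL : PicF.IsInvertible L) :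
    HasRoots T.setupP.2.2 1 ((Scheme.Modules.pullback π).obj L)
      (fun _ => c1R T.setupP.2.2 (isInvertible_pullback π hL)) :=
  hasRoots_invertible _

theorem TowerData.up_c1Cap (T : TowerData δ π d δP) {L : X.Modules} (hL : PicF.IsInvertible L)
    {s : (ξ : X) → Cyc.secFibre L ξ} (hs : ∀ ξ, s ξ ≠ 0) (α : AlgebraicCycle X ℤ) {γ : AlgebraicCycle X ℤ}
    (hγ : ⇑γ = Cyc.c1CapFun δ L ⇑α s) :
    T.up γ = act T.setupP.2.2 (c1R T.setupP.2.2 (isInvertible_pullback π hL)) (T.up α) := by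
  show T.pull (cls' _ γ) = _
  rw [← c1E_cls T.setupX.2.2 hL hs α hγ, T.pull_c1 hL]
  rfl

theorem TowerData.roots_ext (T : TowerData δ π d δP) {r₁ r₂ : ℕ} {A B C : X.Modules} (a : A ⟶ B) (b : B ⟶ C)
    (hab : a ≫ b = 0) (hS : (ShortComplex.mk a b hab).ShortExact) (hC : FlatMod.IsFinLocFree C)
    {x y : ℕ → C1Ring T.setupP.2.2} (hx : HasRoots T.setupP.2.2 r₁ ((Scheme.Modules.pullback π).obj A) x)
    (hy : HasRoots T.setupP.2.2 r₂ ((Scheme.Modules.pullback π).obj C) y) :
    ∃ z, HasRoots T.setupP.2.2 (r₁ + r₂) ((Scheme.Modules.pullback π).obj B) z ∧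
      cp (r₁ + r₂) z = cp r₁ x * cp r₂ y := by
  haveI : (Scheme.Modules.pullback π).IsLeftAdjoint := (Scheme.Modules.pullbackPushforwardAdjunction π).isLeftAdjoint
  let S := ShortComplex.mk a b hab
  have hS' := K0Sub.shortExact_map_pullback π S hS hC
  let z : ℕ → C1Ring T.setupP.2.2 := fun i => if i < r₁ then x i else y (i - r₁)
  have h1 : ∀ i < r₁, z i = x i := fun i hi => if_pos hi
  have h2 : ∀ i, z (r₁ + i) = y i := fun i => by
    show (if r₁ + i < r₁ then x (r₁ + i) else y (r₁ + i - r₁)) = y i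
    rw [if_neg (by omega), Nat.add_sub_cancel_left]
  refine ⟨z, HasRoots.ext (S.map (Scheme.Modules.pullback π)).f (S.map (Scheme.Modules.pullback π)).g
    (S.map (Scheme.Modules.pullback π)).zero hS' (hx.congr h1) (hy.congr fun i _ => h2 i), ?_⟩
  rw [cp_add, cp_congr h1, cp_congr fun i _ => h2 i]

theorem TowerData.up_add (T : TowerData δ π d δP) (a b : AlgebraicCycle X ℤ) : T.up (a + b) = T.up a + T.up b := by
  show T.pull (cls' _ (a + b)) = _
  rw [map_add, map_add]

theorem TowerData.up_zero (T : TowerData δ π d δP) : T.up 0 = 0 := by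
  show T.pull (cls' _ 0) = _
  rw [map_zero, map_zero]

theorem TowerData.up_sum (T : TowerData δ π d δP) {ι : Type*} (s : Finset ι) (f : ι → AlgebraicCycle X ℤ) :
    T.up (∑ i ∈ s, f i) = ∑ i ∈ s, T.up (f i) := by
  show T.pull (cls' _ (∑ i ∈ s, f i)) = _
  rw [map_sum, map_sum]

theorem TowerData.up_zsmul (T : TowerData δ π d δP) (n : ℤ) (a : AlgebraicCycle X ℤ) :
    T.up (n • a) = act T.setupP.2.2 (n : C1Ring T.setupP.2.2) (T.up a) := by
  show T.pull (cls' _ (n • a)) = _
  rw [map_zsmul, map_zsmul, map_intCast, AddMonoid.End.intCast_apply]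

theorem TowerData.up_c1Pow (T : TowerData δ π d δP) {L : X.Modules} (hL : PicF.IsInvertible L)
    {t : ℕ → (ξ : X) → Cyc.secFibre L ξ} (ht : ∀ n ξ, t n ξ ≠ 0) (α : AlgebraicCycle X ℤ) :
    ∀ (j : ℕ) {γ : AlgebraicCycle X ℤ}, ⇑γ = Cyc.c1PowFun δ L t j ⇑α →
    T.up γ = act T.setupP.2.2 (c1R T.setupP.2.2 (isInvertible_pullback π hL) ^ j) (T.up α)
  | 0, γ, hγ => by
    rw [pow_zero, map_one, show γ = α from DFunLike.coe_injective hγ]
    rfl
  | j + 1, γ, hγ => by
    rw [T.up_c1Cap hL (ht j) (toCycle _ (lf_c1Pow T.setupX.2.2 hL ht (LF.of_cycle α) j)) hγ,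
      up_c1Pow T hL ht α j (γ := toCycle _ (lf_c1Pow T.setupX.2.2 hL ht (LF.of_cycle α) j)) rfl,
      ← act_mul, pow_succ']

/-- The roots of a tensor product. -/
theorem TowerData.roots_tensor (T : TowerData δ π d δP) {r s : ℕ} (hr : 0 < r) {E F : X.Modules}
    {x y : ℕ → C1Ring T.setupP.2.2} (hx : HasRoots T.setupP.2.2 r ((Scheme.Modules.pullback π).obj E) x)
    (hy : HasRoots T.setupP.2.2 s ((Scheme.Modules.pullback π).obj F) y) :
    HasRoots T.setupP.2.2 (r * s) ((Scheme.Modules.pullback π).obj (CohB1.tensorMod E F))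
      (fun n => x (n % r) + y (n / r)) :=
  (hx.tensor hr hy).of_iso (OX.pullTensorIso π E F).symm

/-- The roots of a twist. -/
theorem TowerData.roots_twist (T : TowerData δ π d δP) {r : ℕ} {E L : X.Modules} (hL : PicF.IsInvertible L)
    {x : ℕ → C1Ring T.setupP.2.2} (hx : HasRoots T.setupP.2.2 r ((Scheme.Modules.pullback π).obj E) x) :
    HasRoots T.setupP.2.2 r ((Scheme.Modules.pullback π).obj (CohB1.tensorMod E L))
      (fun j => x j + c1R T.setupP.2.2 (isInvertible_pullback π hL)) :=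
  (hx.twist (isInvertible_pullback π hL)).of_iso (OX.pullTensorIso π E L).symm

section Poly

variable {B : Type*} [CommRing B]

theorem coeff_cp_zero (r : ℕ) (x : ℕ → B) : (cp r x).coeff 0 = 1 := by
  induction r with
  | zero => simp [cp]
  | succ r ih => rw [cp_succ, mul_add, mul_one, coeff_add, ← mul_assoc, coeff_mul_X_zero, ih, add_zero]

theorem coeff_cp_succ (r : ℕ) (x : ℕ → B) (n : ℕ) :
    (cp (r + 1) x).coeff (n + 1) = (cp r x).coeff (n + 1) + x r * (cp r x).coeff n := by
  rw [cp_succ, mul_add, mul_one, coeff_add, ← mul_assoc, coeff_mul_X, mul_comm (cp r x), coeff_C_mul]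

theorem cast_choose_two (r : ℕ) : ((r + 1).choose 2 : B) = (r.choose 2 : B) + r := by
  rw [Nat.choose_succ_succ, Nat.choose_one_right, Nat.cast_add, add_comm]

theorem coeff_shift_one_two (r : ℕ) (x : ℕ → B) (l : B) :
    (cp r fun j => x j + l).coeff 1 = (cp r x).coeff 1 + (r : B) * l ∧
      (cp r fun j => x j + l).coeff 2 =
        (cp r x).coeff 2 + ((r : B) - 1) * l * (cp r x).coeff 1 + (r.choose 2 : B) * l ^ 2 := by
  induction r with
  | zero => constructor <;> simp [cp, Polynomial.coeff_one]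
  | succ r ih =>
    obtain ⟨h1, h2⟩ := ih
    refine ⟨?_, ?_⟩
    · rw [show (1 : ℕ) = 0 + 1 from rfl] at h1 ⊢
      rw [coeff_cp_succ, coeff_cp_succ, h1, coeff_cp_zero, coeff_cp_zero]
      push_cast
      ring
    · rw [show (2 : ℕ) = 1 + 1 from rfl] at h2 ⊢
      rw [coeff_cp_succ, coeff_cp_succ, h2, h1, show (1 : ℕ) + 1 = 2 from rfl,
        show (cp (r + 1) x).coeff 1 = (cp r x).coeff 1 + x r by
          rw [show (1 : ℕ) = 0 + 1 from rfl, coeff_cp_succ, coeff_cp_zero, mul_one], cast_choose_two]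
      push_cast
      ring

theorem coeff_tensor_one_two {r : ℕ} (hr : 0 < r) (x y : ℕ → B) : ∀ s : ℕ,
    (cp (r * s) fun n => x (n % r) + y (n / r)).coeff 1 = (r : B) * (cp s y).coeff 1 + (s : B) * (cp r x).coeff 1 ∧
      (cp (r * s) fun n => x (n % r) + y (n / r)).coeff 2 =
        (r : B) * (cp s y).coeff 2 + (s : B) * (cp r x).coeff 2 + (r.choose 2 : B) * (cp s y).coeff 1 ^ 2 +
          (((r * s : ℕ) : B) - 1) * ((cp r x).coeff 1 * (cp s y).coeff 1) +
          (s.choose 2 : B) * (cp r x).coeff 1 ^ 2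
  | 0 => by constructor <;> simp [cp, Polynomial.coeff_one]
  | s + 1 => by
    obtain ⟨h1, h2⟩ := coeff_tensor_one_two hr x y s
    obtain ⟨g1, g2⟩ := coeff_shift_one_two r x (y s)
    have hc : cp (r * (s + 1)) (fun n => x (n % r) + y (n / r)) =
        cp (r * s) (fun n => x (n % r) + y (n / r)) * cp r (fun i => x i + y s) := by
      rw [Nat.mul_succ, cp_add]
      congr 1
      refine cp_congr fun i hi => ?_
      show x ((r * s + i) % r) + y ((r * s + i) / r) = _
      rw [Nat.mul_add_mod, Nat.mod_eq_of_lt hi, Nat.mul_add_div hr, Nat.div_eq_of_lt hi, Nat.add_zero]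
    have e1 : (cp (s + 1) y).coeff 1 = (cp s y).coeff 1 + y s := by
      rw [show (1 : ℕ) = 0 + 1 from rfl, coeff_cp_succ, coeff_cp_zero, mul_one]
    have e2 : (cp (s + 1) y).coeff 2 = (cp s y).coeff 2 + y s * (cp s y).coeff 1 := coeff_cp_succ s y 1
    have hsq : (r : B) * r = 2 * (r.choose 2 : B) + r := by
      clear hr h1 h2 g1 g2 hc
      induction r with
      | zero => simp
      | succ r ih => rw [cast_choose_two]; push_cast; linear_combination ih
    rw [hc, e1, e2]
    constructor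
    · rw [Polynomial.coeff_mul, Finset.Nat.sum_antidiagonal_eq_sum_range_succ_mk, Finset.sum_range_succ,
        Finset.sum_range_succ, Finset.sum_range_zero, Nat.sub_zero, Nat.sub_self, coeff_cp_zero, coeff_cp_zero, h1, g1]
      push_cast
      ring
    · rw [Polynomial.coeff_mul, Finset.Nat.sum_antidiagonal_eq_sum_range_succ_mk, Finset.sum_range_succ,
        Finset.sum_range_succ, Finset.sum_range_succ, Finset.sum_range_zero, Nat.sub_zero, Nat.sub_self,
        show (2 : ℕ) - 1 = 1 from rfl, coeff_cp_zero, coeff_cp_zero, h1, h2, g1, g2, cast_choose_two]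
      push_cast
      linear_combination (cp s y).coeff 1 * y s * hsq

end Poly

end GrothLib.PBDeg
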