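import Groth.Agent.Lib.PBDeg17.Split
import Groth.Agent.Lib.C1.ZeroScheme
import Groth.Agent.Lib.C1.OpClass
import Groth.Agent.Lib.C1.BasePush
import Groth.Prelude.Def_Bivar2

/-!
# Bivariant classes: squares, zero schemes, and homomorphisms of Chow groups
-/

set_option autoImplicit false
set_option backward.isDefEq.respectTransparency false
set_option linter.style.haveILetI false

universe u

open CategoryTheory CategoryTheory.Limits AlgebraicGeometry
open GrothLib GrothLib.C1 GrothLib.CycFlat GrothLib.Ref1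

noncomputable section

namespace GrothLib.PBDeg

/-- The zero scheme pulls back along any cartesian square. -/
theorem isZeroSchemeOf_of_isPullback {X Y D E : Scheme.{u}} {f : Y ⟶ X} {L : X.Modules} {i : D ⟶ X}
    [IsClosedImmersion i] {q : E ⟶ D} {i' : E ⟶ Y} (hsq : IsPullback q i' i f)
    {s : L.presheaf.obj (Opposite.op ⊤)} (hL : PicF.IsInvertible L) (hD : Cyc.IsZeroSchemeOf i L s) :
    Cyc.IsZeroSchemeOf i' ((Scheme.Modules.pullback f).obj L) (pullSec f L s) := by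
  refine ⟨?_, fun z => ?_⟩
  · have hr : Set.range i' = f ⁻¹' Set.range i := by
      rw [← hsq.isoPullback_hom_snd, ← Scheme.Pullback.range_snd i f]
      ext y
      constructor
      · rintro ⟨z, rfl⟩
        exact ⟨hsq.isoPullback.hom z, (Scheme.Hom.comp_apply _ _ _).symm⟩
      · rintro ⟨z, rfl⟩
        refine ⟨hsq.isoPullback.inv z, ?_⟩
        rw [← Scheme.Hom.comp_apply, Iso.inv_hom_id_assoc]
    rw [hr]
    ext y
    rw [Set.mem_preimage, C1.mem_range_iff i hD]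
    exact (gcls_pullSec_eq_zero f hL y s).symm
  set y := i' z
  set d := q z
  have hx : f y = i d := by
    show (i' ≫ f) z = (q ≫ i) z
    rw [hsq.w]
  have htr : ∀ (x : X) (e : x = i d), ∃ (t : L.presheaf.stalk x) (f0 : X.presheaf.stalk x),
      Submodule.span (X.presheaf.stalk x) {t} = ⊤ ∧ (L.presheaf.germ ⊤ x trivial) s = f0 • t ∧
        (RingHom.ker (i.stalkMap d).hom).map (X.presheaf.stalkCongr (.of_eq e.symm)).hom.hom = Ideal.span {f0} := by
    rintro x rfl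
    obtain ⟨t, f0, ht, hst, hker⟩ := hD.2 d
    refine ⟨t, f0, ht, hst, ?_⟩
    rw [TopCat.Presheaf.stalkCongr_hom, TopCat.Presheaf.stalkSpecializes_refl, CommRingCat.hom_id, Ideal.map_id, hker]
  obtain ⟨t, f0, ht, hst, hker⟩ := htr (f y) hx
  refine ⟨pullGerm f L y t, (f.stalkMap y).hom f0, (gen_pullGerm f hL (gen_of_span hL ht)).span, ?_, ?_⟩
  · rw [← pullGerm_smul, ← hst, pullGerm_global]
    skip
  · obtain ⟨U, hU, hdU, -⟩ := exists_isAffineOpen_mem_and_subset (x := i d) (U := ⊤) trivial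
    rw [GrothLib.RelReg.ker_stalkMap_of_isPullback hsq ⟨U, hU⟩ inferInstance d hdU z hx,
      CommRingCat.hom_comp, ← Ideal.map_map, hker, Ideal.map_span, Set.image_singleton]

/-- A homomorphism of Chow groups from an additive map of cycles. -/
theorem exists_chHom {Y Y' : Scheme.{u}} [IsLocallyNoetherian Y'] {δ : Y → ℤ} {δ' : Y' → ℤ}
    (hδ' : Cyc.IsDimFun Y' δ') {k l : ℤ} (F : AlgebraicCycle Y ℤ → AlgebraicCycle Y' ℤ)
    (hmem : ∀ a, a ∈ Cyc.Zk Y δ k → F a ∈ Cyc.Zk Y' δ' l)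
    (hadd : ∀ a b, a ∈ Cyc.Zk Y δ k → b ∈ Cyc.Zk Y δ k → F (a + b) = F a + F b)
    (hrz : ∀ a, a ∈ Cyc.Zk Y δ k → Cyc.RatEquivZero δ k a → RZ δ' l ⇑(F a)) :
    ∃ φ : ChowOps.CH Y δ k →+ ChowOps.CH Y' δ' l, ∀ (a : AlgebraicCycle Y ℤ) (ha : a ∈ Cyc.Zk Y δ k),
      φ (ChowOps.cl a ha) = ChowOps.cl (F a) (hmem a ha) := by
  let ψ : ↥(ChowOps.zk Y δ k) →+ ChowOps.CH Y' δ' l :=
    AddMonoidHom.mk' (fun a => ChowOps.cl (F a.1) (hmem a.1 a.2)) fun a b =>
      (Bivar.cl_congr (hadd a.1 b.1 a.2 b.2) _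
        ((ChowOps.zk Y' δ' l).add_mem (hmem a.1 a.2) (hmem b.1 b.2))).trans (Bivar.cl_add _ _ _ _)
  have hker : ChowOps.ratTriv Y δ k ≤ ψ.ker := (AddSubgroup.closure_le _).2 fun a ha =>
    (cl_eq_of_ratEquiv (hmem a.1 a.2) (ChowOps.zk Y' δ' l).zero_mem
      (ratEquiv_of_RZ hδ' (hrz a.1 a.2 ha) fun x => by simp)).trans Bivar.cl_zero
  exact ⟨QuotientAddGroup.lift _ ψ hker, fun a ha => rfl⟩

variable {X Y : Scheme.{u}} {f : X ⟶ Y} {δX : X → ℤ} {δY : Y → ℤ}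

theorem sq_setupY (hY : Cyc.IsSetup Y δY) (s : Bivar.Sq f δX δY) : Cyc.IsSetup s.Y' s.δY' :=
  haveI := s.lft
  isSetup_of_lft hY s.g s.compatY

theorem sq_lftX (s : Bivar.Sq f δX δY) : LocallyOfFiniteType s.g' :=
  haveI := s.lft
  MorphismProperty.of_isPullback s.isPullback inferInstance

theorem sq_setupX (hX : Cyc.IsSetup X δX) (s : Bivar.Sq f δX δY) : Cyc.IsSetup s.X' s.δX' :=
  haveI := sq_lftX s
  isSetup_of_lft hX s.g' s.compatX

theorem sq_compat (hδ : Cyc.DeltaCompat f δX δY) (s : Bivar.Sq f δX δY) : Cyc.DeltaCompat s.f' s.δX' s.δY' :=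
  C1.deltaCompat_of_comp s.f' s.g (s.g' ≫ f) s.isPullback.w s.compatY
    (Bivar.deltaCompat_comp s.g' f s.δX' δX δY s.compatX hδ)

theorem sq_isPullback {s t : Bivar.Sq f δX δY} {h : t.Y' ⟶ s.Y'} {h' : t.X' ⟶ s.X'} (w₁ : h ≫ s.g = t.g)
    (w₂ : h' ≫ s.f' = t.f' ≫ h) (w₃ : h' ≫ s.g' = t.g') : IsPullback h' t.f' s.f' h := by
  have ht : IsPullback t.f' (h' ≫ s.g') (h ≫ s.g) f := by rw [w₁, w₃]; exact t.isPullback
  exact (IsPullback.of_bot ht w₂.symm s.isPullback).flip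

theorem sq_compat_hom {s t : Bivar.Sq f δX δY} {h : t.Y' ⟶ s.Y'} (w₁ : h ≫ s.g = t.g) :
    Cyc.DeltaCompat h t.δY' s.δY' :=
  C1.deltaCompat_of_comp h s.g t.g w₁ s.compatY t.compatY

theorem sq_compat_hom' {s t : Bivar.Sq f δX δY} {h' : t.X' ⟶ s.X'} (w₃ : h' ≫ s.g' = t.g') :
    Cyc.DeltaCompat h' t.δX' s.δX' :=
  C1.deltaCompat_of_comp h' s.g' t.g' w₃ s.compatX t.compatX

theorem sq_lft_hom {s t : Bivar.Sq f δX δY} {h : t.Y' ⟶ s.Y'} (w₁ : h ≫ s.g = t.g) : LocallyOfFiniteType h := by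
  haveI : LocallyOfFiniteType (h ≫ s.g) := w₁ ▸ t.lft
  exact locallyOfFiniteType_of_comp h s.g

theorem sq_lft_hom' {s t : Bivar.Sq f δX δY} {h' : t.X' ⟶ s.X'} (w₃ : h' ≫ s.g' = t.g') :
    LocallyOfFiniteType h' := by
  haveI : LocallyOfFiniteType (h' ≫ s.g') := w₃ ▸ sq_lftX t
  exact locallyOfFiniteType_of_comp h' s.g'

theorem delta_closed {D S : Scheme.{u}} {i : D ⟶ S} [IsClosedImmersion i] {δD : D → ℤ} {δS : S → ℤ}
    (h : Cyc.DeltaCompat i δD δS) : δD = fun d => δS (i d) :=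
  funext fun d => CycPush.delta_eq i h
    (RingHom.Finite.of_surjective _ (CycPush.residueFieldMap_bijective i d).2)

end GrothLib.PBDeg
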