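import Groth.Agent.Lib.PBDeg17.BivBase
import Groth.Agent.Lib.PBDeg17.ChowCls

/-!
# The flat pullback class
-/

set_option autoImplicit false
set_option backward.isDefEq.respectTransparency false
set_option linter.style.haveILetI false

universe u

open CategoryTheory CategoryTheory.Limits AlgebraicGeometry
open GrothLib GrothLib.C1 GrothLib.CycFlat GrothLib.Ref1

noncomputable section

namespace GrothLib.PBDeg

variable {X Y : Scheme.{u}} {f : X ⟶ Y} {δX : X → ℤ} {δY : Y → ℤ}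

theorem exists_isFlatPullClass (hX : Cyc.IsSetup X δX) (hY : Cyc.IsSetup Y δY) [Flat f] [LocallyOfFiniteType f]
    (r : ℕ) (hr : Cyc.HasRelDim f r) (hδ : Cyc.DeltaCompat f δX δY) :
    ∃ c : Bivar.Cl (-(r : ℤ)) f δX δY, Bivar.IsFlatPullClass f r c := by
  have hflat : ∀ s : Bivar.Sq f δX δY, Flat s.f' := fun s =>
    MorphismProperty.of_isPullback s.isPullback.flip inferInstance
  have hlft : ∀ s : Bivar.Sq f δX δY, LocallyOfFiniteType s.f' := fun s =>
    MorphismProperty.of_isPullback s.isPullback.flip inferInstance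
  have hshift : ∀ (s : Bivar.Sq f δX δY) (x : s.X'), MaxFib s.f' x → s.δX' x = s.δY' (s.f' x) + (r : ℤ) := fun s => by
    haveI := hlft s
    haveI := hflat s
    haveI := (sq_setupY hY s).1
    exact shift_of_hasRelDim s.f' (hasRelDim_of_isPullback s.isPullback.flip hr) (sq_compat hδ s)
  have key : ∀ (s : Bivar.Sq f δX δY) (k : ℤ),
      ∃ φ : ChowOps.CH s.Y' s.δY' k →+ ChowOps.CH s.X' s.δX' (k - -(r : ℤ)),
        ∀ (α : AlgebraicCycle s.Y' ℤ) (hα : α ∈ Cyc.Zk s.Y' s.δY' k) (β : AlgebraicCycle s.X' ℤ)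
          (_ : ⇑β = Cyc.pullFun s.f' s.δX' s.δY' (r : ℤ) ⇑α) (hβ : β ∈ Cyc.Zk s.X' s.δX' (k - -(r : ℤ))),
          φ (ChowOps.cl α hα) = ChowOps.cl β hβ := fun s k => by
    haveI := (sq_setupX hX s).1
    haveI := (sq_setupY hY s).1
    haveI := hflat s
    haveI := hlft s
    let F : AlgebraicCycle s.Y' ℤ → AlgebraicCycle s.X' ℤ := fun a =>
      pullCyc s.f' (sq_setupX hX s).2.2 (hshift s) a
    obtain ⟨φ, hφ⟩ := exists_chHom (sq_setupX hX s).2.2 (δ := s.δY') (k := k) (l := k - -(r : ℤ)) F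
      (fun a ha => by rw [sub_neg_eq_add]; exact Bivar.pullFun_mem_Zk _ _ _ _ _ ha _ rfl)
      (fun a b _ _ => map_add _ a b)
      (fun a _ ha => by
        rw [sub_neg_eq_add]
        exact RZ.of_ratEquivZero (sq_setupX hX s).2.2 (CycDiv.ratEquivZero_pullFun s.f' (sq_setupX hX s).2.2
          (sq_setupY hY s).2.2 (hshift s) _ a ha _ rfl))
    exact ⟨φ, fun α hα β hβ hβm => (hφ α hα).trans (Bivar.cl_congr (DFunLike.coe_injective hβ.symm) _ _)⟩
  choose φ hφ using key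
  have hmem : ∀ (s : Bivar.Sq f δX δY) (k : ℤ) (α : AlgebraicCycle s.Y' ℤ), α ∈ Cyc.Zk s.Y' s.δY' k →
      ∀ β : AlgebraicCycle s.X' ℤ, ⇑β = Cyc.pullFun s.f' s.δX' s.δY' (r : ℤ) ⇑α →
        β ∈ Cyc.Zk s.X' s.δX' (k - -(r : ℤ)) := fun s k α hα β hβ => by
    rw [sub_neg_eq_add]
    exact Bivar.pullFun_mem_Zk _ _ _ _ _ hα _ hβ
  refine ⟨{ op := φ, push := ?_, pull := ?_, gysin := ?_ }, inferInstance, inferInstance, hr, hδ,
    fun s k α hα β hβ hβm => hφ s k α hα β hβ hβm⟩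
  · intro s t h _ h' _ w₁ w₂ w₃ k α hα
    haveI := (sq_setupX hX s).1
    haveI := (sq_setupY hY s).1
    haveI := (sq_setupX hX t).1
    haveI := (sq_setupY hY t).1
    haveI := hflat t
    haveI := hflat s
    haveI := hlft t
    haveI := hlft s
    let β := pullCyc t.f' (sq_setupX hX t).2.2 (hshift t) α
    refine ⟨β, hmem t k α hα β rfl, hφ t k α hα β rfl _, hφ s k _ _ _ ?_ _⟩
    exact (BasePush.pullFun_map (sq_isPullback w₁ w₂ w₃) (sq_setupX hX s).2.2 (sq_compat_hom w₁)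
      (sq_compat_hom' w₃) (hshift s) α β rfl).symm
  · intro s t h _ h' _ n hn hn' w₁ w₂ w₃ k α hα
    haveI := (sq_setupX hX s).1
    haveI := (sq_setupY hY s).1
    haveI := (sq_setupX hX t).1
    haveI := (sq_setupY hY t).1
    haveI := hflat t
    haveI := hflat s
    haveI := hlft t
    haveI := hlft s
    haveI := sq_lft_hom w₁
    haveI := sq_lft_hom' w₃
    have hs : ∀ x, MaxFib h x → t.δY' x = s.δY' (h x) + (n : ℤ) := shift_of_hasRelDim h hn (sq_compat_hom w₁)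
    have hs' : ∀ x, MaxFib h' x → t.δX' x = s.δX' (h' x) + (n : ℤ) := shift_of_hasRelDim h' hn' (sq_compat_hom' w₃)
    let β := pullCyc s.f' (sq_setupX hX s).2.2 (hshift s) α
    refine ⟨β, hmem s k α hα β rfl, hφ s k α hα β rfl _, fun α₁ hα₁c hα₁ => ?_⟩
    let β₁ := pullCyc h' (sq_setupX hX t).2.2 hs' β
    have e : ⇑β₁ = Cyc.pullFun t.f' t.δX' t.δY' (r : ℤ) ⇑α₁ := by
      show Cyc.pullFun h' t.δX' s.δX' n (Cyc.pullFun s.f' s.δX' s.δY' r ⇑α) = _
      rw [hα₁c, ← pullFun_comp h' s.f' (sq_setupX hX t).2.2 (sq_setupX hX s).2.2 (hshift s) hs',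
        ← pullFun_comp t.f' h (sq_setupX hX t).2.2 (sq_setupY hY t).2.2 hs (hshift t),
        pullFun_congr w₂, add_comm (r : ℤ) (n : ℤ)]
    exact ⟨β₁, hmem t _ α₁ hα₁ β₁ e, rfl, hφ t _ α₁ hα₁ β₁ e _⟩
  · intro s t i _ j _ w₁ w₂ w₃ L hL σ hσ τ hτ k α hα
    haveI := (sq_setupX hX s).1
    haveI := (sq_setupY hY s).1
    haveI := (sq_setupX hX t).1
    haveI := (sq_setupY hY t).1
    haveI := hflat t
    haveI := hflat s
    haveI := hlft t
    haveI := hlft s
    have hN := C1.isInvertible_pullback s.f' hL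
    have hsq := sq_isPullback w₁ w₂ w₃
    have hδY := delta_closed (sq_compat_hom w₁)
    have hδX := delta_closed (sq_compat_hom' w₃)
    let β := pullCyc s.f' (sq_setupX hX s).2.2 (hshift s) α
    refine ⟨β, hmem s k α hα β rfl, hφ s k α hα β rfl _, fun w hw γ hγc hγ w' hw' => ?_⟩
    have hg := gysinChoice_ne_zero (s := σ) hw
    have hg' := gysinChoice_ne_zero (s := τ) hw'
    let ζ : AlgebraicCycle t.X' ℤ :=
      toCycle _ (lf_comp j (lf_c1Cap (sq_setupX hX s).2.2 hN (LF.of_cycle β) hg'))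
    have hζ : ζ ∈ Cyc.Zk t.X' t.δX' (k - 1 - -(r : ℤ)) := fun d hd => by
      by_contra h
      refine hd ?_
      rw [hδX]
      exact c1Cap_mem (fun ξ hξ => by rw [zk_supp (hmem s k α hα β rfl) ξ hξ]; ring) _ h
    refine ⟨ζ, hζ, fun e => rfl, ?_⟩
    let η := pullCyc t.f' (sq_setupX hX t).2.2 (hshift t) γ
    refine (hφ t _ γ hγ η rfl (hmem t _ γ hγ η rfl)).trans (cl_eq_of_ratEquiv _ hζ ?_)
    have hz' := isZeroSchemeOf_of_isPullback hsq.flip hL hσ
    let v := pullChoice s.f' hL w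
    have hv : ∀ ξ, v ξ ≠ 0 := fun ξ => pullFib_ne_zero s.f' hL (hw _)
    have hk : ∀ ξ, β ξ ≠ 0 → s.δX' ξ = (k - 1 - -(r : ℤ)) + 1 := fun ξ hξ => by
      rw [zk_supp (hmem s k α hα β rfl) ξ hξ]; ring
    have hch := rz_gysin_change j (sq_setupX hX s).2.2 hN hz' hτ (LF.of_cycle β) hk hv hw'
    rw [← hδX] at hch
    refine ratEquiv_of_RZ (sq_setupX hX t).2.2 hch fun d => ?_
    show η d - ζ d = _
    congr 1
    have hmap : ⇑(AlgebraicCycle.map i t.δY' s.δY' γ) = Cyc.c1CapFun s.δY' L ⇑α (Cyc.gysinChoice L σ w) :=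
      funext fun x => by
        by_cases hx : x ∈ Set.range i
        · obtain ⟨e, rfl⟩ := hx
          rw [hδY, map_on, hγc]
        · rw [map_zero_off i inferInstance _ hx]
          exact by_contra fun h => hx (gysin_supp i (sq_setupY hY s).2.2 hL hσ w (Ne.symm h))
    have hb := BasePush.pullFun_map hsq (sq_setupX hX s).2.2 (sq_compat_hom w₁)
      (sq_compat_hom' w₃) (hshift s) γ η rfl
    rw [hmap] at hb
    have hc := c1Cap_pullFun s.f' hL (sq_setupX hX s).2.2 (sq_setupY hY s).2.2 (hshift s) (LF.of_cycle α) hg (j d)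
    rw [congrFun hb (j d), hδX, map_on] at hc
    rw [hc, show pullChoice s.f' hL (Cyc.gysinChoice L σ w) = Cyc.gysinChoice _ (pullSec s.f' L σ) v from
      funext fun y => gysinChoice_pullback s.f' hL w y]
    rfl

end GrothLib.PBDeg
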