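import Groth.Agent.Lib.PBDeg17.Caps

/-!
# Chern class caps and flat pullback, for bundles given by charts
-/

set_option autoImplicit false

universe u

open CategoryTheory AlgebraicGeometry

namespace GrothLib.PBDeg

variable {X Y P P' : Scheme.{u}} [IsLocallyNoetherian X] [IsLocallyNoetherian Y] [IsLocallyNoetherian P]
  [IsLocallyNoetherian P']

theorem pullFun_chernCap {f : X ⟶ Y} [Flat f] {π : P ⟶ Y} {π' : P' ⟶ X} [IsProper π'] {f' : P' ⟶ P} [Flat f']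
    {O1 : P.Modules} {m : ℕ} {δX : X → ℤ} {δY : Y → ℤ} {δP : P → ℤ} {δP' : P' → ℤ}
    (S : Setting π O1 m δY δP) (S' : Setting π' ((Scheme.Modules.pullback f').obj O1) m δX δP')
    (hsq : IsPullback f' π' π f) {c : ℕ}
    (hsf : ∀ x, GrothLib.CycFlat.MaxFib f x → δX x = δY (f x) + (c : ℤ))
    (hs : ∀ x, GrothLib.CycFlat.MaxFib f' x → δP' x = δP (f' x) + (c : ℤ))
    {k : ℤ} {α : AlgebraicCycle Y ℤ} {αX : AlgebraicCycle X ℤ} (hαX : ⇑αX = Cyc.pullFun f δX δY c ⇑α)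
    {γ : Fin (m + 1 + 1) → AlgebraicCycle Y ℤ} (hγ : Cyc.IsChernCap π δY δP O1 (m + 1) k α γ)
    {γ' : Fin (m + 1 + 1) → AlgebraicCycle X ℤ}
    (hγ' : Cyc.IsChernCap π' δX δP' ((Scheme.Modules.pullback f').obj O1) (m + 1) (k + c) αX γ')
    {β : Fin (m + 1 + 1) → AlgebraicCycle X ℤ} (hβ : ∀ j, ⇑(β j) = Cyc.pullFun f δX δY c ⇑(γ j))
    (j : Fin (m + 1 + 1)) : Cyc.RatEquiv δX (k + c - ((j : ℕ) : ℤ)) (β j) (γ' j) := by
  haveI := S.charts.flat
  haveI := S'.charts.flat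
  have hsp' : ∀ x, GrothLib.CycFlat.MaxFib π' x → δP' x = δX (π' x) + (m : ℤ) :=
    fun x hx => S'.charts.shift S'.inv S'.dimP S'.compat x hx
  have hsp : ∀ x, GrothLib.CycFlat.MaxFib π x → δP x = δY (π x) + (m : ℤ) :=
    fun x hx => S.charts.shift S.inv S.dimP S.compat x hx
  obtain ⟨w, hw⟩ := GrothLib.C1.exists_sec S.inv
  refine S'.rel_unique (fun j => β j - γ' j) (fun j x hx => ?_) ?_
    (t := fun _ => GrothLib.C1.pullChoice f' S.inv w) (fun _ ξ => GrothLib.C1.pullFib_ne_zero f' S.inv (hw _)) ?_ j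
  · show (β j - γ' j) x = 0
    rw [Function.locallyFinsuppWithin.coe_sub, Pi.sub_apply, hγ'.2.1 j x hx, sub_zero, hβ, GrothLib.CycFlat.pullFun_apply]
    split_ifs with h
    · rw [hγ.2.1 j _ (fun h' => hx (by rw [h, h']; ring)), zero_mul]
    · rfl
  · show Cyc.RatEquivZero δX (k + c) (β 0 - γ' 0)
    have e : β 0 = γ' 0 := by
      refine DFunLike.coe_injective ?_
      rw [hβ, hγ'.1, hαX, hγ.1]
    rw [e, sub_self]
    exact GrothLib.C1.RZ.to_ratEquivZero S'.dimX (GrothLib.C1.RZ.zero S'.dimX _)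
  have ht' : ∀ (n : ℕ) ξ, GrothLib.C1.pullChoice f' S.inv w ξ ≠ 0 := fun _ ξ =>
    GrothLib.C1.pullFib_ne_zero f' S.inv (hw _)
  have h1 := S.rel_rz hγ (t := fun _ => w) fun _ => hw
  have h2 := GrothLib.CycDiv.ratEquivZero_pullFun f' S'.dimP S.dimP hs _
    (GrothLib.C1.toCycle _ (GrothLib.PBDeg.lf_sum _ fun i =>
      (GrothLib.PBDeg.lf_c1Pow S.dimP S.inv (t := fun _ => w) (fun _ => hw) (S.lf_pull (γ (Fin.rev i))) i).mono
        fun y hy => right_ne_zero_of_mul hy))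
    (GrothLib.C1.RZ.to_ratEquivZero S.dimP h1)
    (GrothLib.C1.toCycle _ (GrothLib.C1.lf_pullFun f' S'.dimP hs (GrothLib.C1.LF.of_cycle
      (GrothLib.C1.toCycle _ (GrothLib.PBDeg.lf_sum _ fun i =>
      (GrothLib.PBDeg.lf_c1Pow S.dimP S.inv (t := fun _ => w) (fun _ => hw) (S.lf_pull (γ (Fin.rev i))) i).mono
        fun y hy => right_ne_zero_of_mul hy))))) rfl
  have h3 := GrothLib.C1.RZ.of_ratEquivZero S'.dimP h2
  rw [show k - 1 + (c : ℤ) = k + c - 1 by ring] at h3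
  refine ((h3.congr ?_).sub S'.dimP (S'.rel_rz hγ' (t := fun _ => GrothLib.C1.pullChoice f' S.inv w) ht')).congr
    fun y => S'.relFun_sub ht' β γ' y
  intro y
  have key : ∀ i : Fin (m + 1 + 1), Cyc.c1PowFun δP' ((Scheme.Modules.pullback f').obj O1)
      (fun _ => GrothLib.C1.pullChoice f' S.inv w) i (Cyc.pullFun π' δP' δX m ⇑(β (Fin.rev i))) =
      Cyc.pullFun f' δP' δP c (Cyc.c1PowFun δP O1 (fun _ => w) i (Cyc.pullFun π δP δY m ⇑(γ (Fin.rev i)))) := fun i => by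
    rw [GrothLib.PBDeg.pullFun_c1Pow f' S.inv S.dimP S'.dimP hs (fun _ => hw) (S.lf_pull (γ (Fin.rev i))) i, hβ,
      ← GrothLib.CycFlat.pullFun_comp π' f S'.dimP S'.dimX hsf hsp' ⇑(γ (Fin.rev i)),
      ← GrothLib.CycFlat.pullFun_comp f' π S'.dimP S.dimP hsp hs ⇑(γ (Fin.rev i)),
      GrothLib.CycFlat.pullFun_congr hsq.w, add_comm (c : ℤ) (m : ℤ)]
  show GrothLib.PBDeg.relFun π' ((Scheme.Modules.pullback f').obj O1) δX δP' m _ β y =
    Cyc.pullFun f' δP' δP c (fun z => GrothLib.PBDeg.relFun π O1 δY δP m (fun _ => w) γ z) y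
  unfold GrothLib.PBDeg.relFun
  simp only [key, GrothLib.CycFlat.pullFun_apply]
  split_ifs
  · rw [Finset.sum_mul]
    exact Finset.sum_congr rfl fun i _ => by ring
  · simp

end GrothLib.PBDeg
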