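import Groth.Agent.Lib.C1.OpClass
import Groth.Agent.Lib.C1.Pullback
import Mathlib

/-!
# First Chern classes pulled back from the base move the image down
-/

set_option autoImplicit false
set_option backward.isDefEq.respectTransparency false
universe u

open CategoryTheory AlgebraicGeometry TopologicalSpace IsLocalRing

namespace GrothLib.PBDeg

open GrothLib.C1 GrothLib.Ref1

variable {X Y : Scheme.{u}}

theorem stalkSpecializes_surjective {a b : X} (e : a = b) (h : a ⤳ b) :
    Function.Surjective (X.presheaf.stalkSpecializes h).hom := by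
  subst e
  rw [TopCat.Presheaf.stalkSpecializes_refl]
  exact fun y => ⟨y, rfl⟩

theorem isUnit_of_stalkSpecializes {a b : X} (e : a = b) (h : a ⤳ b) {r : X.presheaf.stalk b}
    (hr : IsUnit ((X.presheaf.stalkSpecializes h).hom r)) : IsUnit r := by
  subst e
  rw [TopCat.Presheaf.stalkSpecializes_refl] at hr
  exact hr

/-- A section pulled back from `X` has no divisor over its own image point. -/
theorem image_ne_of_c1Cap_pullChoice [IsLocallyNoetherian Y] {δ : Y → ℤ} (hδ : Cyc.IsDimFun Y δ) (g : Y ⟶ X)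
    {L : X.Modules} (hL : PicF.IsInvertible L) {t : (z : X) → Cyc.secFibre L z} (ht : ∀ z, t z ≠ 0) {a : Y → ℤ}
    {x : Y} (hx : Cyc.c1CapFun δ ((Scheme.Modules.pullback g).obj L) a (pullChoice g hL t) x ≠ 0) :
    ∃ ξ, a ξ ≠ 0 ∧ g ξ ⤳ g x ∧ g ξ ≠ g x := by
  obtain ⟨ξ, h1, h2, h3, h4⟩ := c1Cap_ne_zero hx
  refine ⟨ξ, h1, h2.map g.continuous, fun e => h4 ?_⟩
  obtain ⟨e₀, he₀⟩ := exists_gen hL (g x)
  rw [secDivFun_eq hδ (isInvertible_pullback g hL) h2 h3 (gen_pullGerm g hL he₀), pullGerm_sp, pullChoice,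
    coord_pullFib g hL (gen_sp hL (h2.map g.continuous) he₀)]
  refine UnitAt.ordAt_eq_zero hδ (fun h => ?_) h2 h3
  set c := coord (sp L (h2.map g.continuous) e₀) (t (g ξ))
  have hc : c ≠ 0 := coord_ne_zero (gen_sp hL _ he₀) (ht _)
  obtain ⟨b, hb⟩ := X.residue_surjective (g ξ) c
  obtain ⟨r, hr⟩ := stalkSpecializes_surjective e (h.map g.continuous) b
  have hbu : IsUnit b := by
    by_contra hn
    exact hc (hb ▸ (IsLocalRing.residue_eq_zero_iff _).2 hn)
  refine ⟨(g.stalkMap x).hom r, (isUnit_of_stalkSpecializes e (h.map g.continuous) (by rw [hr]; exact hbu)).map _, ?_⟩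
  rw [← hb, ← residue_stalkMap, ← hr]
  exact congrArg (Y.residue ξ).hom (Scheme.Hom.stalkSpecializes_stalkMap_apply g ξ x h r)

/-- `Below j z`: there are `j` proper generalisations in a row above `z`. -/
def Below : ℕ → X → Prop
  | 0, _ => True
  | j + 1, z => ∃ w, Below j w ∧ w ⤳ z ∧ w ≠ z

theorem Below.le_dim {j : ℕ} {z : X} (h : Below j z) : (j : WithBot ℕ∞) ≤ topologicalKrullDim X := by
  let cl : X → IrreducibleCloseds X := fun y => ⟨closure {y}, isIrreducible_singleton.closure, isClosed_closure⟩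
  suffices H : ∀ (j : ℕ) (z : X), Below j z → ∃ l : LTSeries (IrreducibleCloseds X), l.length = j ∧ l.head = cl z by
    obtain ⟨l, hl, -⟩ := H j z h
    rw [← hl]
    exact Order.LTSeries.length_le_krullDim l
  intro j
  induction j with
  | zero => exact fun z _ => ⟨RelSeries.singleton _ (cl z), rfl, rfl⟩
  | succ j ih =>
    rintro z ⟨w, hw, hwz, hne⟩
    obtain ⟨l, hl, hh⟩ := ih w hw
    have hlt : cl z < cl w := by
      refine lt_of_le_of_ne ?_ ?_
      · show closure {z} ⊆ closure {w}
        exact closure_minimal (Set.singleton_subset_iff.2 (specializes_iff_mem_closure.1 hwz)) isClosed_closure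
      · intro e
        have e' : closure ({z} : Set X) = closure {w} := congrArg (fun c : IrreducibleCloseds X => (c : Set X)) e
        exact hne ((inseparable_iff_closure_eq.2 e').eq.symm)
    refine ⟨l.cons (cl z) (hh ▸ hlt), ?_, RelSeries.head_cons _ _ _⟩
    rw [RelSeries.cons_length, hl]

end GrothLib.PBDeg
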