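import Groth.Prelude.Def_C1
import Groth.Agent.Lib.C1.Fibre
import Mathlib

/-!
# Affine charts: values of ring elements at the points of an affine open immersion
-/

set_option autoImplicit false
set_option backward.isDefEq.respectTransparency false
set_option linter.style.haveILetI false

universe u

open CategoryTheory AlgebraicGeometry TopologicalSpace Opposite IsLocalRing

noncomputable section

namespace GrothLib.PBDeg

variable {A : Type u} [CommRing A] {P : Scheme.{u}} (c : Spec (CommRingCat.of A) ⟶ P) [IsOpenImmersion c]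

/-- The section on the range of a chart defined by a ring element. -/
def sec : A →+* Γ(P, c.opensRange) :=
  ((Scheme.ΓSpecIso (CommRingCat.of A)).inv ≫ (c.appIso ⊤).inv ≫
    P.presheaf.map (eqToHom (Scheme.Hom.image_top_eq_opensRange (f := c)).symm).op).hom

theorem app_sec (a : A) :
    ((c.appLE c.opensRange ⊤ (fun x _ => ⟨x, rfl⟩)).hom) (sec c a) =
      (Scheme.ΓSpecIso (CommRingCat.of A)).inv a := by
  show ((Scheme.ΓSpecIso (CommRingCat.of A)).inv ≫ (c.appIso ⊤).inv ≫
    P.presheaf.map _ ≫ c.appLE c.opensRange ⊤ _).hom a = _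
  rw [Scheme.Hom.map_appLE, Scheme.Hom.appIso_inv_appLE]
  simp

/-- The value of a ring element in the local ring at a point of the chart. -/
def val (q : PrimeSpectrum A) : A →+* P.presheaf.stalk (c q) :=
  (P.presheaf.germ c.opensRange (c q) ⟨q, rfl⟩).hom.comp (sec c)

/-- The canonical map to the local rings of a spectrum. -/
def stA (q : PrimeSpectrum A) : A →+* (Spec (CommRingCat.of A)).presheaf.stalk q :=
  ((Scheme.ΓSpecIso (CommRingCat.of A)).inv ≫ (Spec (CommRingCat.of A)).presheaf.germ ⊤ q trivial).hom

theorem stalkMap_val (q : PrimeSpectrum A) (a : A) : (c.stalkMap q).hom (val c q a) = stA q a := by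
  refine (Scheme.Hom.germ_stalkMap_apply c c.opensRange q ⟨q, rfl⟩ (sec c a)).trans ?_
  show _ = (Spec (CommRingCat.of A)).presheaf.germ ⊤ q trivial ((Scheme.ΓSpecIso (CommRingCat.of A)).inv a)
  rw [← app_sec c a, Scheme.Hom.appLE, CommRingCat.comp_apply, TopCat.Presheaf.germ_res_apply]

theorem isLocalization_stA (q : PrimeSpectrum A) :
    @IsLocalization.AtPrime A _ ((Spec (CommRingCat.of A)).presheaf.stalk q) _ (stA q).toAlgebra q.asIdeal q.2 := by
  exact StructureSheaf.IsLocalization.to_stalk A q

theorem isUnit_val_iff {q : PrimeSpectrum A} {a : A} : IsUnit (val c q a) ↔ a ∉ q.asIdeal := by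
  letI := (stA (A := A) q).toAlgebra
  haveI : IsLocalization.AtPrime ((Spec (CommRingCat.of A)).presheaf.stalk q) q.asIdeal := isLocalization_stA q
  rw [← isUnit_map_iff (c.stalkMap q).hom, stalkMap_val]
  exact IsLocalization.AtPrime.isUnit_to_map_iff _ q.asIdeal a

theorem maximalIdeal_eq (q : PrimeSpectrum A) :
    maximalIdeal (P.presheaf.stalk (c q)) = q.asIdeal.map (val c q) := by
  letI := (stA (A := A) q).toAlgebra
  haveI : IsLocalization.AtPrime ((Spec (CommRingCat.of A)).presheaf.stalk q) q.asIdeal := isLocalization_stA q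
  have hb : Function.Bijective (c.stalkMap q).hom := ConcreteCategory.bijective_of_isIso (c.stalkMap q)
  have hmap : (q.asIdeal.map (val c q)).map (c.stalkMap q).hom = maximalIdeal _ := by
    rw [Ideal.map_map, show (c.stalkMap q).hom.comp (val c q) = stA q from RingHom.ext (stalkMap_val c q)]
    exact IsLocalization.AtPrime.map_eq_maximalIdeal q.asIdeal _
  rw [← Ideal.comap_map_of_bijective (c.stalkMap q).hom hb (I := q.asIdeal.map (val c q)), hmap]
  exact (IsLocalRing.maximalIdeal_comap _).symm

theorem spR_val {q q' : PrimeSpectrum A} (h : c q' ⤳ c q) (a : A) :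
    Ref1.spR h (val c q a) = val c q' a := by
  exact TopCat.Presheaf.germ_stalkSpecializes_apply P.presheaf (show c q ∈ c.opensRange from ⟨q, rfl⟩) h (sec c a)

theorem specializes_iff {q q' : PrimeSpectrum A} : c q' ⤳ c q ↔ q'.asIdeal ≤ q.asIdeal := by
  rw [c.isOpenEmbedding.isInducing.specializes_iff, ← PrimeSpectrum.le_iff_specializes]
  rfl

end GrothLib.PBDeg
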