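import Groth.Agent.Lib.C1.Ops
import Groth.Agent.Lib.C1.ProperPush

/-!
# Divisors of functions supported in a closed set
-/

set_option autoImplicit false
universe u

open CategoryTheory AlgebraicGeometry

namespace GrothLib.PBDeg

open GrothLib GrothLib.C1 GrothLib.CycDiv GrothLib.Ref1

variable {X : Scheme.{u}} {δ : X → ℤ} {L : X.Modules}

/-- `a` is the divisor of a locally finite family of functions on points of `W` of dimension `k + 1`. -/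
def RZS (δ : X → ℤ) (k : ℤ) (W : Set X) (a : X → ℤ) : Prop :=
  ∃ f : (z : X) → X.residueField z, (∀ z, f z ≠ 0) ∧ (∀ x : X, ∃ U : X.Opens, x ∈ U ∧ {z | z ∈ U ∧ f z ≠ 1}.Finite) ∧
    (∀ z, f z ≠ 1 → δ z = k + 1 ∧ z ∈ W) ∧ ∀ x, a x = ∑ᶠ z, Cyc.divFun δ z (f z) x

theorem RZS.toRZ {k : ℤ} {W : Set X} {a : X → ℤ} (ha : RZS δ k W a) : RZ δ k a := by
  obtain ⟨f, h1, h2, h3, h4⟩ := ha
  exact ⟨f, h1, h2, fun z hz => (h3 z hz).1, h4⟩

theorem RZS.congr {k : ℤ} {W : Set X} {a b : X → ℤ} (ha : RZS δ k W a) (h : ∀ x, b x = a x) : RZS δ k W b := by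
  obtain ⟨f, h1, h2, h3, h4⟩ := ha
  exact ⟨f, h1, h2, h3, fun x => (h x).trans (h4 x)⟩

variable [IsLocallyNoetherian X]

theorem RZS.zero (hδ : Cyc.IsDimFun X δ) (k : ℤ) (W : Set X) : RZS δ k W (0 : X → ℤ) :=
  ⟨fun _ => 1, fun _ => one_ne_zero, fun x => ⟨⊤, trivial, Set.finite_empty.subset fun z hz => hz.2 rfl⟩,
    fun _ h => absurd rfl h, fun x => by
      rw [Pi.zero_apply, finsum_eq_zero_of_forall_eq_zero fun z => divFun_one hδ z x]⟩

theorem RZS.add (hδ : Cyc.IsDimFun X δ) {k : ℤ} {W : Set X} {a b : X → ℤ} (ha : RZS δ k W a) (hb : RZS δ k W b) :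
    RZS δ k W (a + b) := by
  obtain ⟨f, h1, h2, h3, h4⟩ := ha
  obtain ⟨g, g1, g2, g3, g4⟩ := hb
  refine ⟨fun z => f z * g z, fun z => mul_ne_zero (h1 z) (g1 z), fun x => ?_, fun z hz => ?_, fun x => ?_⟩
  · obtain ⟨U, hx, hU⟩ := h2 x
    obtain ⟨V, hx', hV⟩ := g2 x
    refine ⟨U ⊓ V, ⟨hx, hx'⟩, (hU.union hV).subset fun z hz => ?_⟩
    by_cases hf : f z = 1
    · exact Or.inr ⟨hz.1.2, fun h => hz.2 (by show f z * g z = 1; rw [hf, h, one_mul])⟩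
    · exact Or.inl ⟨hz.1.1, hf⟩
  · by_cases hf : f z = 1
    · exact g3 z fun h => hz (by show f z * g z = 1; rw [hf, h, one_mul])
    · exact h3 z hf
  · rw [Pi.add_apply, h4, g4, ← finsum_add_distrib (finite_div_support hδ h2 x) (finite_div_support hδ g2 x)]
    exact finsum_congr fun z => (divFun_mul hδ (h1 z) (g1 z) x).symm

/-- Changing the choice of sections. -/
theorem RZS.change (hδ : Cyc.IsDimFun X δ) (hL : PicF.IsInvertible L) {α : X → ℤ} (hα : LF α) {k : ℤ} {W : Set X}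
    (hk : ∀ ξ, α ξ ≠ 0 → δ ξ = k + 1 ∧ ξ ∈ W) {s s' : (ξ : X) → Cyc.secFibre L ξ} (hs : ∀ ξ, s ξ ≠ 0)
    (hs' : ∀ ξ, s' ξ ≠ 0) : RZS δ k W (Cyc.c1CapFun δ L α s - Cyc.c1CapFun δ L α s') := by
  refine ⟨fun z => ratio hL (s z) (s' z) ^ α z, fun z => zpow_ne_zero _ (ratio_ne_zero hL (hs z) (hs' z)), fun x => ?_,
    fun z hz => hk z fun h0 => hz (by show ratio hL (s z) (s' z) ^ α z = 1; rw [h0, zpow_zero]), fun x => ?_⟩
  · obtain ⟨U, hx, hfin⟩ := hα x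
    exact ⟨U, hx, hfin.subset fun z hz => ⟨hz.1, fun h0 => hz.2 (by
      show ratio hL (s z) (s' z) ^ α z = 1; rw [h0, zpow_zero])⟩⟩
  · rw [Pi.sub_apply, Cyc.c1CapFun, Cyc.c1CapFun,
      ← finsum_sub_distrib (finite_cap_support hα s x) (finite_cap_support hα s' x)]
    exact finsum_congr fun z => by
      rw [divFun_zpow hδ (ratio_ne_zero hL (hs z) (hs' z)), ← secDivFun_sub hL hδ (hs z) (hs' z) x]; ring

/-- Capping a divisor with a first Chern class. -/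
theorem RZS.c1Cap (hδ : Cyc.IsDimFun X δ) (hL : PicF.IsInvertible L) {k : ℤ} {W : Set X}
    (hW : ∀ x y : X, x ⤳ y → x ∈ W → y ∈ W) {a : X → ℤ} (ha : RZS δ (k + 1) W a)
    {v : (ζ : X) → Cyc.secFibre L ζ} (hv : ∀ ζ, v ζ ≠ 0) : RZS δ k W (Cyc.c1CapFun δ L a v) := by
  classical
  obtain ⟨f, f1, f2, f3', f4⟩ := ha
  have f3 : ∀ z, f z ≠ 1 → δ z = k + 1 + 1 := fun z hz => (f3' z hz).1
  choose H h1 h2 h3 h5 h4 using fun ξ => rz_c1Cap_div (δ := δ) hδ hL (ParaPair.isInvertible_structure X) (f1 ξ) hv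
  have hfam : ∀ x : X, ∃ U : X.Opens, x ∈ U ∧ {i | ∃ y ∈ U, Cyc.divFun δ i (f i) y ≠ 0}.Finite := fun x => by
    obtain ⟨U, hx, hfin⟩ := f2 x
    refine ⟨U, hx, hfin.subset ?_⟩
    rintro i ⟨y, hy, hne⟩
    exact ⟨(divFun_ne_zero hne).1.mem_open U.2 hy, fun h => hne (by rw [h, divFun_one hδ])⟩
  have ha : a = fun y => ∑ᶠ ξ, Cyc.divFun δ ξ (f ξ) y := funext f4
  subst ha
  let G : (ξ z : X) → X.residueField z := fun ξ z => if f ξ = 1 then 1 else H ξ z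
  have hG : ∀ ξ x, Cyc.c1CapFun δ L (Cyc.divFun δ ξ (f ξ)) v x = ∑ᶠ z, Cyc.divFun δ z (G ξ z) x := by
    intro ξ x
    by_cases hξ : f ξ = 1
    · simp only [G, if_pos hξ, divFun_one hδ, finsum_zero]
      exact finsum_eq_zero_of_forall_eq_zero fun z => by rw [hξ, divFun_one hδ, zero_mul]
    · simp only [G, if_neg hξ]
      exact h4 ξ x
  have e1 : ∀ ξ z, G ξ z ≠ 0 := fun ξ z => by
    by_cases hξ : f ξ = 1
    · simp [G, hξ]
    · simp only [G, if_neg hξ]; exact h1 ξ z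
  have e2 : ∀ ξ z, G ξ z ≠ 1 → δ z = k + 1 := fun ξ z hz => by
    by_cases hξ : f ξ = 1
    · simp [G, hξ] at hz
    · simp only [G, if_neg hξ] at hz
      have := (h3 ξ z hz).2
      have := f3 ξ hξ
      omega
  have e3 : ∀ x : X, ∃ U : X.Opens, x ∈ U ∧ {p : X × X | p.2 ∈ U ∧ G p.1 p.2 ≠ 1}.Finite := fun x => by
    obtain ⟨U, hx, hfin⟩ := f2 x
    choose V hxV hV using fun ξ => h2 ξ x
    refine ⟨U ⊓ hfin.toFinset.inf V, ⟨hx, ?_⟩,
      (hfin.biUnion fun ξ _ => ((hV ξ).image fun z => (ξ, z))).subset fun p hp => ?_⟩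
    · induction hfin.toFinset using Finset.induction_on with
      | empty => trivial
      | insert i t _ ih => rw [Finset.inf_insert]; exact ⟨hxV i, ih⟩
    · obtain ⟨hpU, hp1⟩ := hp
      have hne : f p.1 ≠ 1 := fun h => hp1 (if_pos h)
      rw [show G p.1 p.2 = H p.1 p.2 from if_neg hne] at hp1
      have hξ : p.1 ∈ {z | z ∈ U ∧ f z ≠ 1} := ⟨(h3 _ _ hp1).1.mem_open U.2 hpU.1, hne⟩
      exact Set.mem_biUnion hξ ⟨p.2, ⟨(Finset.inf_le (f := V) ((Set.Finite.mem_toFinset _).2 hξ)) hpU.2, hp1⟩, rfl⟩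
  obtain ⟨g1, g2, g3, g4⟩ := finsum_family hδ (fun ξ => Cyc.c1CapFun δ L (Cyc.divFun δ ξ (f ξ)) v) G e1 e2 e3 hG
  refine ⟨_, g1, g2, fun z hz => ⟨g3 z hz, ?_⟩, fun x =>
      (c1Cap_finsum _ (fun ξ => lf_divFun hδ (f1 ξ)) hfam v x).trans (g4 x)⟩
  obtain ⟨ξ, hξ⟩ : ∃ ξ, G ξ z ≠ 1 := by
    by_contra! h
    exact hz (finprod_eq_one_of_forall_eq_one h)
  have hfξ : f ξ ≠ 1 := fun h => hξ (if_pos h)
  rw [show G ξ z = H ξ z from if_neg hfξ] at hξ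
  exact hW _ _ (h3 ξ z hξ).1 (f3' ξ hfξ).2

/-- A divisor supported over points of dimension at most `k` pushes forward to zero. -/
theorem RZS.map_eq_zero {Y : Scheme.{u}} [IsLocallyNoetherian Y] (p : X ⟶ Y) [IsProper p] {δY : Y → ℤ}
    (hδX : Cyc.IsDimFun X δ) (hδY : Cyc.IsDimFun Y δY) (hδ : Cyc.DeltaCompat p δ δY) {k : ℤ} {W : Set X}
    (hWk : ∀ x ∈ W, δY (p x) ≤ k) {α : AlgebraicCycle X ℤ} (h : RZS δ k W ⇑α) (y : Y) :
    AlgebraicCycle.map p δ δY α y = 0 := by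
  obtain ⟨f, h1, h2, h3, h4⟩ := h
  have hloc : ∀ x : X, ∃ U : Set X, IsOpen U ∧ x ∈ U ∧
      {i : {z : X // f z ≠ 1} | (closure {i.1} ∩ U).Nonempty}.Finite := fun x => by
    obtain ⟨U, hx, hfin⟩ := h2 x
    refine ⟨U, U.2, hx, (hfin.preimage Subtype.val_injective.injOn).subset fun i hi => ⟨?_, i.2⟩⟩
    obtain ⟨y, hy, hyU⟩ := hi
    exact (specializes_iff_mem_closure.2 hy).mem_open U.2 hyU
  have he : α = CycPush.famCycle hδX (fun i : {z : X // f z ≠ 1} => f i.1) (fun i => h1 i.1) hloc := by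
    ext x
    show α x = ∑ᶠ i : {z : X // f z ≠ 1}, Cyc.divFun δ i.1 (f i.1) x
    rw [h4, ← finsum_mem_univ]
    rw [finsum_mem_inter_support_eq' _ Set.univ {z | f z ≠ 1} fun z hz => ⟨fun _ e => hz (by
      show Cyc.divFun δ z (f z) x = 0
      rw [show f z = 1 from e, divFun_one hδX]), fun _ => Set.mem_univ _⟩]
    exact (finsum_subtype_eq_finsum_cond _).symm
  rw [he, CycPush.map_famCycle_apply p hδX hδY hδ]
  refine finsum_eq_zero_of_forall_eq_zero fun i => if_neg ?_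
  have := h3 i.1 i.2
  have := hWk i.1 this.2
  omega

end GrothLib.PBDeg
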