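import Groth.Agent.Lib.PBDeg17.Delta
import Groth.Agent.Lib.PBDeg17.Supp
import Groth.Agent.Lib.C1.FlatPull
import Groth.Agent.Lib.C1.OpClass
import Groth.Prelude.Def_ChowOps2

/-!
# The degree of the powers of the tautological class
-/

set_option autoImplicit false
set_option backward.isDefEq.respectTransparency false
set_option linter.style.haveILetI false

universe u

open CategoryTheory AlgebraicGeometry TopologicalSpace Opposite IsLocalRing
open GrothLib.Ref1 GrothLib.C1 GrothLib.CycFlat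

noncomputable section

namespace GrothLib.PBDeg

variable {m : ℕ} {X P : Scheme.{u}} {p : P ⟶ X} {L : P.Modules}

/-- The morphism is covered by standard charts. -/
def HasCharts (p : P ⟶ X) (L : P.Modules) (m : ℕ) : Prop := ∀ z : X, Nonempty (Chart p L m z)

theorem HasCharts.flat (hC : HasCharts p L m) : Flat p := by
  let C := fun z => (hC z).some
  refine IsZariskiLocalAtSource.of_openCover
    (Scheme.openCoverOfIsOpenCover P (fun w : Σ z : X, Fin (m + 1) => ((C w.1).c w.2).opensRange)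
      (IsOpenCover.mk (eq_top_iff.2 fun y _ => ?_))) fun w => ?_
  · obtain ⟨i, q, hq⟩ := (C (p y)).exists_of_mem (y := y) rfl
    exact Opens.mem_iSup.2 ⟨⟨p y, i⟩, q, hq⟩
  · show Flat (((C w.1).c w.2).opensRange.ι ≫ p)
    have e : ((C w.1).c w.2).opensRange.ι ≫ p = ((C w.1).c w.2).isoOpensRange.inv ≫
        (Spec.map (CommRingCat.ofHom MvPolynomial.C) ≫ (C w.1).hU.fromSpec) := by
      rw [← (C w.1).comp w.2, ← Category.assoc, Scheme.Hom.isoOpensRange_inv_comp]
    rw [e]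
    haveI : Flat (Spec.map (CommRingCat.ofHom (MvPolynomial.C (R := Γ(X, (C w.1).U)) (σ := {j // j ≠ w.2})))) :=
      (HasRingHomProperty.Spec_iff (P := @Flat)).2 (show RingHom.Flat (algebraMap Γ(X, (C w.1).U) (MvPolynomial {j // j ≠ w.2} Γ(X, (C w.1).U))) from
        RingHom.flat_algebraMap_iff.2 inferInstance)
    infer_instance

variable {δX : X → ℤ} {δP : P → ℤ}

theorem HasCharts.shift [IsLocallyNoetherian X] [IsLocallyNoetherian P] (hC : HasCharts p L m) (hL : PicF.IsInvertible L)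
    (hδP : Cyc.IsDimFun P δP) (hδ : Cyc.DeltaCompat p δP δX) (y : P) (hy : MaxFib p y) :
    δP y = δX (p y) + m := by
  obtain ⟨C⟩ := hC (p y)
  have h0 : (0 : Fin (m + 1)) ∉ (∅ : Finset (Fin (m + 1))) := Finset.notMem_empty _
  have e := hy _ (C.p_pt ∅ h0) (C.pt_specializes hL ∅ h0 rfl fun j hj => absurd hj (Finset.notMem_empty j))
  rw [← e, C.delta_pt hδ hδP hL ∅ h0, C.p_pt ∅ h0, Finset.card_empty, Nat.cast_zero, sub_zero]

theorem c1Pow_ne_zero (δ : P → ℤ) (t : ℕ → (ξ : P) → Cyc.secFibre L ξ) (a : P → ℤ) :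
    ∀ (s : ℕ) {y : P}, Cyc.c1PowFun δ L t s a y ≠ 0 → ∃ ξ, a ξ ≠ 0 ∧ ξ ⤳ y ∧ δ y + s = δ ξ
  | 0, y, h => ⟨y, h, specializes_rfl, by simp⟩
  | s + 1, y, h => by
    obtain ⟨ξ, h1, h2, h3, -⟩ := c1Cap_ne_zero h
    obtain ⟨ξ', a1, a2, a3⟩ := c1Pow_ne_zero δ t a s h1
    exact ⟨ξ', a1, a2.trans h2, by push_cast; omega⟩

theorem c1Cap_sub [IsLocallyNoetherian P] {δ : P → ℤ} {a b : P → ℤ} (ha : LF a) (hb : LF b)
    (s : (ξ : P) → Cyc.secFibre L ξ) :
    Cyc.c1CapFun δ L (a - b) s = Cyc.c1CapFun δ L a s - Cyc.c1CapFun δ L b s := by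
  funext x
  rw [Pi.sub_apply, Cyc.c1CapFun, Cyc.c1CapFun, Cyc.c1CapFun,
    ← finsum_sub_distrib (finite_cap_support ha s x) (finite_cap_support hb s x)]
  exact finsum_congr fun ξ => by rw [Pi.sub_apply, sub_mul]

theorem lf_c1Pow [IsLocallyNoetherian P] {δ : P → ℤ} (hδ : Cyc.IsDimFun P δ) (hL : PicF.IsInvertible L)
    {t : ℕ → (ξ : P) → Cyc.secFibre L ξ} (ht : ∀ n ξ, t n ξ ≠ 0) {a : P → ℤ} (ha : LF a) :
    ∀ s, LF (Cyc.c1PowFun δ L t s a)
  | 0 => ha
  | s + 1 => lf_c1Cap hδ hL (lf_c1Pow hδ hL ht ha s) (ht s)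

theorem pullFun_ne_zero {a : X → ℤ} {c : ℤ} {y : P} (h : Cyc.pullFun p δP δX c a y ≠ 0) :
    a (p y) ≠ 0 ∧ δP y = δX (p y) + c := by
  rw [pullFun_apply] at h
  split_ifs at h with h'
  · exact ⟨left_ne_zero_of_mul h, h'⟩
  · exact absurd rfl h

/-- The iterated classes computed by two choices of sections differ by divisors over the support. -/
theorem rzs_c1Pow_sub [IsLocallyNoetherian X] [IsLocallyNoetherian P] (hδX : Cyc.IsDimFun X δX)
    (hδP : Cyc.IsDimFun P δP) (hL : PicF.IsInvertible L) {k c : ℤ} {α : X → ℤ} (hk : ∀ η, α η ≠ 0 → δX η = k)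
    (hlf : LF (Cyc.pullFun p δP δX c α))
    {t t' : ℕ → (ξ : P) → Cyc.secFibre L ξ} (ht : ∀ n ξ, t n ξ ≠ 0) (ht' : ∀ n ξ, t' n ξ ≠ 0) :
    ∀ s : ℕ, RZS δP (k + c - s) {x | δX (p x) ≤ k}
      (Cyc.c1PowFun δP L t s (Cyc.pullFun p δP δX c α) - Cyc.c1PowFun δP L t' s (Cyc.pullFun p δP δX c α))
  | 0 => (RZS.zero hδP _ _).congr fun x => by simp [Cyc.c1PowFun]
  | s + 1 => by
    set a := Cyc.pullFun p δP δX c α
    have hW : ∀ x y : P, x ⤳ y → x ∈ {x | δX (p x) ≤ k} → y ∈ {x | δX (p x) ≤ k} := fun x y h hx => by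
      rcases eq_or_ne (p x) (p y) with e | e
      · exact show δX (p y) ≤ k from e ▸ hx
      · exact show δX (p y) ≤ k from ((hδX _ _ (h.map p.continuous) e).1.le.trans hx)
    have h1 := (rzs_c1Pow_sub hδX hδP hL hk hlf ht ht' s)
    rw [show k + c - (s : ℤ) = k + c - ((s + 1 : ℕ) : ℤ) + 1 by push_cast; ring] at h1
    have h2 := h1.c1Cap hδP hL hW (ht s)
    rw [c1Cap_sub (lf_c1Pow hδP hL ht hlf s) (lf_c1Pow hδP hL ht' hlf s)] at h2
    have h3 : RZS δP (k + c - ((s + 1 : ℕ) : ℤ)) {x | δX (p x) ≤ k}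
        (Cyc.c1CapFun δP L (Cyc.c1PowFun δP L t' s a) (t s) - Cyc.c1CapFun δP L (Cyc.c1PowFun δP L t' s a) (t' s)) := by
      refine RZS.change hδP hL (lf_c1Pow hδP hL ht' hlf s) (fun ξ hξ => ?_) (ht s) (ht' s)
      obtain ⟨η, hη, hsp, hd⟩ := c1Pow_ne_zero δP t' a s hξ
      obtain ⟨hη1, hη2⟩ := pullFun_ne_zero hη
      refine ⟨by have := hk _ hη1; push_cast; omega, hW η ξ hsp ?_⟩
      exact (hk _ hη1).le
    exact (h2.add hδP h3).congr fun x => by
      simp only [Cyc.c1PowFun, Pi.add_apply, Pi.sub_apply]; ring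

theorem Chart.fibLength_pt {z : X} (C : Chart p L m z) : fibLength p (C.pt ∅ (i := 0) (Finset.notMem_empty _)) = 1 := by
  let q : PrimeSpectrum (Dh Γ(X, C.U) 0) := ⟨C.lin ∅ 0, C.lin_isPrime ∅ (Finset.notMem_empty _)⟩
  show Module.length (P.presheaf.stalk (C.c 0 q))
    (P.presheaf.stalk (C.c 0 q) ⧸ Ideal.map (p.stalkMap (C.c 0 q)).hom (maximalIdeal (X.presheaf.stalk (p (C.c 0 q))))) = 1
  have h : Ideal.map (p.stalkMap (C.c 0 q)).hom (maximalIdeal (X.presheaf.stalk (p (C.c 0 q)))) =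
      maximalIdeal (P.presheaf.stalk (C.c 0 q)) := by
    refine le_antisymm (((IsLocalRing.local_hom_TFAE (p.stalkMap (C.c 0 q)).hom).out 0 2 :) |>.1 inferInstance) ?_
    rw [maximalIdeal_eq (C.c 0) q, Ideal.map_le_iff_le_comap]
    show C.lin ∅ 0 ≤ _
    rw [Chart.lin, Finset.coe_empty, Set.image_empty, Ideal.span_empty, sup_bot_eq, Ideal.map_le_iff_le_comap]
    intro r hr
    simp only [Ideal.mem_comap]
    have hmem : val (C.c 0) q (MvPolynomial.C r) ∈ maximalIdeal _ := by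
      rw [maximalIdeal_eq (C.c 0) q]
      exact Ideal.mem_map_of_mem _ (Ideal.mem_sup_left (Ideal.mem_map_of_mem _ hr))
    rw [C.val_C 0 q r] at hmem ⊢
    exact Ideal.mem_map_of_mem _ (fun hu => hmem (hu.map (p.stalkMap (C.c 0 q)).hom))
  rw [h]
  haveI : IsSimpleModule (P.presheaf.stalk (C.c 0 q)) (_ ⧸ maximalIdeal (P.presheaf.stalk (C.c 0 q))) :=
    isSimpleModule_iff_isCoatom.2 (Ideal.isMaximal_def.1 inferInstance)
  exact Module.length_eq_one_iff.2 inferInstance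

theorem Chart.secOrdAt_coord [IsLocallyNoetherian P] {z : X} (C : Chart p L m z) (hδP : Cyc.IsDimFun P δP)
    (hL : PicF.IsInvertible L) (i j : Fin (m + 1)) {q q₀ : PrimeSpectrum (Dh Γ(X, C.U) i)}
    (h : C.c i q₀ ⤳ C.c i q) (hd : δP (C.c i q) + 1 = δP (C.c i q₀)) (hξ : C.c i q₀ ∈ p ⁻¹ᵁ C.U) :
    Cyc.secOrdAt L (C.c i q₀) (C.c i q) h (cls (L.presheaf.germ (p ⁻¹ᵁ C.U) (C.c i q₀) hξ (C.s j))) =
      Cyc.ordAt (C.c i q) (C.c i q₀) h (Cyc.specMap (C.c i q) (C.c i q₀) h (val (C.c i) q (crd i j))) := by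
  have hg : Gen L (C.c i q₀) (L.presheaf.germ (p ⁻¹ᵁ C.U) (C.c i q₀) hξ (C.s i)) := C.gen i q₀ hξ
  refine Eq.trans (secOrdAt_eq hδP h hd hL (C.gen i q (C.c_mem i q)) _) ?_
  refine congrArg (Cyc.ordAt (C.c i q) (C.c i q₀) h) ?_
  rw [sp_germ, C.rat i j q₀ hξ]
  refine Eq.trans (coord_smul_cls hg (val (C.c i) q₀ (crd i j))) ?_
  rw [← spR_val (C.c i) h, residue_spR]

theorem Chart.secOrdAt_zero [IsLocallyNoetherian P] {z : X} (C : Chart p L m z) (hδP : Cyc.IsDimFun P δP)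
    (hL : PicF.IsInvertible L) (i j : Fin (m + 1)) {q q₀ : PrimeSpectrum (Dh Γ(X, C.U) i)} {ξ : P}
    (e : C.c i q₀ = ξ) (h : ξ ⤳ C.c i q) (hd : δP (C.c i q) + 1 = δP ξ) (hξ : ξ ∈ p ⁻¹ᵁ C.U)
    (hq : crd i j ∉ q.asIdeal) :
    Cyc.secOrdAt L ξ (C.c i q) h (cls (L.presheaf.germ (p ⁻¹ᵁ C.U) ξ hξ (C.s j))) = 0 := by
  subst e
  exact (C.secOrdAt_coord hδP hL i j h hd hξ).trans (ordAt_unit hδP h hd ((isUnit_val_iff (C.c i)).2 hq))

variable [IsLocallyNoetherian X] [IsLocallyNoetherian P]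

open Classical in
/-- The cycle-level degree formula at a point. -/
theorem Chart.degree {z : X} (C : Chart p L m z) (hδX : Cyc.IsDimFun X δX) (hδP : Cyc.IsDimFun P δP)
    (hδ : Cyc.DeltaCompat p δP δX) (hL : PicF.IsInvertible L) {k : ℤ} {α : X → ℤ} (hk : ∀ η, α η ≠ 0 → δX η = k)
    (hz : δX z = k) :
    ∃ v : ℕ → (ξ : P) → Cyc.secFibre L ξ, (∀ n ξ, v n ξ ≠ 0) ∧ ∀ y : P, p y = z →
      Cyc.c1PowFun δP L v m (Cyc.pullFun p δP δX m α) y * (AlgebraicCycle.mapCoeff p δP δX y : ℤ) =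
        if y = C.pt (Finset.univ.erase 0) (Finset.notMem_erase 0 _) then α z else 0 := by
  obtain ⟨w, hw⟩ := exists_sec hL
  let jj : ℕ → Fin (m + 1) := fun t => ⟨m - t, by omega⟩
  let v : ℕ → (ξ : P) → Cyc.secFibre L ξ := fun t ξ =>
    if h : ξ ∈ p ⁻¹ᵁ C.U ∧ ¬ C.Van (jj t) ξ then cls (L.presheaf.germ (p ⁻¹ᵁ C.U) ξ h.1 (C.s (jj t))) else w ξ
  have hv : ∀ n ξ, v n ξ ≠ 0 := fun n ξ => by
    by_cases h : ξ ∈ p ⁻¹ᵁ C.U ∧ ¬ C.Van (jj n) ξ
    · simp only [v, dif_pos h]
      exact fun h0 => h.2 ⟨h.1, h0⟩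
    · simp only [v, dif_neg h]
      exact hw ξ
  let J : ℕ → Finset (Fin (m + 1)) := fun t => Finset.univ.filter fun j => m + 1 - t ≤ j.1
  have h0J : ∀ t, t ≤ m → (0 : Fin (m + 1)) ∉ J t := fun t ht h => by
    have := (Finset.mem_filter.1 h).2
    simp at this
    omega
  have hins : ∀ t, t < m → insert (jj t) (J t) = J (t + 1) ∧ jj t ∉ J t := fun t ht => by
    constructor
    · ext j
      simp only [Finset.mem_insert, J, jj, Finset.mem_filter, Finset.mem_univ, true_and, Fin.ext_iff]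
      omega
    · simp only [J, jj, Finset.mem_filter, Finset.mem_univ, true_and]
      omega
  have hcard : ∀ t, t ≤ m → (J t).card = t := by
    intro t
    induction t with
    | zero =>
      intro _
      rw [Finset.card_eq_zero, Finset.filter_eq_empty_iff]
      intro j _
      omega
    | succ t ih =>
      intro ht
      rw [← (hins t (by omega)).1, Finset.card_insert_of_notMem (hins t (by omega)).2, ih (by omega)]
  have main : ∀ t (ht : t ≤ m) (y : P), p y = z →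
      Cyc.c1PowFun δP L v t (Cyc.pullFun p δP δX m α) y = if y = C.pt (J t) (h0J t ht) then α z else 0 := by
    intro t
    induction t with
    | zero =>
      intro ht y hy
      have hJ0 : J 0 = ∅ := Finset.card_eq_zero.1 (hcard 0 ht)
      have key : ∀ (K : Finset (Fin (m + 1))) (hK : (0 : Fin (m + 1)) ∉ K), K = ∅ →
          Cyc.pullFun p δP δX m α y = if y = C.pt K hK then α z else 0 := by
        rintro _ hK rfl
        have hsp := C.pt_specializes hL ∅ hK hy fun j hj => absurd hj (Finset.notMem_empty j)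
        have hd := C.delta_pt hδ hδP hL ∅ hK
        rw [Finset.card_empty, Nat.cast_zero, sub_zero] at hd
        by_cases e : y = C.pt ∅ hK
        · rw [if_pos e, pullFun_apply, hy, if_pos (by rw [e]; exact hd), e, C.fibLength_pt]
          simp
        · rw [if_neg e, pullFun_apply, hy, if_neg]
          intro h
          have := (hδP _ _ hsp (Ne.symm e)).1
          omega
      exact key _ _ hJ0
    | succ t ih =>
      intro ht y hy
      show Cyc.c1CapFun δP L (Cyc.c1PowFun δP L v t _) (v t) y = _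
      obtain ⟨hJ, hjJ⟩ := hins t (by omega)
      have hterm : ∀ ξ, ξ ≠ C.pt (J t) (h0J t (by omega)) →
          Cyc.c1PowFun δP L v t (Cyc.pullFun p δP δX m α) ξ * Cyc.secDivFun δP L ξ (v t ξ) y = 0 := by
        intro ξ hξ
        by_contra hne
        obtain ⟨η, hη, hsp, -⟩ := c1Pow_ne_zero δP v _ t (left_ne_zero_of_mul hne)
        obtain ⟨hη1, -⟩ := pullFun_ne_zero hη
        have hsy := (secDivFun_ne_zero (right_ne_zero_of_mul hne)).1
        have h1 : p η ⤳ z := hy ▸ (hsp.trans hsy).map p.continuous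
        have h2 : p η = z := by
          by_contra h
          have := (hδX _ _ h1 h).1
          have := hk _ hη1
          omega
        have h3 : p ξ = z := ((hy ▸ hsy.map p.continuous).antisymm (h2 ▸ hsp.map p.continuous)).eq
        exact left_ne_zero_of_mul hne (by rw [ih (by omega) ξ h3, if_neg hξ])
      rw [Cyc.c1CapFun, finsum_eq_single _ (C.pt (J t) (h0J t (by omega))) hterm,
        ih (by omega) _ (C.p_pt _ _), if_pos rfl]
      have hiJ : ∀ i, i ∉ J (t + 1) → i ∉ J t := fun i hi h => hi (hJ ▸ Finset.mem_insert_of_mem h)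
      have hsucc : C.pt (J t) (h0J t (by omega)) ⤳ C.pt (J (t + 1)) (h0J _ ht) :=
        C.pt_specializes hL _ _ (C.p_pt _ _) fun k hk => (C.van_pt _ _ k).2 (hJ ▸ Finset.mem_insert_of_mem hk)
      have hdt := C.delta_pt hδ hδP hL (J t) (h0J t (by omega))
      have hdt1 := C.delta_pt hδ hδP hL (J (t + 1)) (h0J _ ht)
      rw [hcard t (by omega)] at hdt
      rw [hcard (t + 1) ht] at hdt1
      rw [Cyc.secDivFun]
      split_ifs with h hy' hy'
      · -- the next point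
        subst hy'
        have e : ∀ (K : Finset (Fin (m + 1))) (hK : (0 : Fin (m + 1)) ∉ K) (_ : K = insert (jj t) (J t))
            (h' : C.pt (J t) (h0J t (by omega)) ⤳ C.pt K hK),
            Cyc.secOrdAt L (C.pt (J t) (h0J t (by omega))) (C.pt K hK) h' (v t _) = 1 := by
          rintro _ hK rfl h'
          have hq0 : C.pt (J t) (h0J t (by omega)) ∈ p ⁻¹ᵁ C.U := C.c_mem 0 _
          have hnv : ¬ C.Van (jj t) (C.pt (J t) (h0J t (by omega))) := mt (C.van_pt _ _ _).1 hjJ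
          simp only [v, dif_pos (And.intro hq0 hnv)]
          exact (C.secOrdAt_coord hδP hL 0 (jj t) (q₀ := ⟨C.lin (J t) 0, C.lin_isPrime _ (h0J t (by omega))⟩)
            (q := ⟨C.lin (insert (jj t) (J t)) 0, C.lin_isPrime _ hK⟩) h'
            (C.delta_insert hδP hL (J t) hjJ hK).symm hq0).trans (C.ordAt_crd hδP hL (J t) hK hjJ h')
        rw [e _ (h0J _ ht) hJ.symm h.1, mul_one]
      · refine mul_eq_zero_of_right _ ?_
        obtain ⟨i, q, rfl⟩ := C.exists_of_mem hy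
        obtain ⟨q₀, hq₀⟩ := h.1.mem_open (C.c i).isOpenEmbedding.isOpen_range ⟨q, rfl⟩
        have hp0 : C.pt (J t) (h0J t (by omega)) ∈ p ⁻¹ᵁ C.U := C.c_mem 0 _
        have hnv : ¬ C.Van (jj t) (C.pt (J t) (h0J t (by omega))) := mt (C.van_pt _ _ _).1 hjJ
        simp only [v, dif_pos (And.intro hp0 hnv)]
        by_cases hq : crd i (jj t) ∈ q.asIdeal
        · exfalso
          have hvan : ∀ k ∈ J (t + 1), C.Van k (C.c i q) := by
            intro k hk
            rw [← hJ, Finset.mem_insert] at hk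
            rcases hk with rfl | hk
            · exact (C.van_iff i _ q).2 hq
            · refine (C.van_iff i k q).2 ((specializes_iff (C.c i)).1 (hq₀ ▸ h.1) ?_)
              refine (C.van_iff i k q₀).1 ?_
              rw [hq₀]
              exact (C.van_pt _ _ k).2 hk
          have hs := C.pt_specializes hL (J (t + 1)) (h0J _ ht) hy hvan
          have := (hδP _ _ hs (Ne.symm hy')).1
          have := h.2
          omega
        · exact C.secOrdAt_zero hδP hL i (jj t) hq₀ h.1 h.2 hp0 hq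
      · exact absurd ⟨hy' ▸ hsucc, by rw [hy']; push_cast at hdt1; omega⟩ h
      · rw [mul_zero]
  refine ⟨v, hv, fun y hy => ?_⟩
  rw [main m le_rfl y hy]
  have hJm : J m = Finset.univ.erase 0 := Finset.eq_of_subset_of_card_le
    (fun j hj => Finset.mem_erase.2 ⟨fun e => h0J m le_rfl (e ▸ hj), Finset.mem_univ _⟩) (by rw [hcard m le_rfl]; simp)
  have key : ∀ (K : Finset (Fin (m + 1))) (hK : (0 : Fin (m + 1)) ∉ K), K = Finset.univ.erase 0 →
      (if y = C.pt K hK then α z else 0) * (AlgebraicCycle.mapCoeff p δP δX y : ℤ) =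
        if y = C.pt (Finset.univ.erase 0) (Finset.notMem_erase 0 _) then α z else 0 := by
    rintro _ hK rfl
    by_cases e : y = C.pt (Finset.univ.erase 0) hK
    · rw [if_pos e]
      have : AlgebraicCycle.mapCoeff p δP δX y = 1 := by
        rw [e, AlgebraicCycle.mapCoeff, if_pos, C.residueDegree_pt]
        rw [C.delta_pt hδ hδP hL _ hK]
        show _ = δX (p (C.pt (Finset.univ.erase 0) hK))
        rw [C.p_pt _ hK]
        simp
      rw [this, Nat.cast_one, mul_one]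
    · rw [if_neg e, zero_mul]
  exact key _ _ hJm

end GrothLib.PBDeg
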