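import Groth.Agent.Lib.PBDeg17.Points
import Groth.Agent.Lib.C1.BasePush
import Groth.Agent.Lib.C1.Gysin
import Groth.Agent.Lib.CycFlat.Fibre

/-!
# Dimensions and orders along linear subspaces of the fibre
-/

set_option autoImplicit false
set_option backward.isDefEq.respectTransparency false
set_option linter.style.haveILetI false

universe u

open CategoryTheory AlgebraicGeometry TopologicalSpace Opposite IsLocalRing
open GrothLib.Ref1 GrothLib.C1

noncomputable section

namespace GrothLib.PBDeg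

theorem exists_mul_val {A : Type u} [CommRing A] {P : Scheme.{u}} (c : Spec (CommRingCat.of A) ⟶ P)
    [IsOpenImmersion c] (q : PrimeSpectrum A) (x : P.presheaf.stalk (c q)) :
    ∃ a s : A, s ∉ q.asIdeal ∧ x * val c q s = val c q a := by
  letI := (stA (A := A) q).toAlgebra
  haveI : IsLocalization.AtPrime ((Spec (CommRingCat.of A)).presheaf.stalk q) q.asIdeal := isLocalization_stA q
  obtain ⟨⟨a, s⟩, h⟩ := IsLocalization.surj q.asIdeal.primeCompl ((c.stalkMap q).hom x)
  refine ⟨a, s, s.2, (ConcreteCategory.bijective_of_isIso (c.stalkMap q)).1 ?_⟩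
  refine (map_mul (c.stalkMap q).hom _ _).trans ?_
  rw [stalkMap_val]
  exact h.trans (stalkMap_val c q a).symm

variable {m : ℕ} {X P : Scheme.{u}} {p : P ⟶ X} {L : P.Modules} {z : X} (C : Chart p L m z)

theorem Chart.bijective_residueFieldMap_pt (i : Fin (m + 1)) (hi : i ∉ (Finset.univ.erase i : Finset (Fin (m + 1)))) :
    Function.Bijective (p.residueFieldMap (C.pt (Finset.univ.erase i) hi)) := by
  refine ⟨RingHom.injective _, fun w => ?_⟩
  let J : Finset (Fin (m + 1)) := Finset.univ.erase i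
  let q : PrimeSpectrum (Dh Γ(X, C.U) i) := ⟨C.lin J i, C.lin_isPrime J hi⟩
  let K := (p.residueFieldMap (C.c i q)).hom.fieldRange
  let ρ : Dh Γ(X, C.U) i →+* P.residueField (C.c i q) := (P.residue (C.c i q)).hom.comp (val (C.c i) q)
  have hA : ∀ a, ρ a ∈ K := fun a => by
    induction a using MvPolynomial.induction_on with
    | C r =>
      refine ⟨(X.residue (p (C.c i q))).hom (X.presheaf.germ C.U _ (C.c_mem i q) r), ?_⟩
      show _ = (P.residue (C.c i q)).hom (val (C.c i) q (MvPolynomial.C r))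
      rw [C.val_C i q r]
      exact (CommRingCat.comp_apply _ _ _).symm.trans
        ((congrArg (fun f : X.presheaf.stalk (p (C.c i q)) ⟶ P.residueField (C.c i q) => f.hom (X.presheaf.germ C.U _ (C.c_mem i q) r)) (Scheme.residue_residueFieldMap p (C.c i q))).trans (CommRingCat.comp_apply _ _ _))
    | add a b ha hb => rw [map_add]; exact add_mem ha hb
    | mul_X a j _ =>
      have h0 : ρ (MvPolynomial.X j) = 0 := by
        refine (IsLocalRing.residue_eq_zero_iff _).2 ?_
        rw [maximalIdeal_eq (C.c i) q]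
        refine Ideal.mem_map_of_mem _ ?_
        rw [← crd_of_ne j.2]
        exact (C.crd_mem_lin J hi j.1).2 (Finset.mem_erase.2 ⟨j.2, Finset.mem_univ _⟩)
      rw [map_mul, h0, mul_zero]
      exact zero_mem _
  obtain ⟨x, rfl⟩ := P.residue_surjective (C.c i q) w
  obtain ⟨a, s, hs, e⟩ := exists_mul_val (C.c i) q x
  have hne : ρ s ≠ 0 := (((isUnit_val_iff (C.c i)).2 hs).map (P.residue (C.c i q)).hom).ne_zero
  have : (P.residue (C.c i q)).hom x = ρ a / ρ s := by
    rw [eq_div_iff hne]
    exact (map_mul _ _ _).symm.trans (congrArg _ e)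
  obtain ⟨v, hv⟩ : (P.residue (C.c i q)).hom x ∈ K := this ▸ div_mem (hA a) (hA s)
  exact ⟨v, hv⟩

theorem Chart.residueDegree_pt (i : Fin (m + 1)) (hi : i ∉ (Finset.univ.erase i : Finset (Fin (m + 1)))) :
    p.residueDegree (C.pt (Finset.univ.erase i) hi) = 1 :=
  C1.BasePush.residueDegree_eq_one p _ (C.bijective_residueFieldMap_pt i hi)

variable [IsLocallyNoetherian X] [IsLocallyNoetherian P] {δX : X → ℤ} {δP : P → ℤ}
  (hδP : Cyc.IsDimFun P δP) (hL : PicF.IsInvertible L)

include hδP hL in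
theorem Chart.delta_insert (J : Finset (Fin (m + 1))) {j : Fin (m + 1)} (hj : j ∉ J) {i : Fin (m + 1)}
    (hi : i ∉ insert j J) :
    δP (C.pt J (fun h => hi (Finset.mem_insert_of_mem h))) = δP (C.pt (insert j J) hi) + 1 := by
  have hi' : i ∉ J := fun h => hi (Finset.mem_insert_of_mem h)
  have hsp : C.pt J hi' ⤳ C.pt (insert j J) hi := C.pt_specializes hL J hi' (C.p_pt _ hi) fun k hk =>
    (C.van_pt _ hi k).2 (Finset.mem_insert_of_mem hk)
  have hne : C.pt J hi' ≠ C.pt (insert j J) hi := fun h => hj ((C.van_pt J hi' j).1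
    (h ▸ (C.van_pt _ hi j).2 (Finset.mem_insert_self j J)))
  refine (hδP _ _ hsp hne).2 fun w hw hw' => ?_
  obtain ⟨q, rfl⟩ : w ∈ Set.range (C.c i) := hw'.mem_open (C.c i).isOpenEmbedding.isOpen_range ⟨_, rfl⟩
  have h1 : C.lin J i ≤ q.asIdeal := (specializes_iff (C.c i)).1 hw
  have h2 : q.asIdeal ≤ C.lin (insert j J) i := (specializes_iff (C.c i)).1 hw'
  have hlin : C.lin (insert j J) i = C.lin J i ⊔ Ideal.span {crd i j} := by
    rw [Chart.lin, Chart.lin, Finset.coe_insert, Set.image_insert_eq, Ideal.span_insert, sup_assoc,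
      sup_comm (Ideal.span {crd i j})]
  by_cases ha : crd i j ∈ q.asIdeal
  · exact Or.inr (congrArg (C.c i) (PrimeSpectrum.ext (le_antisymm h2
      (hlin.le.trans (sup_le h1 ((Ideal.span_singleton_le_iff_mem _).2 ha))))))
  refine Or.inl (congrArg (C.c i) (PrimeSpectrum.ext ?_))
  haveI : IsNoetherianRing Γ(X, C.U) := IsLocallyNoetherian.component_noetherian ⟨C.U, C.hU⟩
  haveI := C.lin_isPrime J hi'
  set π := Ideal.Quotient.mk (C.lin J i) with hπ
  haveI : IsDomain (Dh Γ(X, C.U) i ⧸ C.lin J i) := Ideal.Quotient.isDomain _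
  set a := π (crd i j)
  set Q := q.asIdeal.map π
  have hQle : Q ≤ Ideal.span {a} := by
    refine (Ideal.map_mono h2).trans ?_
    rw [hlin, Ideal.map_sup, Ideal.map_quotient_self, bot_sup_eq, Ideal.map_span, Set.image_singleton]
  have hQprime : Q.IsPrime := Ideal.map_isPrime_of_surjective Ideal.Quotient.mk_surjective (by rwa [Ideal.mk_ker])
  have haQ : a ∉ Q := fun h => ha (by
    rw [Ideal.mem_map_iff_of_surjective _ Ideal.Quotient.mk_surjective] at h
    obtain ⟨b, hb, hb'⟩ := h
    have := (Ideal.Quotient.mk_eq_mk_iff_sub_mem b (crd i j)).1 hb'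
    simpa using Ideal.sub_mem _ hb (h1 this))
  have hne1 : Ideal.span {a} ≠ ⊤ := fun h => hi ((C.crd_mem_lin (insert j J) hi i).1 (by
    have h' : (C.lin (insert j J) i).map π = ⊤ := by
      rw [hlin, Ideal.map_sup, Ideal.map_quotient_self, bot_sup_eq, Ideal.map_span, Set.image_singleton]
      exact h
    have h3 := (Ideal.comap_map_of_surjective π Ideal.Quotient.mk_surjective (C.lin (insert j J) i))
    rw [h', Ideal.comap_top, ← RingHom.ker_eq_comap_bot, Ideal.mk_ker,
      sup_eq_left.2 (hlin ▸ le_sup_left)] at h3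
    rw [← h3]; trivial))
  have hpow : ∀ n, Q ≤ Ideal.span {a} ^ n := by
    intro n
    induction n with
    | zero => simp
    | succ n ih =>
      intro f hf
      obtain ⟨g, rfl⟩ := Ideal.mem_span_singleton'.1 (hQle hf)
      rw [pow_succ]
      exact Ideal.mul_mem_mul (ih ((hQprime.mem_or_mem hf).resolve_right haQ)) (Ideal.mem_span_singleton_self a)
  have hbot : Q = ⊥ := eq_bot_iff.2 (fun f hf => by
    rw [← Ideal.iInf_pow_eq_bot_of_isDomain (Ideal.span {a}) hne1]
    exact Ideal.mem_iInf.2 fun n => hpow n hf)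
  refine le_antisymm (fun f hf => ?_) h1
  exact Ideal.Quotient.eq_zero_iff_mem.1 (Ideal.mem_bot.1 (hbot ▸ Ideal.mem_map_of_mem π hf))

/-- Dimensions of the linear subspaces. -/
theorem Chart.delta_pt (hδ : Cyc.DeltaCompat p δP δX) (hδP : Cyc.IsDimFun P δP) (hL : PicF.IsInvertible L)
    (J : Finset (Fin (m + 1))) {i : Fin (m + 1)} (hi : i ∉ J) :
    δP (C.pt J hi) = δX z + m - J.card := by
  suffices h : ∀ (d : ℕ) (J : Finset (Fin (m + 1))) (hi : i ∉ J), J.card + d = m → δP (C.pt J hi) = δX z + m - J.card by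
    have : J.card ≤ m := by
      have := Finset.card_lt_univ_of_notMem hi
      simpa using Nat.lt_succ_iff.1 (by simpa using this)
    exact h (m - J.card) J hi (by omega)
  intro d
  induction d with
  | zero =>
    intro J hi hd
    obtain rfl : J = Finset.univ.erase i := Finset.eq_of_subset_of_card_le
      (fun j hj => Finset.mem_erase.2 ⟨fun e => hi (e ▸ hj), Finset.mem_univ _⟩) (by simp; omega)
    have := C1.BasePush.delta_eq_of_residueDegree_ne_zero p hδ (x := C.pt (Finset.univ.erase i) hi)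
      (by rw [C.residueDegree_pt i hi]; exact one_ne_zero)
    rw [this, C.p_pt _ hi]
    simp at hd ⊢
  | succ d ih =>
    intro J hi hd
    obtain ⟨j, hj⟩ : ∃ j, j ∉ insert i J := by
      by_contra h
      push Not at h
      have := Finset.card_le_card (s := Finset.univ) (t := insert i J) fun x _ => h x
      simp [Finset.card_insert_of_notMem hi] at this
      omega
    rw [Finset.mem_insert, not_or] at hj
    have hi2 : i ∉ insert j J := fun h => (Finset.mem_insert.1 h).elim (fun e => hj.1 e.symm) hi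
    rw [C.delta_insert hδP hL J hj.2 hi2, ih (insert j J) hi2 (by rw [Finset.card_insert_of_notMem hj.2]; omega),
      Finset.card_insert_of_notMem hj.2]
    push_cast
    ring

include hδP hL in
/-- The order of a coordinate along a linear subspace. -/
theorem Chart.ordAt_crd (J : Finset (Fin (m + 1))) {i j : Fin (m + 1)} (hi : i ∉ insert j J) (hj : j ∉ J)
    (h : C.pt J (fun h => hi (Finset.mem_insert_of_mem h)) ⤳ C.pt (insert j J) hi) :
    Cyc.ordAt _ _ h (Cyc.specMap _ _ h (val (C.c i) ⟨C.lin (insert j J) i, C.lin_isPrime _ hi⟩ (crd i j))) = 1 := by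
  have hi' : i ∉ J := fun h => hi (Finset.mem_insert_of_mem h)
  have hd : δP (C.pt (insert j J) hi) + 1 = δP (C.pt J hi') := (C.delta_insert hδP hL J hj hi).symm
  let q : PrimeSpectrum (Dh Γ(X, C.U) i) := ⟨C.lin (insert j J) i, C.lin_isPrime _ hi⟩
  let q₀ : PrimeSpectrum (Dh Γ(X, C.U) i) := ⟨C.lin J i, C.lin_isPrime _ hi'⟩
  let h' : C.c i q₀ ⤳ C.c i q := h
  show Cyc.ordAt (C.c i q) (C.c i q₀) h' (Cyc.specMap _ _ h' (val (C.c i) q (crd i j))) = 1
  haveI := CycDiv.isFractionRing_locQuot h'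
  haveI := krullDimLE_locQuot hδP h' hd
  haveI : IsNoetherianRing (Cyc.LocQuot (C.c i q) (C.c i q₀) h') :=
    isNoetherianRing_of_surjective _ _ (Ideal.Quotient.mk _) Ideal.Quotient.mk_surjective
  set π := Ideal.Quotient.mk (RingHom.ker (Cyc.specMap (C.c i q) (C.c i q₀) h')) with hπ
  have hval : ∀ b, Cyc.specMap _ _ h' (val (C.c i) q b) = (P.residue (C.c i q₀)).hom (val (C.c i) q₀ b) := fun b => by
    rw [← residue_spR h', spR_val]
  have ha : crd i j ∉ q₀.asIdeal := fun hm => hj ((C.crd_mem_lin J hi' j).1 hm)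
  have hne : π (val (C.c i) q (crd i j)) ≠ 0 := fun h0 =>
    (((isUnit_val_iff (C.c i)).2 ha).map (P.residue (C.c i q₀)).hom).ne_zero
      ((hval _).symm.trans (RingHom.mem_ker.1 (Ideal.Quotient.eq_zero_iff_mem.1 h0)))
  have hmax : maximalIdeal (Cyc.LocQuot (C.c i q) (C.c i q₀) h') = Ideal.span {π (val (C.c i) q (crd i j))} := by
    have h1 : maximalIdeal (Cyc.LocQuot (C.c i q) (C.c i q₀) h') = (maximalIdeal (P.presheaf.stalk (C.c i q))).map π :=
      (IsLocalRing.map_maximalIdeal_of_surjective π Ideal.Quotient.mk_surjective).symm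
    rw [h1, maximalIdeal_eq (C.c i) q, Ideal.map_map]
    have hlin : q.asIdeal = C.lin J i ⊔ Ideal.span {crd i j} := by
      show C.lin (insert j J) i = _
      rw [Chart.lin, Chart.lin, Finset.coe_insert, Set.image_insert_eq, Ideal.span_insert, sup_assoc,
        sup_comm (Ideal.span {crd i j})]
    rw [hlin, Ideal.map_sup, Ideal.map_span, Set.image_singleton]
    refine sup_eq_right.2 (Ideal.map_le_iff_le_comap.2 fun b hb => ?_)
    refine Ideal.mem_comap.2 ?_
    have : π (val (C.c i) q b) = 0 := by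
      rw [Ideal.Quotient.eq_zero_iff_mem, RingHom.mem_ker, hval b]
      refine (IsLocalRing.residue_eq_zero_iff _).2 ?_
      rw [maximalIdeal_eq (C.c i) q₀]
      exact Ideal.mem_map_of_mem _ hb
    rw [show (π.comp (val (C.c i) q)) b = 0 from this]
    exact zero_mem _
  have hm := mem_nonZeroDivisors_of_ne_zero hne
  have halg : Cyc.specMap _ _ h' (val (C.c i) q (crd i j)) =
      algebraMap (Cyc.LocQuot (C.c i q) (C.c i q₀) h') (P.residueField (C.c i q₀)) (π (val (C.c i) q (crd i j))) :=
    (CycDiv.algebraMap_mk h' _).symm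
  rw [Cyc.ordAt, CycAlg.ordFrac, dif_pos ⟨inferInstance, inferInstance, inferInstance, inferInstance⟩, halg,
    Ring.ordFrac_eq_ord _ hne, Ring.ordMonoidWithZeroHom_eq_coe _ hm (n := 1) ?_]
  · rfl
  · show Module.length _ (_ ⧸ Ideal.span {_}) = _
    rw [← hmax]
    haveI : IsSimpleModule (Cyc.LocQuot (C.c i q) (C.c i q₀) h') (_ ⧸ maximalIdeal (Cyc.LocQuot (C.c i q) (C.c i q₀) h')) :=
      isSimpleModule_iff_isCoatom.2 (Ideal.isMaximal_def.1 inferInstance)
    rw [Module.length_eq_one_iff.2 inferInstance]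
    rfl

end GrothLib.PBDeg
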