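import Groth.Agent.Lib.PBDeg17.GenSub

/-!
# Principal divisors vanish in the quotient of `K₀`
-/

set_option autoImplicit false
set_option linter.style.haveILetI false
set_option linter.unusedVariables false
set_option linter.unusedSectionVars false

universe u

open CategoryTheory CategoryTheory.Limits AlgebraicGeometry

noncomputable section

namespace GrothLib.PBDeg.K0Cyc

open GrothLib GrothLib.PBDeg.KPhi

attribute [local instance] Abelian.hasFiniteBiproducts

variable {X : Scheme.{u}} [IsLocallyNoetherian X] {δ : X → ℤ} {k : ℤ}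

/-- No element of a stalk vanishes at all the points of dimension `k`. -/
def TFree (δ : X → ℤ) (k : ℤ) (F : X.Modules) : Prop :=
  ∀ (x : X) (e : stk F x), (∀ (z : X) (h : z ⤳ x), δ z = k → specHom F h e = 0) → e = 0

/-- The quotient without lower dimensional submodules. -/
theorem exists_tfree (hδ : Cyc.IsDimFun X δ) {F : X.Modules} (hF : Cyc.CohLe δ k F) :
    ∃ (G : X.Modules) (π : F ⟶ G), Epi π ∧ Cyc.CohLe δ k G ∧ TFree δ k G ∧
      ∀ z, δ z = k → Function.Bijective (stL π z) := by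
  let T₀ := gsub F (lev δ k fun _ => ⊥)
  have hT₀ : Cyc.CohLe δ k T₀.obj := cohLe_gsub hδ hF _
  let π : F ⟶ cokernel T₀.ι := cokernel.π T₀.ι
  have hses : (ShortComplex.mk T₀.ι π (cokernel.condition _)).ShortExact :=
    ShortComplex.ShortExact.mk' (ShortComplex.exact_cokernel _) inferInstance inferInstance
  have hexact : ∀ x, Function.Exact (stL T₀.ι x) (stL π x) := fun x => stL_exact hses x
  have hπ : ∀ z, δ z = k → Function.Bijective (stL π z) := fun z hz =>
    ⟨(injective_iff_map_eq_zero _).2 fun e he => by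
      have h1 : e ∈ LinearMap.range (stL T₀.ι z) := (hexact z e).1 he
      rw [range_gsub_stalk hδ hF _ hz] at h1
      exact (Submodule.mem_bot _).1 h1, stL_surjective π z⟩
  refine ⟨_, π, inferInstance, cohLe_cokernel _ hT₀.1 hF, fun x e he => ?_, hπ⟩
  obtain ⟨f, rfl⟩ := stL_surjective π x e
  refine (hexact x f).2 (gsub_stalk_lift F _ (wlf_lev hδ hF _) x f fun z h => ?_)
  by_cases hz : δ z = k
  · rw [lev_eq _ hz, Submodule.mem_bot]
    apply (hπ z hz).1
    rw [map_zero, ← he z h hz]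
    exact (specHom_natural π h f).symm
  · rw [lev_of_ne _ hz]
    trivial

theorem stL_comp {A B C : X.Modules} (f : A ⟶ B) (g : B ⟶ C) (z : X) (e : stk A z) :
    stL (f ≫ g) z e = stL g z (stL f z e) :=
  QCoh.stalkLin_comp f g z e

theorem stL_id (A : X.Modules) (z : X) (e : stk A z) : stL (𝟙 A) z e = e := by
  show ((OX.stalk z).map (𝟙 A)).hom e = e
  rw [CategoryTheory.Functor.map_id]
  rfl

theorem stL_zero (A B : X.Modules) (z : X) (e : stk A z) : stL (0 : A ⟶ B) z e = 0 := by
  show ((OX.stalk z).map (0 : A ⟶ B)).hom e = 0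
  rw [Functor.map_zero]
  rfl

theorem stL_add {A B : X.Modules} (f g : A ⟶ B) (z : X) (e : stk A z) :
    stL (f + g) z e = stL f z e + stL g z e := by
  show ((OX.stalk z).map (f + g)).hom e = ((OX.stalk z).map f).hom e + ((OX.stalk z).map g).hom e
  rw [Functor.map_add]
  rfl

theorem stL_biprod_ext {A B : X.Modules} (z : X) (w : stk (A ⊞ B) z)
    (h1 : stL (biprod.fst : A ⊞ B ⟶ A) z w = 0) (h2 : stL (biprod.snd : A ⊞ B ⟶ B) z w = 0) : w = 0 := by
  have h : stL (biprod.fst ≫ biprod.inl + biprod.snd ≫ biprod.inr : A ⊞ B ⟶ A ⊞ B) z w = w := by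
    rw [biprod.total, stL_id]
  rw [stL_add, stL_comp, stL_comp, h1, h2, map_zero, map_zero, add_zero] at h
  exact h.symm

/-- The graph of maps between the stalks at the points of dimension `k`. -/
theorem exists_graph (hδ : Cyc.IsDimFun X δ) {G G' : X.Modules} (hG : Cyc.CohLe δ k G)
    (hG' : Cyc.CohLe δ k G') (φ : ∀ z : X, δ z = k → (stk G z ≃ₗ[X.presheaf.stalk z] stk G' z)) :
    ∃ (J : X.Modules) (a : J ⟶ G) (b : J ⟶ G'), Cyc.CohLe δ k J ∧
      (∀ z (hz : δ z = k), Function.Bijective (stL a z) ∧ Function.Bijective (stL b z) ∧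
        ∀ e, φ z hz (stL a z e) = stL b z e) ∧
      (TFree δ k G' → Mono a) ∧ (TFree δ k G → Mono b) := by
  classical
  let M := G ⊞ G'
  have hM : Cyc.CohLe δ k M := (q_biprod (b := k) hG hG').1
  let ψ : ∀ z : X, stk G z →ₗ[X.presheaf.stalk z] stk G' z := fun z =>
    if h : δ z = k then (φ z h).toLinearMap else 0
  let V : ∀ z : X, Submodule (X.presheaf.stalk z) (stk M z) := fun z =>
    LinearMap.ker ((ψ z).comp (stL (biprod.fst : M ⟶ G) z) - stL (biprod.snd : M ⟶ G') z)
  let ι := (gsub M (lev δ k V)).ι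
  have hrel : ∀ z, δ z = k → ∀ e, ψ z (stL (ι ≫ biprod.fst) z e) = stL (ι ≫ biprod.snd) z e := by
    intro z hz e
    have hmem : stL ι z e ∈ V z := (range_gsub_stalk hδ hM V hz).le ⟨e, rfl⟩
    have := LinearMap.mem_ker.1 hmem
    rw [LinearMap.sub_apply, sub_eq_zero, LinearMap.comp_apply] at this
    rw [stL_comp, stL_comp]
    exact this
  have hjoint : ∀ (x : X) e, stL (ι ≫ biprod.fst) x e = 0 → stL (ι ≫ biprod.snd) x e = 0 → e = 0 := by
    intro x e h1 h2
    rw [stL_comp] at h1 h2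
    exact (injective_iff_map_eq_zero (stL ι x)).1 (stL_injective ι x) e (stL_biprod_ext x _ h1 h2)
  have hbij : ∀ z, δ z = k → Function.Bijective (ψ z) := fun z hz => by
    simp only [ψ, dif_pos hz]
    exact (φ z hz).bijective
  have hfst : ∀ z, δ z = k → Function.Bijective (stL (ι ≫ biprod.fst) z) := by
    intro z hz
    refine ⟨(injective_iff_map_eq_zero _).2 fun e he => hjoint z e he (by rw [← hrel z hz, he, map_zero]),
      fun g => ?_⟩
    let w : stk M z := stL (biprod.inl : G ⟶ M) z g + stL (biprod.inr : G' ⟶ M) z (ψ z g)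
    have w1 : stL (biprod.fst : M ⟶ G) z w = g := by
      rw [map_add, ← stL_comp, ← stL_comp, biprod.inl_fst, biprod.inr_fst, stL_id, stL_zero, add_zero]
    have w2 : stL (biprod.snd : M ⟶ G') z w = ψ z g := by
      rw [map_add, ← stL_comp, ← stL_comp, biprod.inl_snd, biprod.inr_snd, stL_id, stL_zero, zero_add]
    obtain ⟨e, he⟩ := (range_gsub_stalk hδ hM V hz).symm.le (show w ∈ V z from by
      rw [LinearMap.mem_ker, LinearMap.sub_apply, LinearMap.comp_apply, w1, w2, sub_self])
    refine ⟨e, ?_⟩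
    rw [stL_comp]
    exact (congrArg _ he).trans w1
  have hsnd : ∀ z, δ z = k → Function.Bijective (stL (ι ≫ biprod.snd) z) := by
    intro z hz
    have : (stL (ι ≫ biprod.snd) z : stk _ z → stk G' z) = ψ z ∘ stL (ι ≫ biprod.fst) z :=
      funext fun e => (hrel z hz e).symm
    rw [this]
    exact (hbij z hz).comp (hfst z hz)
  have hmono : ∀ {A B : X.Modules} (f : A ⟶ B), (∀ x, Function.Injective (stL f x)) → Mono f :=
    fun f hf => (OX.mono_iff f).2 fun x => (ModuleCat.mono_iff_injective _).2 (hf x)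
  refine ⟨_, ι ≫ biprod.fst, ι ≫ biprod.snd, cohLe_gsub hδ hM V, fun z hz => ⟨hfst z hz, hsnd z hz, fun e => ?_⟩,
    fun ht => hmono _ fun x => (injective_iff_map_eq_zero _).2 fun e he => hjoint x e he (ht x _ fun z h hz => ?_),
    fun ht => hmono _ fun x => (injective_iff_map_eq_zero _).2 fun e he => hjoint x e (ht x _ fun z h hz => ?_) he⟩
  · have := hrel z hz e
    simp only [ψ, dif_pos hz] at this
    exact this
  · rw [specHom_natural (ι ≫ biprod.snd) h e |> (fun t => show specHom G' h (stL (ι ≫ biprod.snd) x e) = stL (ι ≫ biprod.snd) z (specHom _ h e) from t),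
      ← hrel z hz, show stL (ι ≫ biprod.fst) z (specHom _ h e) = specHom G h (stL (ι ≫ biprod.fst) x e) from
        (specHom_natural _ h e).symm, he, map_zero, map_zero]
  · apply (hbij z hz).1
    rw [map_zero, show specHom G h (stL (ι ≫ biprod.fst) x e) = stL (ι ≫ biprod.fst) z (specHom _ h e) from
        specHom_natural _ h e, hrel z hz,
      show stL (ι ≫ biprod.snd) z (specHom _ h e) = specHom G' h (stL (ι ≫ biprod.snd) x e) from
        (specHom_natural _ h e).symm, he, map_zero]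

theorem subsingleton_stk_of_ne (hδ : Cyc.IsDimFun X δ) {ξ z : X} {F : X.Modules} (hξ : δ ξ = k)
    (hs : CohB1.support F ⊆ closure {ξ}) (hz : δ z = k) (hne : ξ ≠ z) : Subsingleton (stk F z) := by
  refine not_nontrivial_iff_subsingleton.1 fun h => ?_
  have := (hδ _ _ (specializes_iff_mem_closure.2 (hs (CycBasic.nontrivial_iff_mem_support.1 h))) hne).1
  omega

theorem length_cokernel_stalk {A B : X.Modules} (a : A ⟶ B) (x : X) :
    Module.length (X.presheaf.stalk x) (stk (cokernel a) x) =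
      Module.length (X.presheaf.stalk x) (stk B x ⧸ LinearMap.range (stL a x)) := by
  have hex : Function.Exact (stL a x) (stL (cokernel.π a) x) :=
    (ShortComplex.ShortExact.moduleCat_exact_iff_function_exact _).1
      ((OX.exact_iff _).1 (ShortComplex.exact_cokernel a) x)
  rw [← LinearMap.exact_iff.1 hex]
  exact (((stL (cokernel.π a) x).quotKerEquivOfSurjective (stL_surjective _ x)).length_eq).symm

/-- The divisor of one function as the difference of two coherent modules. -/
theorem exists_pair (hδ : Cyc.IsDimFun X δ) {ξ : X} (hξ : δ ξ = k + 1) {f : X.residueField ξ} (hf : f ≠ 0) :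
    ∃ (O J : X.Modules) (a b : J ⟶ O), Mono a ∧ Mono b ∧ Cyc.CohLe δ (k + 1) O ∧ Cyc.CohLe δ (k + 1) J ∧
      CohB1.support O ⊆ closure {ξ} ∧ Cyc.CohLe δ k (cokernel a) ∧ Cyc.CohLe δ k (cokernel b) ∧
      ∀ x, Cyc.sheafFun δ k (cokernel b) x - Cyc.sheafFun δ k (cokernel a) x = Cyc.divFun δ ξ f x := by
  classical
  obtain ⟨O, π, hπ, hO, htf, hπbij⟩ := exists_tfree (k := k + 1) hδ (hξ ▸ cohLe_closureSheaf hδ ξ)
  have hsupp : CohB1.support O ⊆ closure {ξ} :=
    (QCoh.support_subset_of_epi π).trans (K0Sub.closureSheaf_data ξ).2.1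
  let e₀ : stk O ξ ≃ₗ[X.presheaf.stalk ξ] X.residueField ξ :=
    (LinearEquiv.ofBijective _ (hπbij ξ hξ)).symm.trans (K0Sub.closureSheaf_data ξ).2.2.some
  let mf : X.residueField ξ ≃ₗ[X.presheaf.stalk ξ] X.residueField ξ :=
    LinearEquiv.ofBijective (LinearMap.mulLeft (X.presheaf.stalk ξ) f)
      ⟨mul_right_injective₀ hf, fun y => ⟨f⁻¹ * y, mul_inv_cancel_left₀ hf y⟩⟩
  let φ : ∀ z : X, δ z = k + 1 → (stk O z ≃ₗ[X.presheaf.stalk z] stk O z) := fun z hz =>
    if h : ξ = z then h ▸ (e₀.trans (mf.trans e₀.symm)) else LinearEquiv.refl _ _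
  have hφ : φ ξ hξ = e₀.trans (mf.trans e₀.symm) := by simp [φ]
  obtain ⟨J, a, b, hJ, hlev, ha, hb⟩ := exists_graph hδ hO hO φ
  haveI := ha htf
  haveI := hb htf
  have hcoh : ∀ c : J ⟶ O, (∀ z, δ z = k + 1 → Function.Surjective (stL c z)) →
      Cyc.CohLe δ k (cokernel c) := fun c hc => by
    have h := cohLe_pred (cohLe_cokernel c hJ.1 hO) fun z hz =>
      QCoh.stalk_subsingleton_of_notMem (QCoh.notMem_support_cokernel_of_surjective c (hc z hz))
    simpa using h
  have hCa := hcoh a fun z hz => (hlev z hz).1.2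
  have hCb := hcoh b fun z hz => (hlev z hz).2.1.2
  refine ⟨O, J, a, b, inferInstance, inferInstance, hO, hJ, hsupp, hCa, hCb, fun x => ?_⟩
  by_cases hx : δ x = k
  swap
  · rw [Cyc.sheafFun, Cyc.sheafFun, if_neg hx, if_neg hx, Cyc.divFun, dif_neg fun h => hx (by omega),
      sub_zero]
  by_cases hsp : ξ ⤳ x
  swap
  · rw [Cyc.divFun, dif_neg fun h => hsp h.1]
    have hs : ∀ c : J ⟶ O, Cyc.sheafFun δ k (cokernel c) x = 0 := fun c => by
      rw [Cyc.sheafFun, if_pos hx]
      haveI : Subsingleton ((cokernel c).presheaf.stalk x) := not_nontrivial_iff_subsingleton.1 fun h =>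
        hsp (specializes_iff_mem_closure.2 (hsupp (QCoh.support_subset_of_epi (cokernel.π c)
          (CycBasic.nontrivial_iff_mem_support.1 h))))
      rw [Module.length_eq_zero]
      rfl
    rw [hs, hs, sub_zero]
  rw [Cyc.divFun, dif_pos ⟨hsp, by omega⟩, Cyc.sheafFun, Cyc.sheafFun, if_pos hx, if_pos hx]
  obtain ⟨S, g, rfl⟩ : ∃ (S : Gens δ k x) (g : Pt S), g.val = ξ :=
    ⟨⟨{ξ}, fun z hz => by rw [Finset.mem_singleton.1 hz]; exact ⟨hsp, hξ⟩⟩,
      ⟨ξ, Finset.mem_singleton_self _⟩, rfl⟩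
  have hC := cx hδ hx g
  let eA : stk O g.val →ₗ[X.presheaf.stalk x] X.residueField g.val :=
    (e₀.toLinearMap : stk O g.val →ₗ[X.presheaf.stalk g.val] X.residueField g.val).restrictScalars _
  let sp : stk O x →ₗ[X.presheaf.stalk x] X.residueField g.val := eA.comp (specLin O g)
  have hspinj : Function.Injective sp := (injective_iff_map_eq_zero sp).2 fun e he =>
    htf x e fun z h hz => by
      rcases eq_or_ne g.val z with rfl | hne
      · exact (injective_iff_map_eq_zero e₀).1 e₀.injective _ he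
      · haveI := subsingleton_stk_of_ne (k := k + 1) hδ hξ hsupp hz hne
        exact Subsingleton.elim _ _
  let L : (J ⟶ O) → Submodule (X.presheaf.stalk x) (X.residueField g.val) := fun c =>
    LinearMap.range (sp.comp (stL c x))
  have hlat : ∀ c : J ⟶ O, Function.Surjective (stL c g.val) → Lat.IsLat (X.residueField g.val) (L c) := by
    intro c hc
    refine ⟨by
      haveI : Module.Finite (X.presheaf.stalk x) (stk J x) := QuasiFlat.finite_stalk J hJ.1 x
      show (LinearMap.range _).FG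
      rw [← Submodule.map_top]
      exact Module.Finite.fg_top.map _, fun w => ?_⟩
    obtain ⟨v, hv⟩ := hc (e₀.symm w)
    haveI := hJ.1.1
    obtain ⟨s, m, hs, he⟩ := exists_specHom_eq J g.sp v
    refine ⟨s, hs, m, ?_⟩
    show e₀ (specHom O g.sp (stL c x m)) = s • w
    rw [show specHom O g.sp (stL c x m) = stL c g.val (specHom J g.sp m) from specHom_natural c g.sp m, ← he]
    refine (congrArg e₀ ((stL c g.val).map_smul _ v)).trans ((e₀.map_smul _ _).trans ?_)
    rw [hv, e₀.apply_symm_apply]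
    exact algebraMap_smul (X.presheaf.stalk g.val) s w
  have hfg : (LinearMap.range sp).FG := by
    haveI : Module.Finite (X.presheaf.stalk x) (stk O x) := QuasiFlat.finite_stalk O hO.1 x
    rw [← Submodule.map_top]
    exact Module.Finite.fg_top.map _
  have hlen : ∀ c : J ⟶ O, Function.Surjective (stL c g.val) →
      (((Module.length (X.presheaf.stalk x) ((cokernel c).presheaf.stalk x)).toNat : ℕ) : ℤ) =
        Lat.idx (L c) - Lat.idx (LinearMap.range sp) := by
    intro c hc
    have hle : L c ≤ LinearMap.range sp := LinearMap.range_comp_le_range _ _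
    have h := Lat.idx_mono hC (hlat c hc) ((hlat c hc).mono hfg hle) hle
    rw [Lat.relLen_eq_length_quot sp (L c) _ (LinearMap.range (stL c x)) (fun t => ?_) rfl,
      ← length_cokernel_stalk] at h
    · exact eq_sub_of_add_eq' h.symm
    · exact ⟨fun ⟨m, hm⟩ => ⟨m, hspinj hm⟩, fun ⟨m, hm⟩ => ⟨m, congrArg sp hm⟩⟩
  have hLb : L b = (L a).map (Lat.mulMap (A := X.presheaf.stalk x) (f : X.residueField g.val)) := by
    refine Eq.trans (congrArg LinearMap.range ?_) (LinearMap.range_comp _ _)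
    refine LinearMap.ext fun m => ?_
    show e₀ (specHom O g.sp (stL b x m)) = f * e₀ (specHom O g.sp (stL a x m))
    rw [show specHom O g.sp (stL b x m) = stL b g.val (specHom J g.sp m) from specHom_natural b g.sp m,
      show specHom O g.sp (stL a x m) = stL a g.val (specHom J g.sp m) from specHom_natural a g.sp m,
      ← (hlev g.val hξ).2.2, hφ]
    exact e₀.apply_symm_apply _
  rw [hlen b (hlev g.val hξ).2.1.2, hlen a (hlev g.val hξ).1.2, hLb,
    Lat.idx_mul hC (hlat a (hlev g.val hξ).1.2) hf, ordI_eq_ordAt hδ hx g hf]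
  ring

theorem sheafFun_sigma {ι : Type u} (C : ι → X.Modules) (x : X) (s : Finset ι)
    (hs : ∀ i ∉ s, x ∉ CohB1.support (C i))
    (hfin : ∀ i, δ x = k → Module.length (X.presheaf.stalk x) ((C i).presheaf.stalk x) ≠ ⊤) :
    Cyc.sheafFun δ k (∐ C) x = ∑ i ∈ s, Cyc.sheafFun δ k (C i) x := by
  by_cases hx : δ x = k
  · simp only [Cyc.sheafFun, if_pos hx]
    rw [← Nat.cast_sum, ← ENat.toNat_sum fun i _ => hfin i hx]
    exact congrArg (fun t : ℕ∞ => (t.toNat : ℤ)) (length_stalk_sigma C x s hs)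
  · simp only [Cyc.sheafFun, if_neg hx, Finset.sum_const_zero]

/-- Cycles rationally equivalent to zero vanish in the quotient. -/
theorem q_pos_eq_neg (hX : Cyc.IsSetup X δ) {α : AlgebraicCycle X ℤ} (hα : α ∈ Cyc.Zk X δ k)
    (h0 : Cyc.RatEquivZero δ k α) :
    q δ (k + 1) (k - 1) (Cyc.cycleSheafPos ⇑α) = q δ (k + 1) (k - 1) (Cyc.cycleSheafNeg ⇑α) := by
  classical
  obtain ⟨ι, ξ, f, hξ, hf, hlfξ, hα'⟩ := h0
  have hδ := hX.2.2
  choose O J a b ha hb hO hJ hsupp hCa hCb hdiv using fun i => exists_pair hδ (hξ i) (hf i)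
  have hlfO : K0Sub.LF O := by
    refine ⟨fun i => (hO i).1, fun p => ?_⟩
    obtain ⟨U, hU, hp, hfin⟩ := hlfξ p
    refine ⟨U, hU.mem_nhds hp, hfin.subset ?_⟩
    rintro i ⟨y, hy, hyU⟩
    exact ⟨y, hsupp i hy, hyU⟩
  have hlfJ : K0Sub.LF J := hlfO.of_subset (fun i => (hJ i).1) fun i => by
    haveI := ha i
    exact QCoh.support_subset_of_mono (a i)
  have hle : ∀ {n : ℤ} (G : ι → X.Modules), K0Sub.LF G → (∀ i, Cyc.CohLe δ n (G i)) →
      Cyc.CohLe δ n (∐ G) := fun {n} G hG hGn => ⟨hG.isCoh_sigma, fun x hx => by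
    obtain ⟨i, hi⟩ := Set.mem_iUnion.1 (K0Sub.support_sigma_subset _ (CycBasic.nontrivial_iff_mem_support.1 hx))
    exact (hGn i).2 x (CycBasic.nontrivial_iff_mem_support.2 hi)⟩
  have hlfA : K0Sub.LF fun i => cokernel (a i) :=
    hlfO.of_subset (fun i => (hCa i).1) fun i => QCoh.support_subset_of_epi (cokernel.π (a i))
  have hlfB : K0Sub.LF fun i => cokernel (b i) :=
    hlfO.of_subset (fun i => (hCb i).1) fun i => QCoh.support_subset_of_epi (cokernel.π (b i))
  have hA := hle _ hlfA hCa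
  have hB := hle _ hlfB hCb
  haveI := ha
  haveI := hb
  obtain ⟨w, hsa⟩ := K0Sub.shortExact_sigma_coker a
  obtain ⟨w', hsb⟩ := K0Sub.shortExact_sigma_coker b
  have ea := q_add (b := k - 1) hsa (hle J hlfJ hJ) (hle O hlfO hO) (cohLe_mono (by omega) hA)
  have eb := q_add (b := k - 1) hsb (hle J hlfJ hJ) (hle O hlfO hO) (cohLe_mono (by omega) hB)
  have e : q δ (k + 1) (k - 1) (∐ fun i => cokernel (b i)) = q δ (k + 1) (k - 1) (∐ fun i => cokernel (a i)) :=
    (add_left_cancel (ea.symm.trans eb)).symm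
  have hfun : Cyc.sheafFun δ k (∐ fun i => cokernel (b i)) - Cyc.sheafFun δ k (∐ fun i => cokernel (a i)) = ⇑α := by
    funext x
    obtain ⟨U, hU, hxU, hfin⟩ := hlfξ x
    have hs : ∀ i ∉ hfin.toFinset, x ∉ closure {ξ i} := fun i hi h => hi (hfin.mem_toFinset.2 ⟨x, h, hxU⟩)
    have hlen : ∀ {G : X.Modules}, Cyc.CohLe δ k G → δ x = k →
        Module.length (X.presheaf.stalk x) (G.presheaf.stalk x) ≠ ⊤ := fun hG hx =>
      (CycBasic.length_lt_top_of_maximal hG.1 (maximal_of_le hδ hG.2 hx)).ne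
    rw [Pi.sub_apply,
      sheafFun_sigma _ x hfin.toFinset (fun i hi h => hs i hi (hsupp i (QCoh.support_subset_of_epi (cokernel.π (b i)) h)))
        fun i hx => hlen (hCb i) hx,
      sheafFun_sigma _ x hfin.toFinset (fun i hi h => hs i hi (hsupp i (QCoh.support_subset_of_epi (cokernel.π (a i)) h)))
        fun i hx => hlen (hCa i) hx,
      ← Finset.sum_sub_distrib, hα', finsum_eq_sum_of_support_subset _ (s := hfin.toFinset) (fun i hi => by
        by_contra h
        exact hs i h (specializes_iff_mem_closure.1 (C1.divFun_ne_zero hi).1))]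
    exact Finset.sum_congr rfl fun i _ => hdiv i x
  have h := q_sub_eq (a := k + 1) (b := k - 1) hX (by omega) le_rfl hB hA hfun
  rwa [e, sub_self, eq_comm, sub_eq_zero] at h

end GrothLib.PBDeg.K0Cyc

end
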