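import Groth.Agent.Lib.PBDeg17.Levels
import Groth.Agent.Lib.CycAff.Affine
import Mathlib.RingTheory.MvPolynomial.Localization

/-!
# The cycle classes of a fibre of a projective bundle
-/

set_option autoImplicit false
set_option backward.isDefEq.respectTransparency false
set_option linter.style.haveILetI false

universe u

open CategoryTheory AlgebraicGeometry TopologicalSpace Opposite IsLocalRing
open GrothLib.Ref1 GrothLib.C1

noncomputable section

namespace GrothLib.PBDeg

variable {m : ℕ} {X P : Scheme.{u}} {p : P ⟶ X} {L : P.Modules} {z : X} (C : Chart p L m z)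

theorem Chart.van_of_specializes {ξ w : P} (h : ξ ⤳ w) (hw : p w = z) (j : Fin (m + 1)) (hv : C.Van j ξ) :
    C.Van j w := by
  obtain ⟨i, q, rfl⟩ := C.exists_of_mem hw
  obtain ⟨q₀, rfl⟩ := h.mem_open (C.c i).isOpenEmbedding.isOpen_range ⟨q, rfl⟩
  exact (C.van_iff i j q).2 ((specializes_iff (C.c i)).1 h ((C.van_iff i j q₀).1 hv))

theorem Chart.not_van_all {y : P} (hy : p y = z) : ∃ j, ¬ C.Van j y := by
  by_contra h
  push Not at h
  obtain ⟨i, q, rfl⟩ := C.exists_of_mem hy
  exact C.notMem_of_van (J := Finset.univ) (fun j _ => h j) (Finset.mem_univ i)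

/-- The variables left on the open stratum of a linear subspace. -/
abbrev Rest (J : Finset (Fin (m + 1))) (i : Fin (m + 1)) : Type := {j : Fin (m + 1) // j ∉ insert i J}

/-- The coordinate ring of the open stratum of a linear subspace, before localisation. -/
abbrev Chart.Res : Type u := Γ(X, C.U) ⧸ C.prime

/-- Reduction to the open stratum. -/
def Chart.red (J : Finset (Fin (m + 1))) (i : Fin (m + 1)) :
    Dh Γ(X, C.U) i →+* MvPolynomial (Rest J i) C.Res :=
  MvPolynomial.eval₂Hom ((MvPolynomial.C).comp (Ideal.Quotient.mk C.prime))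
    fun j => if h : j.1 ∈ J then 0 else
      MvPolynomial.X ⟨j.1, fun h' => (Finset.mem_insert.1 h').elim j.2 h⟩

theorem Chart.rename_red (J : Finset (Fin (m + 1))) (i : Fin (m + 1)) :
    ((MvPolynomial.rename (R := C.Res) (Subtype.val : Rest J i → Fin (m + 1))).toRingHom).comp (C.red J i) =
      C.ev J i := by
  refine MvPolynomial.ringHom_ext (fun r => ?_) fun j => ?_
  · simp [Chart.red, Chart.ev]
  · simp only [RingHom.comp_apply, Chart.red, Chart.ev, MvPolynomial.eval₂Hom_X']
    split_ifs with h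
    · exact map_zero _
    · exact MvPolynomial.rename_X _ _

theorem Chart.ker_red (J : Finset (Fin (m + 1))) {i : Fin (m + 1)} (hi : i ∉ J) :
    RingHom.ker (C.red J i) = C.lin J i := by
  rw [← C.ker_ev J hi, ← C.rename_red J i]
  ext f
  simp only [RingHom.mem_ker, RingHom.comp_apply]
  exact (map_eq_zero_iff _ (MvPolynomial.rename_injective _ Subtype.val_injective)).symm

theorem Chart.red_surjective (J : Finset (Fin (m + 1))) (i : Fin (m + 1)) : Function.Surjective (C.red J i) := by
  intro f
  induction f using MvPolynomial.induction_on with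
  | C a =>
    obtain ⟨r, rfl⟩ := Ideal.Quotient.mk_surjective a
    exact ⟨MvPolynomial.C r, by simp [Chart.red]⟩
  | add a b ha hb =>
    obtain ⟨a, rfl⟩ := ha
    obtain ⟨b, rfl⟩ := hb
    exact ⟨a + b, map_add _ _ _⟩
  | mul_X a j ha =>
    obtain ⟨a, rfl⟩ := ha
    refine ⟨a * MvPolynomial.X ⟨j.1, fun h => j.2 (Finset.mem_insert.2 (Or.inl h))⟩, ?_⟩
    rw [map_mul]
    congr 1
    simp only [Chart.red, MvPolynomial.eval₂Hom_X']
    rw [dif_neg fun h => j.2 (Finset.mem_insert.2 (Or.inr h))]

/-- The residue field at the point, as a fraction field. -/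
abbrev Chart.Fld : Type u := FractionRing C.Res

/-- The open stratum of a linear subspace of the fibre. -/
def Chart.emb (J : Finset (Fin (m + 1))) (i : Fin (m + 1)) :
    Spec (CommRingCat.of (MvPolynomial (Rest J i) C.Fld)) ⟶ P :=
  (Spec.map (CommRingCat.ofHom (MvPolynomial.map (algebraMap C.Res C.Fld))) ≫
    Spec.map (CommRingCat.ofHom (C.red J i))) ≫ C.c i

instance Chart.isPreimmersion_emb (J : Finset (Fin (m + 1))) (i : Fin (m + 1)) : IsPreimmersion (C.emb J i) := by
  haveI : IsClosedImmersion (Spec.map (CommRingCat.ofHom (C.red J i))) :=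
    IsClosedImmersion.spec_of_surjective _ (C.red_surjective J i)
  haveI : IsPreimmersion (Spec.map (CommRingCat.ofHom
      (MvPolynomial.map (σ := Rest J i) (algebraMap C.Res C.Fld)))) := by
    letI := MvPolynomial.algebraMvPolynomial (σ := Rest J i) (R := C.Res) (S := C.Fld)
    exact IsPreimmersion.of_isLocalization (S := MvPolynomial (Rest J i) C.Fld)
      ((nonZeroDivisors C.Res).map (MvPolynomial.C (σ := Rest J i)))
  unfold Chart.emb
  infer_instance

theorem Chart.range_emb (J : Finset (Fin (m + 1))) {i : Fin (m + 1)} (hi : i ∉ J) (hL : PicF.IsInvertible L) (y : P) :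
    y ∈ Set.range (C.emb J i) ↔ p y = z ∧ (∀ j ∈ J, C.Van j y) ∧ ¬ C.Van i y := by
  letI := MvPolynomial.algebraMvPolynomial (σ := Rest J i) (R := C.Res) (S := C.Fld)
  constructor
  · rintro ⟨w, rfl⟩
    let w₀ : PrimeSpectrum (MvPolynomial (Rest J i) C.Res) :=
      ⟨w.asIdeal.comap (MvPolynomial.map (algebraMap C.Res C.Fld)), inferInstance⟩
    let q : PrimeSpectrum (Dh Γ(X, C.U) i) := ⟨w₀.asIdeal.comap (C.red J i), inferInstance⟩
    have he : C.emb J i w = C.c i q := rfl
    rw [he]
    refine ⟨(C.p_c_eq_iff i q).2 ?_, fun j hj => (C.van_iff i j q).2 ?_, fun h => ?_⟩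
    · ext r
      show MvPolynomial.map (algebraMap C.Res C.Fld) (C.red J i (MvPolynomial.C r)) ∈ w.asIdeal ↔ _
      rw [show C.red J i (MvPolynomial.C r) = MvPolynomial.C (Ideal.Quotient.mk C.prime r) by simp [Chart.red],
        MvPolynomial.map_C]
      refine ⟨fun h => Ideal.Quotient.eq_zero_iff_mem.1 (by_contra fun hr => ?_), fun h => ?_⟩
      · refine PrimeSpectrum.isPrime w |>.ne_top (Ideal.eq_top_of_isUnit_mem _ h ?_)
        exact (Ne.isUnit fun h0 => hr (IsFractionRing.injective C.Res C.Fld (h0.trans (map_zero _).symm))).map _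
      · rw [Ideal.Quotient.eq_zero_iff_mem.2 h, map_zero, map_zero]
        exact zero_mem _
    · show C.red J i (crd i j) ∈ w₀.asIdeal
      rw [show C.red J i (crd i j) = 0 from RingHom.mem_ker.1 ((C.ker_red J hi).ge ((C.crd_mem_lin J hi j).2 hj))]
      exact zero_mem _
    · exact q.2.ne_top ((Ideal.eq_top_iff_one _).2 (crd_self (R := Γ(X, C.U)) i ▸ (C.van_iff i i q).1 h))
  · rintro ⟨hy, hJ, hv⟩
    obtain ⟨q, rfl⟩ := C.range_of_not_van hL (C.mem_of_eq hy) hv
    have hle : RingHom.ker (C.red J i) ≤ q.asIdeal := (C.ker_red J hi).le.trans (C.lin_le J q hy hJ)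
    have hp : (q.asIdeal.map (C.red J i)).IsPrime := Ideal.map_isPrime_of_surjective (C.red_surjective J i) hle
    have hcomap : (q.asIdeal.map (C.red J i)).comap (C.red J i) = q.asIdeal := by
      rw [Ideal.comap_map_of_surjective _ (C.red_surjective J i), ← RingHom.ker_eq_comap_bot, sup_eq_left.2 hle]
    have hdisj : Disjoint (((nonZeroDivisors C.Res).map (MvPolynomial.C (σ := Rest J i))) :
        Set (MvPolynomial (Rest J i) C.Res)) ↑(q.asIdeal.map (C.red J i)) := by
      refine Set.disjoint_left.2 ?_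
      rintro _ ⟨a, ha, rfl⟩ h
      obtain ⟨r, rfl⟩ := Ideal.Quotient.mk_surjective a
      have : MvPolynomial.C r ∈ q.asIdeal := by
        rw [← hcomap, Ideal.mem_comap]
        simpa [Chart.red] using h
      exact nonZeroDivisors.ne_zero ha (Ideal.Quotient.eq_zero_iff_mem.2 (((C.p_c_eq_iff i q).1 hy).le this))
    refine ⟨⟨_, IsLocalization.isPrime_of_isPrime_disjoint
      ((nonZeroDivisors C.Res).map (MvPolynomial.C (σ := Rest J i))) (MvPolynomial (Rest J i) C.Fld) _ hp hdisj⟩, ?_⟩
    refine congrArg (C.c i) (PrimeSpectrum.ext ?_)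
    show Ideal.comap (C.red J i) (Ideal.comap (MvPolynomial.map (algebraMap C.Res C.Fld)) _) = q.asIdeal
    rw [show (MvPolynomial.map (algebraMap C.Res C.Fld) : MvPolynomial (Rest J i) C.Res →+* _) =
      algebraMap (MvPolynomial (Rest J i) C.Res) (MvPolynomial (Rest J i) C.Fld) from rfl]
    exact (congrArg (Ideal.comap (C.red J i)) (IsLocalization.comap_map_of_isPrime_disjoint _ _ hp hdisj)).trans hcomap

theorem killed_poly (K : Type u) [Field K] (σ : Type) [Fintype σ] :
    CycAff.Killed (Spec (CommRingCat.of (MvPolynomial σ K))) :=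
  CycAff.killed_congr (MvPolynomial.renameEquiv K (Fintype.equivFin σ)).toRingEquiv
    (CycAff.killed_mvPolynomial K (Fintype.card σ))

theorem isNoetherianRing_poly (K : Type u) [Field K] (σ : Type) [Finite σ] : IsNoetherianRing (MvPolynomial σ K) :=
  MvPolynomial.isNoetherianRing

/-- Restrictions to a fibre of principal divisors of functions on points of the fibre. -/
def FibDiv (p : P ⟶ X) (δP : P → ℤ) (z : X) (n : ℤ) : AddSubgroup (P → ℤ) :=
  AddSubgroup.closure {a | ∃ (ξ : P) (g : P.residueField ξ), p ξ = z ∧ δP ξ = n + 1 ∧ g ≠ 0 ∧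
    a = (p ⁻¹' {z}).indicator (Cyc.divFun δP ξ g)}

theorem eq_sum_pt {a : P → ℤ} {s : Finset P} (h : ∀ w, a w ≠ 0 → w ∈ s) : a = ∑ w ∈ s, a w • CycAff.pt w := by
  funext w
  rw [Finset.sum_apply]
  by_cases hw : w ∈ s
  · rw [Finset.sum_eq_single_of_mem w hw fun b _ hb => by
      rw [Pi.smul_apply, CycAff.pt_ne (Ne.symm hb), smul_zero]]
    simp [CycAff.pt_self]
  · rw [show a w = 0 from by_contra fun h' => hw (h w h'), Finset.sum_eq_zero fun b hb => by
      rw [Pi.smul_apply, CycAff.pt_ne (show w ≠ b from fun e => hw (e.symm ▸ hb)), smul_zero]]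

variable [IsLocallyNoetherian X] [IsLocallyNoetherian P] [IsProper p] {δX : X → ℤ} {δP : P → ℤ}

omit [IsLocallyNoetherian X] [IsLocallyNoetherian P] in
include C in
theorem Chart.finite_fibre_support {a : P → ℤ} (ha : LF a) : {w | p w = z ∧ a w ≠ 0}.Finite :=
  ((toCycle a ha).locallyFiniteSupport.finite_inter_support_of_isCompact
    (p.isSpectralMap.2 C.U.2 C.hU.isCompact)).subset fun _ hw => ⟨C.mem_of_eq hw.1, hw.2⟩

/-- Every point of the fibre is a multiple of a linear subspace, modulo divisors. -/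
theorem Chart.fibre_class (hδP : Cyc.IsDimFun P δP) (hδ : Cyc.DeltaCompat p δP δX) (hL : PicF.IsInvertible L)
    {n : ℤ} {s : ℕ} (hn : δX z + m = n + s) {y : P} (hy : p y = z) (hyn : δP y = n) :
    CycAff.pt y ∈ FibDiv p δP z n ⊔
      AddSubgroup.zmultiples (CycAff.pt (C.pt (coordSet m s) (zero_notMem_coordSet m s))) := by
  classical
  set G := FibDiv p δP z n ⊔
      AddSubgroup.zmultiples (CycAff.pt (C.pt (coordSet m s) (zero_notMem_coordSet m s)))
  suffices h : ∀ d t, t + d = m → ∀ w : P, p w = z → δP w = n → (∀ j ∈ coordSet m t, C.Van j w) →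
      CycAff.pt w ∈ G by
    refine h m 0 (zero_add m) y hy hyn fun j hj => ?_
    simp [coordSet] at hj
    omega
  intro d
  induction d using Nat.strong_induction_on with
  | _ d ih =>
    intro t htd w hw hwn hv
    let i : Fin (m + 1) := ⟨m - t, by omega⟩
    have hit : i ∉ coordSet m t := by
      simp only [coordSet, i, Finset.mem_filter, Finset.mem_univ, true_and]
      omega
    have hnext : ∀ v : P, p v = z → δP v = n → (∀ j ∈ coordSet m t, C.Van j v) → C.Van i v → CycAff.pt v ∈ G := by
      intro v hv1 hv2 hv3 hv4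
      rcases Nat.lt_or_ge t m with htm | htm
      · refine ih (d - 1) (by omega) (t + 1) (by omega) v hv1 hv2 fun j hj => ?_
        rw [← (coordSet_succ htm).1, Finset.mem_insert] at hj
        rcases hj with rfl | hj
        · exact hv4
        · exact hv3 j hj
      · obtain ⟨j, hj⟩ := C.not_van_all hv1
        refine absurd (?_ : C.Van j v) hj
        by_cases e : (j : ℕ) = 0
        · rwa [show j = i from Fin.ext (by simp only [i]; omega)]
        · refine hv3 j ?_
          simp only [coordSet, Finset.mem_filter, Finset.mem_univ, true_and]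
          exact ⟨by omega, e⟩
    by_cases hvi : C.Van i w
    · exact hnext w hw hwn hv hvi
    have hdpt := C.delta_pt hδ hδP hL (coordSet m t) hit
    rw [card_coordSet (by omega)] at hdpt
    by_cases he : w = C.pt (coordSet m t) hit
    · have hts : t = s := by rw [he, hdpt] at hwn; omega
      subst hts
      rw [he, C.pt_congr hL (coordSet m t) hit (zero_notMem_coordSet m t)]
      exact AddSubgroup.mem_sup_right (AddSubgroup.mem_zmultiples _)
    let j := C.emb (coordSet m t) i
    let F := Spec (CommRingCat.of (MvPolynomial (Rest (coordSet m t) i) C.Fld))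
    haveI hR : IsNoetherianRing (MvPolynomial (Rest (coordSet m t) i) C.Fld) := isNoetherianRing_poly _ _
    haveI : IsNoetherianRing (CommRingCat.of (MvPolynomial (Rest (coordSet m t) i) C.Fld) : Type u) := hR
    obtain ⟨v, hjv⟩ := (C.range_emb (coordSet m t) hit hL w).2 ⟨hw, hv, hvi⟩
    obtain ⟨g, hg⟩ := (C.range_emb (coordSet m t) hit hL _).2
      ⟨C.p_pt (coordSet m t) hit, fun j hj => (C.van_pt _ hit j).2 hj, mt (C.van_pt _ hit i).1 hit⟩
    have hgv : g ⤳ v := j.isEmbedding.isInducing.specializes_iff.1 (by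
      show C.emb (coordSet m t) i g ⤳ C.emb (coordSet m t) i v
      rw [hg, hjv]
      exact C.pt_specializes hL _ hit hw hv)
    have hF : Cyc.IsDimFun F (δP ∘ j) := CycPush.isDimFun_comp j hδP fun a b c ha hb => by
      obtain ⟨a1, a2, -⟩ := (C.range_emb (coordSet m t) hit hL _).1 ⟨a, rfl⟩
      obtain ⟨b1, -, b3⟩ := (C.range_emb (coordSet m t) hit hL _).1 ⟨b, rfl⟩
      have hc : p c = z := ((b1 ▸ hb.map p.continuous).antisymm (a1 ▸ ha.map p.continuous)).eq
      exact (C.range_emb (coordSet m t) hit hL _).2 ⟨hc, fun k hk => C.van_of_specializes ha hc k (a2 k hk),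
        fun h => b3 (C.van_of_specializes hb b1 i h)⟩
    have h1 := killed_poly C.Fld (Rest (coordSet m t) i) (δP ∘ j) hF v
      ⟨g, hgv, fun e => he (by rw [← hjv, ← e]; exact hg)⟩
    rw [show (δP ∘ j) v = n from (congrArg δP hjv).trans hwn] at h1
    obtain ⟨ι, _, ξ, f, k1, k2, k3, k4⟩ := CycAff.exists_push j hδP hF h1
    have hξ := fun a => (C.range_emb (coordSet m t) hit hL _).1 (k3 a)
    let A : P → ℤ := ∑ a, (p ⁻¹' {z}).indicator (Cyc.divFun δP (ξ a) (f a))
    have hA : A ∈ FibDiv p δP z n := AddSubgroup.sum_mem _ fun a _ =>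
      AddSubgroup.subset_closure ⟨ξ a, f a, (hξ a).1, k1 a, k2 a, rfl⟩
    let B : P → ℤ := A - CycAff.pt w
    have hB : ∀ u, B u ≠ 0 → p u = z ∧ δP u = n ∧ (∀ k ∈ coordSet m t, C.Van k u) ∧ C.Van i u := by
      intro u hu
      by_cases huw : u = w
      · subst huw
        refine absurd ?_ hu
        show A u - CycAff.pt u u = 0
        have := k4 v
        rw [hjv, CycAff.pt_self] at this
        simp only [A, Finset.sum_apply, Set.indicator_of_mem (show u ∈ p ⁻¹' {z} from hw), this, CycAff.pt_self,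
          sub_self]
      have hAu : A u ≠ 0 := fun h => hu (by show A u - CycAff.pt w u = 0; rw [h, CycAff.pt_ne huw, sub_zero])
      simp only [A, Finset.sum_apply] at hAu
      obtain ⟨a, -, ha⟩ := Finset.exists_ne_zero_of_sum_ne_zero hAu
      obtain ⟨huz, ha'⟩ : u ∈ p ⁻¹' {z} ∧ Cyc.divFun δP (ξ a) (f a) u ≠ 0 :=
        ⟨Set.mem_of_indicator_ne_zero ha, by rwa [Set.indicator_of_mem (Set.mem_of_indicator_ne_zero ha)] at ha⟩
      obtain ⟨hsp, hd⟩ := divFun_ne_zero ha'
      refine ⟨huz, by have := k1 a; omega, fun k hk => C.van_of_specializes hsp huz k ((hξ a).2.1 k hk), ?_⟩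
      by_contra hui
      obtain ⟨u', hu'⟩ := (C.range_emb (coordSet m t) hit hL u).2
        ⟨huz, fun k hk => C.van_of_specializes hsp huz k ((hξ a).2.1 k hk), hui⟩
      refine hAu ?_
      simp only [Set.indicator_of_mem huz]
      rw [← hu', k4 u', CycAff.pt_ne fun e => huw (by rw [← hu', e, hjv])]
    have hfin : {u | B u ≠ 0}.Finite := by
      refine (((Set.finite_iUnion fun a => C.finite_fibre_support (lf_divFun hδP (k2 a) (ξ := ξ a))).union
        (Set.finite_singleton w))).subset fun u hu => ?_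
      by_cases huw : u = w
      · exact Or.inr huw
      refine Or.inl ?_
      have hAu : A u ≠ 0 := fun h => hu (by show A u - CycAff.pt w u = 0; rw [h, CycAff.pt_ne huw, sub_zero])
      simp only [A, Finset.sum_apply] at hAu
      obtain ⟨a, -, ha⟩ := Finset.exists_ne_zero_of_sum_ne_zero hAu
      exact Set.mem_iUnion.2 ⟨a, (hB u hu).1, by rwa [Set.indicator_of_mem (Set.mem_of_indicator_ne_zero ha)] at ha⟩
    have hBG : B ∈ G := by
      rw [eq_sum_pt (s := hfin.toFinset) fun u hu => hfin.mem_toFinset.2 hu]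
      refine AddSubgroup.sum_mem _ fun u hu => AddSubgroup.zsmul_mem _ ?_ _
      obtain ⟨a1, a2, a3, a4⟩ := hB u (hfin.mem_toFinset.1 hu)
      exact hnext u a1 a2 a3 a4
    rw [show CycAff.pt w = A - B from (sub_sub_cancel A _).symm]
    exact sub_mem (AddSubgroup.mem_sup_left hA) hBG

end GrothLib.PBDeg
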