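import Groth.Agent.Lib.PBDeg17.Caps
import Groth.Agent.Lib.QCoh.SupportExact
import Groth.Agent.Lib.QCoh.PullbackSections
import Groth.Agent.Lib.Ref1.Powers

/-!
# The relation on the projective bundle of a filtered module
-/

set_option autoImplicit false
set_option backward.isDefEq.respectTransparency false
set_option linter.style.haveILetI false

universe u

open CategoryTheory AlgebraicGeometry TopologicalSpace IsLocalRing
open GrothLib.Ref1 GrothLib.C1 GrothLib.CycFlat GrothLib.QCoh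

noncomputable section

namespace GrothLib.PBDeg

variable {X P : Scheme.{u}} {p : P ⟶ X}

theorem stalkLin_sp {M N : X.Modules} (f : M ⟶ N) {x z : X} (h : z ⤳ x) (v : M.presheaf.stalk x) :
    sp N h (stalkLin f x v) = stalkLin f z (sp M h v) := by
  rw [← stalkMapₗ_eq_stalkLin, ← stalkMapₗ_eq_stalkLin]
  exact (stalkMapₗ_sp M f h v).symm

/-- The pullback stalk is generated by the pullback of germs. -/
theorem span_pullGerm (E : X.Modules) (y : P) :
    Submodule.span (P.presheaf.stalk y) (Set.range (pullGerm p E y)) = ⊤ := by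
  letI : Algebra (X.presheaf.stalk (p y)) (P.presheaf.stalk y) := (p.stalkMap y).hom.toAlgebra
  let e := ((stalkPullbackIso p y).app E).toLinearEquiv
  refine eq_top_iff.2 ?_
  rintro x -
  obtain ⟨z, rfl⟩ := e.symm.surjective x
  induction z using TensorProduct.induction_on with
  | zero => rw [map_zero]; exact zero_mem _
  | tmul r v =>
    obtain ⟨U, hU, s, rfl⟩ := TopCat.Presheaf.exists_germ_eq E.presheaf v
    have h1 : e (pullGerm p E y (E.presheaf.germ U (p y) hU s)) =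
        (1 : P.presheaf.stalk y) ⊗ₜ[X.presheaf.stalk (p y)] E.presheaf.germ U (p y) hU s := by
      rw [pullGerm_germ]
      exact stalkPullbackIso_germ p E hU s
    let r' : P.presheaf.stalk y := r
    have h2 : e.symm (r' ⊗ₜ[X.presheaf.stalk (p y)] E.presheaf.germ U (p y) hU s) =
        r' • pullGerm p E y (E.presheaf.germ U (p y) hU s) := by
      rw [LinearEquiv.symm_apply_eq, map_smul, h1]
      show r' ⊗ₜ[X.presheaf.stalk (p y)] _ = (r' * 1) ⊗ₜ[X.presheaf.stalk (p y)] _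
      rw [mul_one]
    change e.symm _ ∈ _
    rw [h2]
    exact Submodule.smul_mem _ _ (Submodule.subset_span ⟨_, rfl⟩)
  | add a b ha hb => rw [map_add]; exact add_mem ha hb

variable {E : X.Modules} {O : P.Modules} (q : (Scheme.Modules.pullback p).obj E ⟶ O)

/-- The composite of the pullback of germs with the quotient map. -/
def toQuot {M : X.Modules} (c : M ⟶ E) (y : P) : M.presheaf.stalk (p y) →+ O.presheaf.stalk y :=
  ((stalkLin q y).toAddMonoidHom).comp ((pullGerm p E y).comp (stalkLin c (p y)).toAddMonoidHom)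

theorem toQuot_apply {M : X.Modules} (c : M ⟶ E) (y : P) (v : M.presheaf.stalk (p y)) :
    toQuot q c y v = stalkLin q y (pullGerm p E y (stalkLin c (p y) v)) := rfl

theorem toQuot_smul {M : X.Modules} (c : M ⟶ E) (y : P) (a : X.presheaf.stalk (p y)) (v : M.presheaf.stalk (p y)) :
    toQuot q c y (a • v) = (p.stalkMap y).hom a • toQuot q c y v := by
  rw [toQuot_apply, toQuot_apply, map_smul, pullGerm_smul, map_smul]

theorem toQuot_sp {M : X.Modules} (c : M ⟶ E) {y ξ : P} (h : ξ ⤳ y) (v : M.presheaf.stalk (p y)) :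
    sp O h (toQuot q c y v) = toQuot q c ξ (sp M (h.map p.continuous) v) := by
  rw [toQuot_apply, toQuot_apply, stalkLin_sp, pullGerm_sp, stalkLin_sp]

/-- The locus where a submodule dies in the universal quotient. -/
def vanLocus {M : X.Modules} (c : M ⟶ E) : Set P :=
  {y | ∀ v : M.presheaf.stalk (p y), cls (toQuot q c y v) = (0 : Cyc.secFibre O y)}

theorem vanLocus_closed (hO : PicF.IsInvertible O) {M : X.Modules} (c : M ⟶ E) {y x : P} (h : y ⤳ x)
    (hy : y ∈ vanLocus q c) : x ∈ vanLocus q c := by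
  intro v
  by_contra hv
  have hg := gen_sp hO h (gen_of_cls_ne_zero hO hv)
  rw [toQuot_sp] at hg
  exact cls_ne_zero hg (hy _)

theorem vanLocus_mono {M M' : X.Modules} (c : M ⟶ E) (a : M' ⟶ M) {c' : M' ⟶ E} (hc : a ≫ c = c') :
    vanLocus q c ⊆ vanLocus q c' := fun y hy v => by
  subst hc
  rw [toQuot_apply, stalkLin_comp]
  exact hy (stalkLin a _ v)

theorem notMem_vanLocus (hO : PicF.IsInvertible O) [Epi q] {M : X.Modules} (c : M ⟶ E) [Epi c] (y : P) :
    y ∉ vanLocus q c := by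
  intro hy
  obtain ⟨g, hg⟩ := exists_gen hO y
  obtain ⟨w, rfl⟩ := stalkLin_surjective q y g
  apply cls_ne_zero hg
  clear hg
  have hw : w ∈ Submodule.span (P.presheaf.stalk y) (Set.range (pullGerm p E y)) := span_pullGerm (p := p) E y ▸ trivial
  induction hw using Submodule.span_induction with
  | mem x hx =>
    obtain ⟨v, rfl⟩ := hx
    obtain ⟨u, rfl⟩ := stalkLin_surjective c (p y) v
    exact hy u
  | zero => rw [map_zero]; rfl
  | add a b _ _ ha hb =>
    rw [map_add]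
    show cls (stalkLin q y a) + cls (stalkLin q y b) = 0
    rw [ha, hb, add_zero]
  | smul r a _ ha =>
    rw [map_smul]
    show r • cls (stalkLin q y a) = 0
    rw [ha, smul_zero]

variable {M M' L : X.Modules} (c' : M' ⟶ E) {a : M ⟶ M'} {b : M' ⟶ L} {hab : a ≫ b = 0}
  (hex : (ShortComplex.mk a b hab).ShortExact)

include hex in
theorem toQuot_congr {y : P} (hy : y ∈ vanLocus q (a ≫ c')) {v w : M'.presheaf.stalk (p y)}
    (h : stalkLin b (p y) v = stalkLin b (p y) w) :
    cls (toQuot q c' y v) = (cls (toQuot q c' y w) : Cyc.secFibre O y) := by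
  have he := ((OX.exact_iff _).1 hex.exact (p y))
  rw [ShortComplex.moduleCat_exact_iff] at he
  obtain ⟨e, he'⟩ := he (v - w) (by
    show stalkLin b (p y) (v - w) = 0
    rw [map_sub, h, sub_self])
  have h1 := hy e
  rw [toQuot_apply, stalkLin_comp] at h1
  have h2 : stalkLin a (p y) e = v - w := he'
  rw [h2] at h1
  have h3 : cls (toQuot q c' y v) - (cls (toQuot q c' y w) : Cyc.secFibre O y) = 0 := by
    rw [← Submodule.Quotient.mk_sub, ← map_sub]
    exact h1
  exact sub_eq_zero.1 h3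

include hex in
theorem gen_quot (hL : PicF.IsInvertible L) (hO : PicF.IsInvertible O) {y : P} (hy : y ∈ vanLocus q (a ≫ c'))
    {v : M'.presheaf.stalk (p y)} (hv : cls (toQuot q c' y v) ≠ (0 : Cyc.secFibre O y)) :
    Gen L (p y) (stalkLin b (p y) v) := by
  refine gen_of_cls_ne_zero hL fun h => hv ?_
  haveI := hex.epi_g
  obtain ⟨g, hg⟩ := exists_gen hL (p y)
  obtain ⟨g', hg'⟩ := stalkLin_surjective b (p y) g
  obtain ⟨r, hr⟩ := hg.2 (stalkLin b (p y) v)
  dsimp only at hr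
  have hrm : ¬ IsUnit r := fun hu => cls_ne_zero (gen_smul_unit hg hu) (by rw [hr]; exact h)
  rw [toQuot_congr q c' hex hy (w := r • g') (by rw [map_smul, hg', hr]), toQuot_smul]
  refine (Submodule.Quotient.mk_eq_zero _).2 (Submodule.smul_mem_smul ?_ trivial)
  exact fun hu => hrm (isUnit_of_map_unit _ _ hu)

include hex in
/-- Rational sections of the two line bundles which agree off the next locus. -/
theorem exists_matched (hL : PicF.IsInvertible L) (hO : PicF.IsInvertible O) [IsLocallyNoetherian P] {δ : P → ℤ}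
    (hδ : Cyc.IsDimFun P δ) :
    ∃ (u : (ξ : P) → Cyc.secFibre O ξ) (w : (ξ : P) → Cyc.secFibre ((Scheme.Modules.pullback p).obj L) ξ),
      (∀ ξ, u ξ ≠ 0) ∧ (∀ ξ, w ξ ≠ 0) ∧ ∀ ξ y, ξ ∈ vanLocus q (a ≫ c') → y ∉ vanLocus q c' →
        Cyc.secDivFun δ O ξ (u ξ) y = Cyc.secDivFun δ ((Scheme.Modules.pullback p).obj L) ξ (w ξ) y := by
  classical
  have hN := isInvertible_pullback p hL
  obtain ⟨u0, hu0⟩ := exists_sec hO
  obtain ⟨w0, hw0⟩ := exists_sec hN
  have hc : ∀ ξ : P, ∃ (u : Cyc.secFibre O ξ) (w : Cyc.secFibre ((Scheme.Modules.pullback p).obj L) ξ),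
      u ≠ 0 ∧ w ≠ 0 ∧ (ξ ∈ vanLocus q (a ≫ c') → ξ ∉ vanLocus q c' → ∃ v : M'.presheaf.stalk (p ξ),
        u = cls (toQuot q c' ξ v) ∧ w = cls (pullGerm p L ξ (stalkLin b (p ξ) v))) := by
    intro ξ
    by_cases h : ξ ∈ vanLocus q (a ≫ c') ∧ ξ ∉ vanLocus q c'
    · obtain ⟨v, hv⟩ := not_forall.1 h.2
      exact ⟨_, _, hv, cls_ne_zero (gen_pullGerm p hL (gen_quot q c' hex hL hO h.1 hv)), fun _ _ => ⟨v, rfl, rfl⟩⟩
    · exact ⟨u0 ξ, w0 ξ, hu0 ξ, hw0 ξ, fun h1 h2 => absurd ⟨h1, h2⟩ h⟩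
  choose u w hu hw huw using hc
  refine ⟨u, w, hu, hw, fun ξ y hξ hy => ?_⟩
  by_cases hs : ξ ⤳ y ∧ δ y + 1 = δ ξ
  swap
  · rw [Cyc.secDivFun, Cyc.secDivFun, dif_neg hs, dif_neg hs]
  obtain ⟨h, hd⟩ := hs
  obtain ⟨n, hn⟩ := not_forall.1 hy
  have hy1 : y ∈ vanLocus q (a ≫ c') := vanLocus_closed q hO _ h hξ
  have hgO := gen_of_cls_ne_zero hO hn
  have hgL := gen_quot q c' hex hL hO hy1 hn
  have hξ' : ξ ∉ vanLocus q c' := fun h' => hy (vanLocus_closed q hO _ h h')
  obtain ⟨v, hv1, hv2⟩ := huw ξ hξ hξ'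
  have hgξ : Gen O ξ (toQuot q c' ξ (sp M' (h.map p.continuous) n)) := by
    rw [← toQuot_sp]
    exact gen_sp hO h hgO
  have hgLξ : Gen L (p ξ) (stalkLin b (p ξ) (sp M' (h.map p.continuous) n)) := by
    rw [← stalkLin_sp]
    exact gen_sp hL _ hgL
  obtain ⟨r, hr⟩ := hgLξ.2 (stalkLin b (p ξ) v)
  dsimp only at hr
  have e1 : u ξ = (p.stalkMap ξ).hom r • cls (toQuot q c' ξ (sp M' (h.map p.continuous) n)) := by
    rw [hv1, toQuot_congr q c' hex hξ (w := r • sp M' (h.map p.continuous) n) (by rw [map_smul, hr]), toQuot_smul]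
    rfl
  have e2 : w ξ = (p.stalkMap ξ).hom r • cls (pullGerm p L ξ (stalkLin b (p ξ) (sp M' (h.map p.continuous) n))) := by
    rw [hv2, ← hr, pullGerm_smul]
    rfl
  rw [secDivFun_eq hδ hO h hd hgO, secDivFun_eq hδ hN h hd (gen_pullGerm p hL hgL), e1, e2, toQuot_sp, pullGerm_sp,
    stalkLin_sp, coord_smul_cls hgξ, coord_smul_cls (gen_pullGerm p hL hgLξ)]

include hex in
/-- The difference of the two first Chern classes moves supported classes into the next locus. -/
theorem exists_next_locus (hL : PicF.IsInvertible L) (hO : PicF.IsInvertible O) [IsLocallyNoetherian P] {δ : P → ℤ}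
    (hδ : Cyc.IsDimFun P δ) {f : P → ℤ} (hlf : LF f) (hf : ∀ ξ, f ξ ≠ 0 → ξ ∈ vanLocus q (a ≫ c')) :
    ∃ (u : (ξ : P) → Cyc.secFibre O ξ) (w : (ξ : P) → Cyc.secFibre ((Scheme.Modules.pullback p).obj L) ξ),
      (∀ ξ, u ξ ≠ 0) ∧ (∀ ξ, w ξ ≠ 0) ∧ ∀ y, (Cyc.c1CapFun δ O f u y -
        Cyc.c1CapFun δ ((Scheme.Modules.pullback p).obj L) f w y) ≠ 0 → y ∈ vanLocus q c' := by
  obtain ⟨u, w, hu, hw, h⟩ := exists_matched q c' hex hL hO hδ
  refine ⟨u, w, hu, hw, fun y hy => by_contra fun hn => hy ?_⟩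
  rw [Cyc.c1CapFun, Cyc.c1CapFun, sub_eq_zero]
  refine finsum_congr fun ξ => ?_
  by_cases hξ : f ξ = 0
  · rw [hξ, zero_mul, zero_mul]
  · rw [h ξ y (hf ξ hξ) hn]

end GrothLib.PBDeg
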