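import Groth.Agent.Lib.PBDeg17.Roots
import Groth.Agent.Lib.OX.Tensor
import Groth.Agent.Lib.OX.TensorCx
import Groth.Agent.Lib.OX.PullbackTensor
import Groth.Agent.Lib.OX.LocFreeTensor
import Groth.Agent.Lib.Euler.TensorSupport

/-!
# Operations on filtrations with invertible quotients and their roots
-/

set_option autoImplicit false
set_option backward.isDefEq.respectTransparency false
set_option linter.style.haveILetI false

universe u

open CategoryTheory CategoryTheory.Limits AlgebraicGeometry TopologicalSpace Polynomial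
open GrothLib.C1

noncomputable section

namespace GrothLib.PBDeg

variable {P : Scheme.{u}} [IsLocallyNoetherian P] {δP : P → ℤ} (hP : Cyc.IsDimFun P δP)

/-- A filtration with invertible quotients of Chern roots `x`. -/
def HasRoots (r : ℕ) (V : P.Modules) (x : ℕ → C1Ring hP) : Prop :=
  ∃ M L : ℕ → P.Modules, IsZero (M 0) ∧ Nonempty (M r ≅ V) ∧ (∀ j < r, InvSeq (M j) (M (j + 1)) (L j)) ∧
    ∀ j < r, root hP L j = x j

theorem root_congr {L L' : ℕ → P.Modules} {i j : ℕ} (h : L i = L' j) : root hP L i = root hP L' j := by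
  unfold root
  generalize L' j = A at h ⊢
  subst h
  rfl

theorem Flag.hasRoots {r : ℕ} {V : P.Modules} (h : Flag r V) : ∃ x, HasRoots hP r V x := by
  obtain ⟨M, L, h0, he, hs⟩ := h
  exact ⟨root hP L, M, L, h0, he, hs, fun _ _ => rfl⟩

variable {hP}

theorem HasRoots.of_iso {r : ℕ} {V V' : P.Modules} {x : ℕ → C1Ring hP} (h : HasRoots hP r V x) (e : V ≅ V') :
    HasRoots hP r V' x := by
  obtain ⟨M, L, h0, ⟨e'⟩, hs, hx⟩ := h
  exact ⟨M, L, h0, ⟨e' ≪≫ e⟩, hs, hx⟩

theorem HasRoots.congr {r : ℕ} {V : P.Modules} {x y : ℕ → C1Ring hP} (h : HasRoots hP r V x)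
    (hxy : ∀ j < r, y j = x j) : HasRoots hP r V y := by
  obtain ⟨M, L, h0, he, hs, hx⟩ := h
  exact ⟨M, L, h0, he, hs, fun j hj => (hx j hj).trans (hxy j hj).symm⟩

theorem hasRoots_zero {V : P.Modules} (h : IsZero V) (x : ℕ → C1Ring hP) : HasRoots hP 0 V x :=
  ⟨fun _ => V, fun _ => V, h, ⟨Iso.refl _⟩, fun j hj => absurd hj (Nat.not_lt_zero j),
    fun j hj => absurd hj (Nat.not_lt_zero j)⟩

theorem HasRoots.isZero {V : P.Modules} {x : ℕ → C1Ring hP} (h : HasRoots hP 0 V x) : IsZero V := by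
  obtain ⟨M, L, h0, ⟨e⟩, -, -⟩ := h
  exact h0.of_iso e.symm

theorem HasRoots.succ {r : ℕ} {K V L₀ : P.Modules} {x : ℕ → C1Ring hP} (h : HasRoots hP r K x)
    (hs₀ : InvSeq K V L₀) (hx₀ : x r = c1R hP hs₀.1) : HasRoots hP (r + 1) V x := by
  obtain ⟨M, L, h0, ⟨e⟩, hs, hx⟩ := h
  refine ⟨fun n => if n ≤ r then M n else V, fun n => if n < r then L n else L₀, ?_, ?_, fun j hj => ?_, fun j hj => ?_⟩
  · show IsZero (if 0 ≤ r then M 0 else V)
    rwa [if_pos (Nat.zero_le r)]
  · exact ⟨eqToIso (if_neg (by omega))⟩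
  · show InvSeq (if j ≤ r then M j else V) (if j + 1 ≤ r then M (j + 1) else V) (if j < r then L j else L₀)
    rcases Nat.lt_or_ge j r with h | h
    · rw [if_pos h.le, if_pos (show j + 1 ≤ r by omega), if_pos h]
      exact hs j h
    · obtain rfl : j = r := by omega
      rw [if_pos le_rfl, if_neg (show ¬ j + 1 ≤ j by omega), if_neg (lt_irrefl j)]
      exact hs₀.of_iso e.symm (Iso.refl _)
  · rcases Nat.lt_or_ge j r with h | h
    · rw [← hx j h]
      exact root_congr hP (if_pos h)
    · obtain rfl : j = r := by omega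
      rw [hx₀, root_congr hP (L' := fun _ => L₀) (j := j) (if_neg (lt_irrefl j))]
      exact dif_pos hs₀.1

theorem hasRoots_invertible {L : P.Modules} (hL : PicF.IsInvertible L) :
    HasRoots hP 1 L (fun _ => c1R hP hL) := by
  obtain ⟨Z, hZ⟩ := (HasZeroObject.zero (C := P.Modules))
  refine (hasRoots_zero hZ _).succ (L₀ := L) ⟨hL, (0 : Z ⟶ L), 𝟙 L, by simp, ?_⟩ rfl
  haveI : Mono (0 : Z ⟶ L) := ⟨fun _ _ _ => hZ.eq_of_tgt _ _⟩
  exact { exact := ShortComplex.exact_of_f_is_kernel _ (KernelFork.IsLimit.ofMonoOfIsZero _ inferInstance hZ) }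

/-- Roots of an extension. -/
theorem HasRoots.ext {r₁ : ℕ} : ∀ {r₂ : ℕ} {A B C : P.Modules} {z : ℕ → C1Ring hP} (a : A ⟶ B) (b : B ⟶ C)
    (hab : a ≫ b = 0), (ShortComplex.mk a b hab).ShortExact → HasRoots hP r₁ A z →
    HasRoots hP r₂ C (fun i => z (r₁ + i)) → HasRoots hP (r₁ + r₂) B z := by
  intro r₂
  induction r₂ with
  | zero =>
    intro A B C z a b hab hS hA hC
    haveI := hS.mono_f
    haveI : Epi a := hS.exact.epi_f (hC.isZero.eq_of_tgt _ _)
    haveI : IsIso a := isIso_of_mono_of_epi a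
    exact hA.of_iso (asIso a)
  | succ r₂ ih =>
    intro A B C z a b hab hS hA hC
    obtain ⟨M, L, h0, ⟨e⟩, hs, hx⟩ := hC
    obtain ⟨hL, a', b', hab', hS'⟩ := hs r₂ (Nat.lt_succ_self _)
    haveI := hS.mono_f
    haveI : Epi b := hS.epi_g
    haveI : Mono a' := hS'.mono_f
    haveI : Epi b' := hS'.epi_g
    let K := Limits.pullback b (a' ≫ e.hom)
    haveI : Mono (a' ≫ e.hom) := mono_comp _ _
    let i : A ⟶ K := pullback.lift a 0 (by simp [hab])
    let k : K ⟶ M r₂ := pullback.snd b (a' ≫ e.hom)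
    haveI : Mono i := mono_of_mono_fac (show i ≫ pullback.fst b (a' ≫ e.hom) = a from pullback.lift_fst _ _ _)
    have hik : i ≫ k = 0 := pullback.lift_snd _ _ _
    have hS1 : (ShortComplex.mk i k hik).ShortExact :=
      { exact := ShortComplex.exact_of_f_is_kernel _ (KernelFork.IsLimit.ofι' i hik fun {W} g hg => by
          have hgb : (g ≫ pullback.fst b (a' ≫ e.hom)) ≫ b = 0 := by
            rw [Category.assoc, pullback.condition, ← Category.assoc, hg, Limits.zero_comp]
          obtain ⟨l, hl⟩ := KernelFork.IsLimit.lift' hS.fIsKernel _ hgb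
          refine ⟨l, pullback.hom_ext ?_ ?_⟩
          · rw [Category.assoc, pullback.lift_fst]
            exact hl
          · rw [Category.assoc, pullback.lift_snd, Limits.comp_zero]
            exact hg.symm) }
    have hK : HasRoots hP (r₁ + r₂) K z := ih i k hik hS1 hA
      ⟨M, L, h0, ⟨Iso.refl _⟩, fun j hj => hs j (Nat.lt_succ_of_lt hj), fun j hj => hx j (Nat.lt_succ_of_lt hj)⟩
    have hK' : InvSeq K B (L r₂) := by
      have hz : pullback.fst b (a' ≫ e.hom) ≫ b ≫ e.inv ≫ b' = 0 := by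
        rw [← Category.assoc, pullback.condition]
        simp [hab']
      refine ⟨hL, pullback.fst b (a' ≫ e.hom), b ≫ e.inv ≫ b', hz, ?_⟩
      exact
        { exact := ShortComplex.exact_of_f_is_kernel _ (KernelFork.IsLimit.ofι' _ hz fun {W} g hg => by
            obtain ⟨l, hl⟩ := KernelFork.IsLimit.lift' hS'.fIsKernel (g ≫ b ≫ e.inv) (by simpa using hg)
            refine ⟨pullback.lift g l ?_, pullback.lift_fst _ _ _⟩
            have hl' : l ≫ a' = g ≫ b ≫ e.inv := hl
            rw [← Category.assoc, hl']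
            simp) }
    exact hK.succ hK' ((hx r₂ (Nat.lt_succ_self _)).symm.trans (root_eq hP L hL))

/-- Roots of a twist. -/
theorem HasRoots.twist {r : ℕ} {V N : P.Modules} {x : ℕ → C1Ring hP} (h : HasRoots hP r V x)
    (hN : PicF.IsInvertible N) : HasRoots hP r (CohB1.tensorMod V N) (fun j => x j + c1R hP hN) := by
  obtain ⟨M, L, h0, ⟨e⟩, hs, hx⟩ := h
  have hf : FlatMod.IsFlat N := OX.flat_of_isFinLocFree (FinCov.isFinLocFree_of_rank (rankOne_iff.2 hN))
  refine ⟨fun n => (Euler.tF N).obj (M n), fun n => CohB1.tensorMod (L n) N, Functor.map_isZero _ h0,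
    ⟨(Euler.tF N).mapIso e⟩, fun j hj => ?_, fun j hj => ?_⟩
  · obtain ⟨hL, a, b, hab, hS⟩ := hs j hj
    exact ⟨Ample.isInvertible_tensorMod hL hN, ((ShortComplex.mk a b hab).map (Euler.tF N)).f,
      ((ShortComplex.mk a b hab).map (Euler.tF N)).g, ((ShortComplex.mk a b hab).map (Euler.tF N)).zero,
      OX.tensor_map_shortExact hf hS⟩
  · obtain ⟨hL, -⟩ := hs j hj
    show _ = x j + c1R hP hN
    rw [root_eq hP _ (Ample.isInvertible_tensorMod hL hN), ← hx j hj, root_eq hP L hL, c1R_tensor hP hL hN]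

/-- Roots of a tensor product. -/
theorem HasRoots.tensor {r : ℕ} (hr : 0 < r) {E : P.Modules} {x : ℕ → C1Ring hP} (hE : HasRoots hP r E x) :
    ∀ {s : ℕ} {F : P.Modules} {y : ℕ → C1Ring hP}, HasRoots hP s F y →
      HasRoots hP (r * s) (CohB1.tensorMod E F) (fun n => x (n % r) + y (n / r)) := by
  intro s
  induction s with
  | zero =>
    intro F y hF
    rw [Nat.mul_zero]
    exact hasRoots_zero (((DCoh.tensorBi (X := P)).obj E).map_isZero hF.isZero) _
  | succ s ih =>
    intro F y hF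
    obtain ⟨M, L, h0, ⟨e⟩, hs, hy⟩ := hF
    obtain ⟨hL, a, b, hab, hS⟩ := hs s (Nat.lt_succ_self _)
    have hf : FlatMod.IsFlat (L s) := OX.flat_of_isFinLocFree (FinCov.isFinLocFree_of_rank (rankOne_iff.2 hL))
    have hT := OX.tensor_left_shortExact (M := E) hS hf
    have h1 : HasRoots hP (r * s) (CohB1.tensorMod E (M s)) (fun n => x (n % r) + y (n / r)) :=
      ih ⟨M, L, h0, ⟨Iso.refl _⟩, fun j hj => hs j (Nat.lt_succ_of_lt hj), fun j hj => hy j (Nat.lt_succ_of_lt hj)⟩
    have h2 : HasRoots hP r (CohB1.tensorMod E (L s)) (fun i => x ((r * s + i) % r) + y ((r * s + i) / r)) :=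
      (hE.twist hL).congr fun i hi => by
        rw [Nat.mul_add_mod, Nat.mod_eq_of_lt hi, Nat.mul_add_div hr, Nat.div_eq_of_lt hi, Nat.add_zero,
          ← hy s (Nat.lt_succ_self _), root_eq hP L hL]
    rw [Nat.mul_succ]
    exact (HasRoots.ext (z := fun n => x (n % r) + y (n / r))
      ((ShortComplex.mk a b hab).map ((DCoh.tensorBi (X := P)).obj E)).f
      ((ShortComplex.mk a b hab).map ((DCoh.tensorBi (X := P)).obj E)).g
      ((ShortComplex.mk a b hab).map ((DCoh.tensorBi (X := P)).obj E)).zero hT h1 h2).of_iso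
      (((DCoh.tensorBi (X := P)).obj E).mapIso e)

end GrothLib.PBDeg

namespace GrothLib.PBDeg

section Poly

variable {B : Type*} [CommRing B]

theorem coeff_linPow (l : B) (k n : ℕ) : ((1 + C l * X) ^ k).coeff n = (k.choose n : B) * l ^ n := by
  induction k generalizing n with
  | zero => cases n <;> simp [Polynomial.coeff_one]
  | succ k ih =>
    rw [pow_succ, mul_add, mul_one, coeff_add, ← mul_assoc, mul_comm _ (C l), mul_assoc, coeff_C_mul]
    cases n with
    | zero => simp [ih]
    | succ n =>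
      rw [coeff_mul_X, ih, ih, Nat.choose_succ_succ, Nat.succ_eq_add_one, pow_succ]
      push_cast
      ring

theorem coeff_cp_shift (r : ℕ) (x : ℕ → B) (l : B) {i : ℕ} (hi : i ≤ r) :
    (cp r (fun j => x j + l)).coeff i =
      ∑ j ∈ Finset.range (i + 1), ((r - i + j).choose j : B) * l ^ j * (cp r x).coeff (i - j) := by
  classical
  have h : cp r (fun j => x j + l) =
      ∑ I : Finset (Fin r), C (∏ j ∈ I, x j) * ((1 + C l * X) ^ (r - I.card) * X ^ I.card) := by
    rw [cp, ← Fin.prod_univ_eq_prod_range (fun j => 1 + C (x j + l) * X) r,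
      Finset.prod_congr rfl (fun j _ => show (1 + C (x (j : Fin r) + l) * X : B[X]) = C (x j) * X + (1 + C l * X) by
        rw [map_add]; ring), Finset.prod_add, Finset.powerset_univ]
    refine Finset.sum_congr rfl fun I _ => ?_
    rw [Finset.prod_mul_distrib, Finset.prod_const, Finset.prod_const, map_prod, Finset.card_univ_sdiff,
      Fintype.card_fin]
    ring
  rw [h, finsetSum_coeff, ← Finset.sum_range_reflect]
  simp only [coeff_C_mul, coeff_mul_X_pow', coeff_linPow]
  rw [← Finset.powerset_univ, Finset.sum_powerset, Finset.card_univ, Fintype.card_fin]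
  have e : ∀ n ∈ Finset.range (r + 1), (∑ I ∈ Finset.powersetCard n (Finset.univ : Finset (Fin r)),
      (∏ j ∈ I, x j) * if I.card ≤ i then ((r - I.card).choose (i - I.card) : B) * l ^ (i - I.card) else 0) =
      if n ≤ i then ((r - n).choose (i - n) : B) * l ^ (i - n) * (cp r x).coeff n else 0 := by
    intro n _
    rw [coeff_cp]
    by_cases hn : n ≤ i
    · rw [if_pos hn, Finset.mul_sum]
      refine Finset.sum_congr rfl fun I hI => ?_
      rw [(Finset.mem_powersetCard.1 hI).2, if_pos hn, mul_comm]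
    · rw [if_neg hn]
      exact Finset.sum_eq_zero fun I hI => by rw [(Finset.mem_powersetCard.1 hI).2, if_neg hn, mul_zero]
  rw [Finset.sum_congr rfl e, ← Finset.sum_filter,
    show (Finset.range (r + 1)).filter (· ≤ i) = Finset.range (i + 1) from
      Finset.ext fun n => by simp only [Finset.mem_filter, Finset.mem_range]; omega]
  refine Finset.sum_congr rfl fun j hj => ?_
  rw [Finset.mem_range] at hj
  rw [show i + 1 - 1 - j = i - j by omega, show r - i + (i - j) = r - j by omega, show i - (i - j) = j by omega]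

end Poly

end GrothLib.PBDeg
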