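import Groth.Agent.Lib.PBDeg17.LatPhi
import Groth.Agent.Lib.K0Sub.Swindle
import Groth.Agent.Lib.QCoh.Devissage
import Groth.Agent.Lib.OX.CohClass
import Mathlib.Algebra.Homology.ShortComplex.Abelian

/-!
# Classes of coherent modules bounded by the dimension of the support
-/

set_option autoImplicit false
set_option linter.style.haveILetI false
set_option linter.unusedVariables false

universe u

open CategoryTheory CategoryTheory.Limits AlgebraicGeometry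

noncomputable section

namespace GrothLib.PBDeg.K0Cyc

open GrothLib

variable {X : Scheme.{u}} [IsLocallyNoetherian X] {δ : X → ℤ} {k : ℤ}

theorem cohLe_mono {a b : ℤ} (h : a ≤ b) {F : X.Modules} (hF : Cyc.CohLe δ a F) : Cyc.CohLe δ b F :=
  ⟨hF.1, fun x hx => (hF.2 x hx).trans h⟩

theorem cohLe_of_support {F G : X.Modules} (hG : Coh.IsCoh G)
    (h : CohB1.support G ⊆ CohB1.support F) (hF : Cyc.CohLe δ k F) : Cyc.CohLe δ k G :=
  ⟨hG, fun x hx => hF.2 x (CycBasic.nontrivial_iff_mem_support.2 (h (CycBasic.nontrivial_iff_mem_support.1 hx)))⟩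

theorem cohLe_kernel {F G : X.Modules} (f : F ⟶ G) (hF : Cyc.CohLe δ k F) (hG : Coh.IsCoh G) :
    Cyc.CohLe δ k (kernel f) :=
  cohLe_of_support (QCoh.isCoh_kernel f hF.1 hG) (QCoh.support_subset_of_mono (kernel.ι f)) hF

theorem cohLe_cokernel {F G : X.Modules} (f : F ⟶ G) (hF : Coh.IsCoh F) (hG : Cyc.CohLe δ k G) :
    Cyc.CohLe δ k (cokernel f) :=
  cohLe_of_support (QCoh.isCoh_cokernel f hF hG.1) (QCoh.support_subset_of_epi (cokernel.π f)) hG

theorem cohLe_iso {F G : X.Modules} (e : F ≅ G) (hF : Cyc.CohLe δ k F) : Cyc.CohLe δ k G :=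
  cohLe_of_support (QCoh.isCoh_of_iso e hF.1) (QCoh.support_eq_of_iso e).symm.le hF

theorem cohLe_image {F G : X.Modules} (f : F ⟶ G) (hF : Coh.IsCoh F) (hG : Cyc.CohLe δ k G) :
    Cyc.CohLe δ k (Abelian.image f) :=
  cohLe_kernel _ hG (QCoh.isCoh_cokernel f hF hG.1)

theorem cohLe_zero {Z : X.Modules} (h : IsZero Z) : Cyc.CohLe δ k Z :=
  ⟨OX.isCoh_of_isZero h, fun x hx => absurd (ModuleCat.subsingleton_of_isZero ((OX.stalk x).map_isZero h))
    (fun h' => not_subsingleton_iff_nontrivial.2 hx h')⟩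

theorem cl_iso {F G : X.Modules} (e : F ≅ G) (hF : Cyc.CohLe δ k F) :
    KZero.clSub (Cyc.CohLe δ k) F = KZero.clSub (Cyc.CohLe δ k) G :=
  K0Sub.clSub_iso' (fun _ h => cohLe_zero h) e hF (cohLe_iso e hF)

/-- The class of a homology module. -/
theorem cl_homology (S : ShortComplex X.Modules) (h₁ : Cyc.CohLe δ k S.X₁) (h₂ : Cyc.CohLe δ k S.X₂)
    (h₃ : Coh.IsCoh S.X₃) :
    Cyc.CohLe δ k S.homology ∧
    KZero.clSub (Cyc.CohLe δ k) S.homology + KZero.clSub (Cyc.CohLe δ k) S.X₁ =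
      KZero.clSub (Cyc.CohLe δ k) (kernel S.g) + KZero.clSub (Cyc.CohLe δ k) (kernel S.f) := by
  have hZ : Cyc.CohLe δ k S.cycles := cohLe_iso S.cyclesIsoKernel.symm (cohLe_kernel S.g h₂ h₃)
  let e : S.homology ≅ cokernel S.toCycles :=
    S.homologyIsCokernel.coconePointUniqueUpToIso (colimit.isColimit _)
  have hC : Cyc.CohLe δ k (cokernel S.toCycles) := cohLe_cokernel _ h₁.1 hZ
  have hI : Cyc.CohLe δ k (Abelian.image S.toCycles) := cohLe_image _ h₁.1 hZ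
  refine ⟨cohLe_iso e.symm hC, ?_⟩
  obtain ⟨w, hs⟩ := QCoh.shortExact_kernel_image S.toCycles
  have e1 := K0Sub.clSub_add hs (cohLe_kernel _ h₁ hZ.1) h₁ hI
  have e2 := K0Sub.clSub_add (QCoh.shortExact_image_cokernel S.toCycles) hI hZ hC
  have e3 : kernel S.toCycles ≅ kernel S.f :=
    (kernelCompMono S.toCycles S.iCycles).symm ≪≫ kernelIsoOfEq S.toCycles_i
  dsimp only at e1 e2
  rw [cl_iso e (cohLe_iso e.symm hC), e1, ← cl_iso S.cyclesIsoKernel hZ, e2,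
    cl_iso e3 (cohLe_kernel _ h₁ hZ.1)]
  abel

/-- Equal classes of coherent modules of dimension `≤ k` give rationally equivalent cycles. -/
theorem rz_of_cl_eq (hX : Cyc.IsSetup X δ) {F G : X.Modules} (hF : Cyc.CohLe δ k F) (hG : Cyc.CohLe δ k G)
    (h : KZero.clSub (Cyc.CohLe δ (k + 1)) F = KZero.clSub (Cyc.CohLe δ (k + 1)) G) :
    C1.RZ δ k (Cyc.sheafFun δ k F - Cyc.sheafFun δ k G) := by
  obtain ⟨Φ, hΦ⟩ := KPhi.exists_hom hX k
  have e := congrArg Φ h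
  rw [hΦ F hF, hΦ G hG, eq_comm, QuotientAddGroup.eq, neg_add_eq_sub] at e
  exact e

/-- The two homology modules of a periodic complex. -/
theorem rz_periodic (hX : Cyc.IsSetup X δ) (F : X.Modules) (hF : Cyc.CohLe δ (k + 1) F) (φ ψ : F ⟶ F)
    (hφψ : φ ≫ ψ = 0) (hψφ : ψ ≫ φ = 0)
    (h0 : ∀ x : X, Nontrivial ((ShortComplex.mk φ ψ hφψ).homology.presheaf.stalk x) → δ x ≤ k)
    (h1 : ∀ x : X, Nontrivial ((ShortComplex.mk ψ φ hψφ).homology.presheaf.stalk x) → δ x ≤ k) :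
    C1.RZ δ k (Cyc.sheafFun δ k (ShortComplex.mk φ ψ hφψ).homology -
      Cyc.sheafFun δ k (ShortComplex.mk ψ φ hψφ).homology) := by
  obtain ⟨a0, e0⟩ := cl_homology (ShortComplex.mk φ ψ hφψ) hF hF hF.1
  obtain ⟨a1, e1⟩ := cl_homology (ShortComplex.mk ψ φ hψφ) hF hF hF.1
  exact rz_of_cl_eq hX ⟨a0.1, h0⟩ ⟨a1.1, h1⟩ (add_right_cancel (e0.trans ((add_comm _ _).trans e1.symm)))

end GrothLib.PBDeg.K0Cyc

end
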