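import Groth.Agent.Lib.CycDetL.LatticeLen
import Groth.Agent.Lib.CycBasic.SubLength
import Groth.Agent.Lib.FiniteLengthSupp

/-!
# Index of a lattice in a residue field, and Euler characteristics of maps
-/

set_option autoImplicit false
set_option linter.style.haveILetI false
set_option linter.unusedVariables false

universe u

open GrothLib.CycDetL

noncomputable section

namespace GrothLib.PBDeg.Lat

variable {A : Type u} [CommRing A]

section chi

variable {M P M' P' M'' P'' : Type u} [AddCommGroup M] [Module A M] [AddCommGroup P] [Module A P]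
  [AddCommGroup M'] [Module A M'] [AddCommGroup P'] [Module A P'] [AddCommGroup M''] [Module A M'']
  [AddCommGroup P''] [Module A P'']

/-- A quotient written with a surjection from a parametrising module. -/
theorem relLen_eq_length_quot {T N : Type u} [AddCommGroup T] [Module A T] [AddCommGroup N] [Module A N]
    (g : T →ₗ[A] N) (a b : Submodule A N) (D : Submodule A T) (hker : ∀ t, g t ∈ a ↔ t ∈ D)
    (hb : LinearMap.range g = b) : relLen a b = Module.length A (T ⧸ D) := by
  let φ : T →ₗ[A] ↥(b.map a.mkQ) :=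
    (a.mkQ.comp g).codRestrict _ fun t => ⟨g t, hb ▸ ⟨t, rfl⟩, rfl⟩
  have hsurj : Function.Surjective φ := by
    rintro ⟨_, x, hx, rfl⟩
    obtain ⟨t, rfl⟩ : x ∈ LinearMap.range g := hb.symm ▸ hx
    exact ⟨t, rfl⟩
  have hk : LinearMap.ker φ = D := by
    ext t
    rw [LinearMap.mem_ker, ← hker, ← Submodule.Quotient.mk_eq_zero, ← Subtype.val_inj]
    rfl
  rw [relLen, ← hk]
  exact (φ.quotKerEquivOfSurjective hsurj).length_eq.symm

/-- The lengths of the kernels and cokernels in a map of short exact sequences. -/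
theorem chi_add (μ' : M' →ₗ[A] P') (μ : M →ₗ[A] P) (μ'' : M'' →ₗ[A] P'') (i : M' →ₗ[A] M)
    (p : M →ₗ[A] M'') (j : P' →ₗ[A] P) (q : P →ₗ[A] P'') (hi : Function.Injective i)
    (hp : Function.Surjective p) (hip : Function.Exact i p) (hj : Function.Injective j)
    (hq : Function.Surjective q) (hjq : Function.Exact j q)
    (h1 : ∀ m, μ (i m) = j (μ' m)) (h2 : ∀ m, μ'' (p m) = q (μ m)) :
    Module.length A (LinearMap.ker μ) + Module.length A (P' ⧸ LinearMap.range μ') +
        Module.length A (P'' ⧸ LinearMap.range μ'') =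
      Module.length A (LinearMap.ker μ') + Module.length A (LinearMap.ker μ'') +
        Module.length A (P ⧸ LinearMap.range μ) := by
  have hpi : ∀ m, p (i m) = 0 := fun m => (hip _).2 ⟨m, rfl⟩
  have hqj : ∀ m, q (j m) = 0 := fun m => (hjq _).2 ⟨m, rfl⟩
  set D : Submodule A M'' := (LinearMap.ker μ).map p with hD
  set S : Submodule A M := (LinearMap.range j).comap μ with hS
  set G : Submodule A P' := (LinearMap.range μ).comap j with hG
  have hDle : D ≤ LinearMap.ker μ'' := by
    rintro _ ⟨m, hm, rfl⟩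
    rw [LinearMap.mem_ker, h2, LinearMap.mem_ker.1 hm, map_zero]
  -- the kernel of `μ`
  have e1 : Module.length A (LinearMap.ker μ) =
      Module.length A (LinearMap.ker μ') + Module.length A D := by
    let a : LinearMap.ker μ' →ₗ[A] LinearMap.ker μ := i.restrict fun m hm => by
      rw [LinearMap.mem_ker, h1, LinearMap.mem_ker.1 hm, map_zero]
    let b : LinearMap.ker μ →ₗ[A] D := p.restrict fun m hm => ⟨m, hm, rfl⟩
    refine Module.length_eq_add_of_exact a b (fun x y e => Subtype.ext (hi (congrArg Subtype.val e))) ?_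
      fun m => ⟨fun hm => ?_, ?_⟩
    · rintro ⟨_, m, hm, rfl⟩
      exact ⟨⟨m, hm⟩, rfl⟩
    · obtain ⟨m', hm'⟩ := (hip _).1 (congrArg Subtype.val hm)
      refine ⟨⟨m', ?_⟩, Subtype.ext hm'⟩
      rw [LinearMap.mem_ker]
      apply hj
      rw [← h1, hm', map_zero]
      exact LinearMap.mem_ker.1 m.2
    · rintro ⟨m', rfl⟩
      exact Subtype.ext (hpi _)
  -- the common middle term
  have hS1 : ∀ m, m ∈ S ↔ q (μ m) = 0 := fun m => (hjq _).symm
  have e2 : Module.length A (LinearMap.ker μ'') = Module.length A D + relLen D (LinearMap.ker μ'') := by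
    have h := relLen_add (S := ⊥) bot_le hDle
    have hb : ∀ T : Submodule A M'', relLen ⊥ T = Module.length A T := fun T =>
      (LinearEquiv.ofBijective ((Submodule.mkQ (⊥ : Submodule A M'')).restrict
        (p := T) (q := T.map (⊥ : Submodule A M'').mkQ) fun x hx => ⟨x, hx, rfl⟩)
        ⟨fun x y e => Subtype.ext (by
            have := (Submodule.Quotient.eq _).1 (congrArg Subtype.val e)
            exact sub_eq_zero.1 ((Submodule.mem_bot A).1 this)),
          by rintro ⟨_, x, hx, rfl⟩; exact ⟨⟨x, hx⟩, rfl⟩⟩).length_eq.symm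
    rwa [hb, hb] at h
  have hE : relLen D (LinearMap.ker μ'') = relLen (LinearMap.range μ') G := by
    have h3 : relLen D (LinearMap.ker μ'') =
        Module.length A (↥S ⧸ ((LinearMap.ker μ ⊔ LinearMap.range i).comap S.subtype)) := by
      refine relLen_eq_length_quot (p.comp S.subtype) _ _ _ (fun m => ?_) ?_
      · constructor
        · rintro ⟨k, hk, hk'⟩
          obtain ⟨m', hm'⟩ := (hip ((m : M) - k)).1 (by rw [map_sub, hk']; exact sub_self _)
          exact Submodule.mem_sup.2 ⟨k, hk, i m', ⟨m', rfl⟩, by rw [hm', add_sub_cancel]; rfl⟩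
        · intro hm
          obtain ⟨k, hk, _, ⟨m', rfl⟩, he⟩ := Submodule.mem_sup.1 hm
          exact ⟨k, hk, by
            show p k = p (m : M)
            rw [show (m : M) = k + i m' from he.symm, map_add, hpi, add_zero]⟩
      · ext y
        constructor
        · rintro ⟨m, rfl⟩
          show p (m : M) ∈ LinearMap.ker μ''
          rw [LinearMap.mem_ker, h2, (hS1 _).1 m.2]
        · intro hy
          obtain ⟨m, rfl⟩ := hp y
          exact ⟨⟨m, (hS1 m).2 (by rw [← h2]; exact hy)⟩, rfl⟩
    let je : P' ≃ₗ[A] LinearMap.range j := LinearEquiv.ofInjective j hj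
    let g : S →ₗ[A] P' := je.symm.toLinearMap.comp ((μ.comp S.subtype).codRestrict _ fun m => m.2)
    have hg : ∀ m, j (g m) = μ (m : M) := fun m => by
      show j (je.symm _) = _
      exact congrArg Subtype.val (je.apply_symm_apply ⟨μ (m : M), m.2⟩)
    rw [h3]
    refine (relLen_eq_length_quot g _ _ _ (fun m => ?_) ?_).symm
    · constructor
      · rintro ⟨m', hm'⟩
        refine Submodule.mem_sup.2 ⟨(m : M) - i m', ?_, i m', ⟨m', rfl⟩, sub_add_cancel _ _⟩
        rw [LinearMap.mem_ker, map_sub, h1, hm', hg, sub_self]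
      · intro hm
        obtain ⟨k, hk, _, ⟨m', rfl⟩, he⟩ := Submodule.mem_sup.1 hm
        refine ⟨m', hj ?_⟩
        rw [hg, show (m : M) = k + i m' from he.symm, map_add, LinearMap.mem_ker.1 hk, zero_add, h1]
    · ext y
      constructor
      · rintro ⟨m, rfl⟩
        exact ⟨(m : M), (hg m).symm⟩
      · rintro ⟨m, hm⟩
        exact ⟨⟨m, y, hm.symm⟩, hj ((hg _).trans hm)⟩
  have hle : LinearMap.range μ' ≤ G := by
    rintro _ ⟨m', rfl⟩
    exact ⟨i m', h1 m'⟩
  have e3 : Module.length A (P' ⧸ LinearMap.range μ') =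
      relLen (LinearMap.range μ') G + Module.length A (P' ⧸ G) := by
    have := relLen_add hle (le_top : G ≤ ⊤)
    rwa [relLen_top, relLen_top] at this
  have e4 : Module.length A (P ⧸ LinearMap.range μ) =
      Module.length A (P' ⧸ G) + Module.length A (P'' ⧸ LinearMap.range μ'') := by
    let a : P' ⧸ G →ₗ[A] P ⧸ LinearMap.range μ := G.mapQ _ j le_rfl
    have hb : LinearMap.range μ ≤ (LinearMap.range μ'').comap q := by
      rintro _ ⟨m, rfl⟩
      exact ⟨p m, h2 m⟩
    let b : P ⧸ LinearMap.range μ →ₗ[A] P'' ⧸ LinearMap.range μ'' :=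
      (LinearMap.range μ).mapQ _ q hb
    refine Module.length_eq_add_of_exact a b (fun x y e => ?_) (fun y => ?_) fun z => ⟨fun hz => ?_, ?_⟩
    · obtain ⟨x, rfl⟩ := Submodule.mkQ_surjective _ x
      obtain ⟨y, rfl⟩ := Submodule.mkQ_surjective _ y
      have h := (Submodule.Quotient.eq _).1 e
      refine (Submodule.Quotient.eq _).2 (Submodule.mem_comap.2 ?_)
      rwa [map_sub]
    · obtain ⟨y, rfl⟩ := Submodule.mkQ_surjective _ y
      obtain ⟨z, rfl⟩ := hq y
      exact ⟨Submodule.mkQ _ z, rfl⟩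
    · obtain ⟨z, rfl⟩ := Submodule.mkQ_surjective _ z
      obtain ⟨m'', hm''⟩ := (Submodule.Quotient.mk_eq_zero _).1 hz
      obtain ⟨m, rfl⟩ := hp m''
      rw [h2] at hm''
      obtain ⟨w, hw⟩ := (hjq (z - μ m)).1 (by rw [map_sub, hm'', sub_self])
      exact ⟨Submodule.mkQ _ w, (Submodule.Quotient.eq _).2 ⟨-m, by rw [map_neg, hw]; abel⟩⟩
    · rintro ⟨x, rfl⟩
      obtain ⟨x, rfl⟩ := Submodule.mkQ_surjective _ x
      exact (Submodule.Quotient.mk_eq_zero _).2 ((hqj x).symm ▸ Submodule.zero_mem _)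
  rw [e1, e2, e3, e4, hE]
  abel

end chi

section idx

variable (A) (K : Type u) [Field K] [Algebra A K]

/-- The standard lattice. -/
abbrev one : Submodule A K := Submodule.span A {(1 : K)}

/-- `K` is the field of fractions of a one-dimensional quotient of `A`. -/
structure Cx : Prop where
  noeth : IsNoetherianRing A
  frac : ∀ c : K, ∃ a s : A, algebraMap A K s ≠ 0 ∧ s • c = algebraMap A K a
  fin : ∀ a : A, algebraMap A K a ≠ 0 →
    Module.length A (A ⧸ (RingHom.ker (algebraMap A K) ⊔ Ideal.span {a})) ≠ ⊤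

variable {A K}

/-- Finitely generated and generically everything. -/
def IsLat {W : Type u} [AddCommGroup W] [Module A W] (K : Type u) [Field K] [Algebra A K]
    (R : Submodule A W) : Prop :=
  R.FG ∧ ∀ w : W, ∃ s : A, algebraMap A K s ≠ 0 ∧ s • w ∈ R

/-- The index of a lattice, larger for smaller lattices. -/
def idx (L : Submodule A K) : ℤ :=
  ((relLen L (L ⊔ one A K)).toNat : ℤ) - ((relLen (one A K) (L ⊔ one A K)).toNat : ℤ)

theorem length_ne_top_of_killed {M : Type u} [AddCommGroup M] [Module A M] [Module.Finite A M]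
    (J : Ideal A) (hJ : Module.length A (A ⧸ J) ≠ ⊤) (h : ∀ r ∈ J, ∀ m : M, r • m = 0) :
    Module.length A M ≠ ⊤ := by
  obtain ⟨n, f, hf⟩ := Module.Finite.exists_fin' A M
  let g : (Fin n → A ⧸ J) →ₗ[A] M :=
    (LinearMap.lsum A (fun _ : Fin n => A ⧸ J) A) fun i =>
      J.liftQ (LinearMap.toSpanSingleton A M (f (Pi.single i 1))) fun r hr => h r hr _
  have hg : Function.Surjective g := fun m => by
    obtain ⟨x, rfl⟩ := hf m
    refine ⟨fun i => Submodule.Quotient.mk (x i), ?_⟩
    conv_rhs => rw [pi_eq_sum_univ' x, map_sum]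
    simp [g, LinearMap.lsum_apply]
    exact Finset.sum_congr rfl fun i _ => rfl
  refine ne_top_of_le_ne_top ?_ (Module.length_le_of_surjective g hg)
  rw [Module.length_pi_of_fintype]
  exact WithTop.sum_ne_top.2 fun _ _ => hJ

theorem fg_comap {W V : Type u} [AddCommGroup W] [Module A W] [AddCommGroup V] [Module A V]
    (hC : Cx A K) (f : V →ₗ[A] W) (hf : Function.Injective f) {R : Submodule A W} (hR : R.FG) :
    (R.comap f).FG := by
  haveI := hC.noeth
  haveI : IsNoetherian A R := isNoetherian_of_fg_of_noetherian R hR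
  refine Submodule.fg_of_fg_map_injective f hf ?_
  rw [Submodule.map_comap_eq]
  exact Submodule.FG.of_le hR inf_le_right

theorem relLen_ne_top (hC : Cx A K) {L L' : Submodule A K} (hL : IsLat K L) (hL' : L'.FG) :
    relLen L L' ≠ ⊤ := by
  classical
  obtain ⟨t, ht⟩ := hL'
  choose s hs hsL using hL.2
  let a : A := ∏ x ∈ t, s x
  have ha : algebraMap A K a ≠ 0 := by
    rw [map_prod]
    exact Finset.prod_ne_zero_iff.2 fun x _ => hs x
  have haL : ∀ x ∈ L', a • x ∈ L := by
    intro x hx
    rw [← ht] at hx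
    induction hx using Submodule.span_induction with
    | mem y hy =>
      rw [show a = (∏ z ∈ t.erase y, s z) * s y from (Finset.prod_erase_mul t s hy).symm, mul_smul]
      exact L.smul_mem _ (hsL y)
    | zero => rw [smul_zero]; exact L.zero_mem
    | add y z _ _ h1 h2 => rw [smul_add]; exact L.add_mem h1 h2
    | smul r y _ h1 => rw [smul_comm]; exact L.smul_mem _ h1
  haveI : Module.Finite A ↥(L'.map L.mkQ) := Module.Finite.of_fg (Submodule.FG.map _ (show L'.FG from ⟨t, ht⟩))
  refine length_ne_top_of_killed _ (hC.fin a ha) ?_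
  rintro r hr ⟨_, x, hx, rfl⟩
  obtain ⟨p, hp, q, hq, rfl⟩ := Submodule.mem_sup.1 hr
  obtain ⟨c, rfl⟩ := Ideal.mem_span_singleton'.1 hq
  refine Subtype.ext ((L.mkQ.map_smul _ x).symm.trans ((Submodule.Quotient.mk_eq_zero L).2 ?_))
  rw [add_smul, mul_smul, show p • x = 0 by rw [Algebra.smul_def, RingHom.mem_ker.1 hp, zero_mul],
    zero_add]
  exact L.smul_mem _ (haL x hx)

theorem isLat_one (hC : Cx A K) : IsLat K (one A K) := by
  refine ⟨Submodule.fg_span_singleton _, fun w => ?_⟩
  obtain ⟨a, s, hs, he⟩ := hC.frac w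
  exact ⟨s, hs, Submodule.mem_span_singleton.2 ⟨a, by rw [he, Algebra.smul_def, mul_one]⟩⟩

theorem IsLat.mono {W : Type u} [AddCommGroup W] [Module A W] {R R' : Submodule A W} (h : IsLat K R)
    (hR' : R'.FG) (hle : R ≤ R') : IsLat K R' :=
  ⟨hR', fun w => let ⟨s, hs, hw⟩ := h.2 w; ⟨s, hs, hle hw⟩⟩

theorem idx_eq (hC : Cx A K) {L N : Submodule A K} (hL : IsLat K L) (hN : N.FG) (h : L ≤ N)
    (h1 : one A K ≤ N) :
    idx L = ((relLen L N).toNat : ℤ) - ((relLen (one A K) N).toNat : ℤ) := by
  have hf := hL.1.sup (isLat_one hC).1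
  have hS : IsLat K (L ⊔ one A K) := hL.mono hf le_sup_left
  rw [idx, relLen_add le_sup_left (sup_le h h1), relLen_add le_sup_right (sup_le h h1),
    ENat.toNat_add (relLen_ne_top hC hL hf) (relLen_ne_top hC hS hN),
    ENat.toNat_add (relLen_ne_top hC (isLat_one hC) hf) (relLen_ne_top hC hS hN)]
  push_cast
  ring

theorem idx_mono (hC : Cx A K) {L L' : Submodule A K} (hL : IsLat K L) (hL' : IsLat K L') (h : L ≤ L') :
    idx L = idx L' + ((relLen L L').toNat : ℤ) := by
  have hN := hL'.1.sup (isLat_one hC).1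
  rw [idx_eq hC hL hN (h.trans le_sup_left) le_sup_right,
    idx_eq hC hL' hN le_sup_left le_sup_right, relLen_add h le_sup_left,
    ENat.toNat_add (relLen_ne_top hC hL hL'.1) (relLen_ne_top hC hL' hN)]
  push_cast
  ring

/-- Multiplication by a scalar. -/
abbrev mulMap (c : K) : K →ₗ[A] K := LinearMap.mulLeft A c

theorem mulMap_injective {c : K} (hc : c ≠ 0) : Function.Injective (mulMap (A := A) c) :=
  fun _ _ e => mul_left_cancel₀ hc e

theorem IsLat.map_mul (hC : Cx A K) {L : Submodule A K} (hL : IsLat K L) {c : K} (hc : c ≠ 0) :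
    IsLat K (L.map (mulMap (A := A) c)) := by
  refine ⟨hL.1.map _, fun w => ?_⟩
  obtain ⟨s, hs, hw⟩ := hL.2 (c⁻¹ * w)
  refine ⟨s, hs, _, hw, ?_⟩
  show c * (s • (c⁻¹ * w)) = s • w
  rw [mul_smul_comm, mul_inv_cancel_left₀ hc]

theorem relLen_map_mul {c : K} (hc : c ≠ 0) (S T : Submodule A K) :
    relLen (S.map (mulMap (A := A) c)) (T.map (mulMap (A := A) c)) = relLen S T := by
  rw [relLen_eq_length_quot ((mulMap (A := A) c).comp T.subtype) _ _ (S.comap T.subtype)
    (fun t => by
      show mulMap (A := A) c (t : K) ∈ S.map (mulMap (A := A) c) ↔ (t : K) ∈ S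
      rw [Submodule.mem_map]
      exact ⟨fun ⟨s, hs, e⟩ => mulMap_injective hc e ▸ hs, fun ht => ⟨_, ht, rfl⟩⟩)
    (by rw [LinearMap.range_comp, Submodule.range_subtype]),
    relLen_eq_length_quot T.subtype S T (S.comap T.subtype) (fun _ => Iff.rfl) (Submodule.range_subtype T)]

variable (A) in
/-- The order of an element of `K`. -/
def ordI (c : K) : ℤ := idx ((one A K).map (mulMap (A := A) c))

theorem idx_mul (hC : Cx A K) {L : Submodule A K} (hL : IsLat K L) {c : K} (hc : c ≠ 0) :
    idx (L.map (mulMap (A := A) c)) = ordI A c + idx L := by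
  set N := L ⊔ one A K ⊔ (one A K).map (mulMap (A := A) c⁻¹) with hNdef
  have hN : N.FG := (hL.1.sup (isLat_one hC).1).sup ((isLat_one hC).1.map _)
  have h1 : one A K ≤ N.map (mulMap (A := A) c) := by
    rintro x hx
    refine ⟨c⁻¹ * x, Submodule.mem_sup_right ⟨x, hx, rfl⟩, ?_⟩
    exact mul_inv_cancel_left₀ hc x
  have hL1 : L ≤ N := le_sup_left.trans le_sup_left
  have h11 : one A K ≤ N := le_sup_right.trans le_sup_left
  rw [ordI, idx_eq hC (hL.map_mul hC hc) (hN.map _) (Submodule.map_mono hL1) h1,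
    idx_eq hC ((isLat_one hC).map_mul hC hc) (hN.map _) (Submodule.map_mono h11) h1,
    idx_eq hC hL hN hL1 h11, relLen_map_mul hc, relLen_map_mul hc]
  ring

theorem map_mul_mul (L : Submodule A K) (c d : K) :
    (L.map (mulMap (A := A) d)).map (mulMap (A := A) c) = L.map (mulMap (A := A) (c * d)) := by
  rw [← Submodule.map_comp]
  congr 1
  exact LinearMap.ext fun x => (mul_assoc c d x).symm

theorem ordI_mul (hC : Cx A K) {c d : K} (hc : c ≠ 0) (hd : d ≠ 0) :
    ordI A (c * d) = ordI A c + ordI A d := by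
  rw [ordI, ← map_mul_mul, idx_mul hC ((isLat_one hC).map_mul hC hd) hc]
  rfl

theorem ordI_one (hC : Cx A K) : ordI A (1 : K) = 0 := by
  have h := ordI_mul hC (one_ne_zero : (1 : K) ≠ 0) one_ne_zero
  rw [one_mul] at h
  omega

theorem ordI_algebraMap (hC : Cx A K) {a : A} (ha : algebraMap A K a ≠ 0) :
    ordI A (algebraMap A K a) =
      ((Module.length A (A ⧸ (RingHom.ker (algebraMap A K) ⊔ Ideal.span {a}))).toNat : ℤ) := by
  set L := (one A K).map (mulMap (A := A) (algebraMap A K a)) with hLdef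
  have hle : L ≤ one A K := by
    rintro _ ⟨x, hx, rfl⟩
    show algebraMap A K a * x ∈ one A K
    rw [← Algebra.smul_def]
    exact Submodule.smul_mem _ _ hx
  rw [ordI, idx_eq hC ((isLat_one hC).map_mul hC ha) (isLat_one hC).1 hle le_rfl, relLen_self,
    relLen_eq_length_quot (LinearMap.toSpanSingleton A K 1) L (one A K)
      (RingHom.ker (algebraMap A K) ⊔ Ideal.span {a}) (fun r => ?_)
      (LinearMap.range_toSpanSingleton _)]
  · simp
  · rw [LinearMap.toSpanSingleton_apply, Algebra.smul_def, mul_one]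
    constructor
    · rintro ⟨x, hx, he⟩
      obtain ⟨b, rfl⟩ := Submodule.mem_span_singleton.1 hx
      refine Submodule.mem_sup.2 ⟨r - b * a, ?_, b * a, Ideal.mem_span_singleton'.2 ⟨b, rfl⟩,
        sub_add_cancel _ _⟩
      rw [RingHom.mem_ker, map_sub, map_mul, ← he]
      show algebraMap A K a * (b • (1 : K)) - _ = 0
      rw [Algebra.smul_def, mul_one, mul_comm, sub_self]
    · intro hr
      obtain ⟨p, hp, q, hq, rfl⟩ := Submodule.mem_sup.1 hr
      obtain ⟨b, rfl⟩ := Ideal.mem_span_singleton'.1 hq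
      refine ⟨b • 1, Submodule.smul_mem _ _ (Submodule.mem_span_singleton_self _), ?_⟩
      show algebraMap A K a * (b • (1 : K)) = _
      rw [map_add, RingHom.mem_ker.1 hp, zero_add, map_mul, Algebra.smul_def, mul_one, mul_comm]

end idx

end GrothLib.PBDeg.Lat

end
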