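import Groth.Agent.Lib.PBDeg17.LatBasic
import Mathlib.Algebra.Category.ModuleCat.Basic
import Mathlib.RingTheory.LocalRing.ResidueField.Basic

/-!
# Marked composition series and the index of a lattice
-/

set_option autoImplicit false
set_option linter.style.haveILetI false
set_option linter.unusedVariables false

universe u

open GrothLib.CycDetL

noncomputable section

namespace GrothLib.PBDeg.Lat

variable {B : Type u} [CommRing B] {K : Type u} [Field K] [Algebra B K]

/-- A module over `A` through the algebra structure. -/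
instance instModuleCat {A : Type u} [CommRing A] [Algebra A B] (W : ModuleCat.{u} B) : Module A W :=
  Module.compHom W (algebraMap A B)

instance instTower {A : Type u} [CommRing A] [Algebra A B] (W : ModuleCat.{u} B) : IsScalarTower A B W :=
  IsScalarTower.of_algebraMap_smul fun _ _ => rfl

variable (B K) in
/-- A composition series with every subquotient identified with `K`. -/
inductive Mark : ModuleCat.{u} B → Type (u + 1)
  | nil (W : ModuleCat.{u} B) (h : Subsingleton W) : Mark W
  | cons {W W' : ModuleCat.{u} B} (ι : K →ₗ[B] W) (π : W →ₗ[B] W') (hι : Function.Injective ι)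
      (hπ : Function.Surjective π) (hex : Function.Exact ι π) (t : Mark W') : Mark W

/-- Transport along an equivalence. -/
def Mark.pull : {W'' : ModuleCat.{u} B} → Mark B K W'' → {W : ModuleCat.{u} B} → (↥W ≃ₗ[B] ↥W'') → Mark B K W
  | _, .nil _ h, W, e => .nil W (haveI := h; e.toEquiv.subsingleton)
  | _, .cons ι π hι hπ hex t, _, e =>
    .cons (e.symm.toLinearMap.comp ι) (π.comp e.toLinearMap) (e.symm.injective.comp hι)
      (hπ.comp e.surjective) (fun w => by
        refine (hex (e w)).trans ⟨fun ⟨k, hk⟩ => ⟨k, by simp [hk]⟩, fun ⟨k, hk⟩ => ⟨k, ?_⟩⟩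
        rw [← hk]; simp) t

section inv

variable (A : Type u) [CommRing A] [Algebra A B] [Algebra A K] [IsScalarTower A B K]

/-- The index of a lattice with respect to a marking. -/
def inv : {W : ModuleCat.{u} B} → Mark B K W → Submodule A W → ℤ
  | _, .nil _ _, _ => 0
  | _, .cons ι π _ _ _ t, R => idx (R.comap (ι.restrictScalars A)) + inv t (R.map (π.restrictScalars A))

variable {A}

theorem inv_pull : ∀ {W'' : ModuleCat.{u} B} (m : Mark B K W'') {W : ModuleCat.{u} B}
    (e : ↥W ≃ₗ[B] ↥W'') (R : Submodule A W),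
    inv A (m.pull e) R = inv A m (R.map (e.toLinearMap.restrictScalars A))
  | _, .nil _ h, W, e, R => rfl
  | _, .cons ι π hι hπ hex t, W, e, R => by
    simp only [Mark.pull, inv]
    congr 2
    · ext k
      simp only [Submodule.mem_comap, Submodule.mem_map]
      exact ⟨fun h => ⟨_, h, e.apply_symm_apply (ι k)⟩, fun ⟨w, hw, he⟩ => by
        have h2 : w = e.symm (ι k) := (LinearEquiv.eq_symm_apply e).2 he
        exact h2 ▸ hw⟩
    · exact Submodule.map_comp (e.toLinearMap.restrictScalars A) (π.restrictScalars A) R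

theorem inv_subsingleton : ∀ {W : ModuleCat.{u} B} (m : Mark B K W), Subsingleton W →
    ∀ R : Submodule A W, inv A m R = 0
  | _, .nil _ _, _, _ => rfl
  | _, .cons ι π hι _ _ _, h, _ => absurd (hι (Subsingleton.elim (ι 0) (ι 1))) zero_ne_one

theorem IsLat.comap {W : ModuleCat.{u} B} (hC : Cx A K) {R : Submodule A W} (hR : IsLat K R)
    (ι : K →ₗ[B] W) (hι : Function.Injective ι) : IsLat K (R.comap (ι.restrictScalars A)) :=
  ⟨fg_comap hC _ hι hR.1, fun k => let ⟨s, hs, h⟩ := hR.2 (ι k); ⟨s, hs, by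
    rw [Submodule.mem_comap, map_smul]; exact h⟩⟩

theorem IsLat.map {W W' : ModuleCat.{u} B} {R : Submodule A W} (hR : IsLat K R) (π : W →ₗ[B] W')
    (hπ : Function.Surjective π) : IsLat K (R.map (π.restrictScalars A)) :=
  ⟨hR.1.map _, fun w => by
    obtain ⟨v, rfl⟩ := hπ w
    obtain ⟨s, hs, h⟩ := hR.2 v
    exact ⟨s, hs, s • v, h, map_smul _ _ _⟩⟩

theorem relLen_exact {W W' : ModuleCat.{u} B} (ι : K →ₗ[B] W) (π : W →ₗ[B] W')
    (hι : Function.Injective ι) (hex : Function.Exact ι π) {R R' : Submodule A W} (h : R ≤ R') :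
    relLen R R' = relLen (R.comap (ι.restrictScalars A)) (R'.comap (ι.restrictScalars A)) +
      relLen (R.map (π.restrictScalars A)) (R'.map (π.restrictScalars A)) := by
  set f := ι.restrictScalars A
  set g := π.restrictScalars A
  let a : ↥((R'.comap f).map (R.comap f).mkQ) →ₗ[A] ↥(R'.map R.mkQ) :=
    ((R.comap f).mapQ R f le_rfl).restrict fun z hz => by
      obtain ⟨x, hx, rfl⟩ := hz
      exact ⟨f x, hx, rfl⟩
  let b : ↥(R'.map R.mkQ) →ₗ[A] ↥((R'.map g).map (R.map g).mkQ) :=
    (R.mapQ (R.map g) g (Submodule.le_comap_map g R)).restrict fun z hz => by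
      obtain ⟨x, hx, rfl⟩ := hz
      exact ⟨g x, ⟨x, hx, rfl⟩, rfl⟩
  refine Module.length_eq_add_of_exact a b ?_ ?_ fun z => ⟨fun hz => ?_, ?_⟩
  · rintro ⟨_, x, hx, rfl⟩ ⟨_, y, hy, rfl⟩ e
    have h := (Submodule.Quotient.eq _).1 (congrArg Subtype.val e)
    refine Subtype.ext ((Submodule.Quotient.eq _).2 (Submodule.mem_comap.2 ?_))
    rwa [map_sub]
  · rintro ⟨_, _, ⟨x, hx, rfl⟩, rfl⟩
    exact ⟨⟨_, x, hx, rfl⟩, Subtype.ext rfl⟩
  · obtain ⟨_, x, hx, rfl⟩ := z
    obtain ⟨r, hr, he⟩ := Submodule.mem_map.1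
      ((Submodule.Quotient.mk_eq_zero _).1 (congrArg Subtype.val hz))
    obtain ⟨k, hk⟩ := (hex (x - r)).1 (by rw [map_sub, sub_eq_zero]; exact he.symm)
    refine ⟨⟨Submodule.mkQ _ k, k, ?_, rfl⟩, Subtype.ext ((Submodule.Quotient.eq _).2 ?_)⟩
    · show ι k ∈ R'
      rw [hk]
      exact R'.sub_mem hx (h hr)
    · show ι k - x ∈ R
      rw [hk, sub_sub_cancel_left]
      exact R.neg_mem hr
  · rintro ⟨⟨_, x, hx, rfl⟩, rfl⟩
    refine Subtype.ext ((Submodule.Quotient.mk_eq_zero _).2 ?_)
    show π (ι x) ∈ _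
    rw [(hex (ι x)).2 ⟨x, rfl⟩]
    exact Submodule.zero_mem _

theorem inv_mono (hC : Cx A K) : ∀ {W : ModuleCat.{u} B} (m : Mark B K W) {R R' : Submodule A W},
    IsLat K R → IsLat K R' → R ≤ R' →
      relLen R R' ≠ ⊤ ∧ inv A m R = inv A m R' + ((relLen R R').toNat : ℤ)
  | _, .nil W h, R, R', hR, hR', hle => by
    haveI := h
    have : R' = R := Subsingleton.elim _ _
    subst this
    simp [inv, relLen_self]
  | _, .cons ι π hι hπ hex t, R, R', hR, hR', hle => by
    have hc : R.comap (ι.restrictScalars A) ≤ R'.comap (ι.restrictScalars A) := Submodule.comap_mono hle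
    have h1 := relLen_ne_top hC (hR.comap hC ι hι) (hR'.comap hC ι hι).1
    have h2 := inv_mono hC t (hR.map π hπ) (hR'.map π hπ) (Submodule.map_mono hle)
    rw [relLen_exact ι π hι hex hle]
    refine ⟨WithTop.add_ne_top.2 ⟨h1, h2.1⟩, ?_⟩
    simp only [inv]
    rw [idx_mono hC (hR.comap hC ι hι) (hR'.comap hC ι hι) hc, h2.2, ENat.toNat_add h1 h2.1]
    push_cast
    ring

end inv

theorem exists_desc {W W' V : Type u} [AddCommGroup W] [Module B W] [AddCommGroup W'] [Module B W']
    [AddCommGroup V] [Module B V] (π : W →ₗ[B] W') (hπ : Function.Surjective π) (g : W →ₗ[B] V)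
    (h : ∀ w, π w = 0 → g w = 0) : ∃ g' : W' →ₗ[B] V, ∀ w, g' (π w) = g w := by
  refine ⟨((LinearMap.ker π).liftQ g fun w hw => h w hw).comp
    (π.quotKerEquivOfSurjective hπ).symm.toLinearMap, fun w => ?_⟩
  have e : (π.quotKerEquivOfSurjective hπ).symm (π w) = Submodule.Quotient.mk w := by
    rw [LinearEquiv.symm_apply_eq]
    rfl
  simp [e]

section build

variable (hsurj : Function.Surjective (algebraMap B K))
include hsurj

theorem length_residue : Module.length B K = 1 := by
  rw [CycBasic.length_eq_of_surjective (algebraMap B K) hsurj K fun r m => by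
    simp [Algebra.smul_def]]
  exact Module.length_eq_one_iff.2 inferInstance

theorem endo_eq_mul (g : K →ₗ[B] K) (x : K) : g x = g 1 * x := by
  obtain ⟨b, rfl⟩ := hsurj x
  rw [show algebraMap B K b = b • (1 : K) by rw [Algebra.smul_def, mul_one], map_smul, Algebra.smul_def,
    Algebra.smul_def, mul_one, mul_comm]

theorem length_eq_succ {W W' : ModuleCat.{u} B} (ι : K →ₗ[B] W) (π : W →ₗ[B] W')
    (hι : Function.Injective ι) (hπ : Function.Surjective π) (hex : Function.Exact ι π) :
    Module.length B W = 1 + Module.length B W' := by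
  rw [Module.length_eq_add_of_exact ι π hι hπ hex, length_residue hsurj]

theorem exists_mark [IsLocalRing B] : ∀ (n : ℕ) (W : ModuleCat.{u} B), Module.length B W ≤ (n : ℕ∞) →
    Nonempty (Mark B K W) := by
  intro n
  induction n with
  | zero =>
    intro W hW
    exact ⟨.nil W (Module.length_eq_zero_iff.1 (nonpos_iff_eq_zero.1 (by simpa using hW)))⟩
  | succ n ih =>
    intro W hW
    rcases subsingleton_or_nontrivial W with h | h
    · exact ⟨.nil W h⟩
    haveI : IsFiniteLength B W := Module.length_ne_top_iff.1 (ne_top_of_le_ne_top (ENat.coe_ne_top _) hW)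
    haveI : IsArtinian B W := (isFiniteLength_iff_isNoetherian_isArtinian.1 ‹_›).2
    obtain ⟨x, hx, hxm⟩ := CycDetL.exists_socle (R := B) (M := W)
    have hker : RingHom.ker (algebraMap B K) = IsLocalRing.maximalIdeal B :=
      IsLocalRing.eq_maximalIdeal (RingHom.ker_isMaximal_of_surjective _ hsurj)
    obtain ⟨ι, hι⟩ := exists_desc (Algebra.linearMap B K) hsurj (LinearMap.toSpanSingleton B W x)
      fun b hb => hxm b (hker ▸ hb)
    have hinj : Function.Injective ι := by
      rw [injective_iff_map_eq_zero]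
      intro k hk
      obtain ⟨b, rfl⟩ := hsurj k
      by_contra hb
      have hu : IsUnit b := by
        by_contra hn
        exact hb (RingHom.mem_ker.1 (hker.symm ▸ (IsLocalRing.mem_maximalIdeal b).2 hn))
      have := hι b
      rw [Algebra.linearMap_apply, hk, LinearMap.toSpanSingleton_apply] at this
      exact hx (hu.smul_eq_zero.1 this.symm)
    let W' : ModuleCat.{u} B := ModuleCat.of B (W ⧸ LinearMap.range ι)
    have hex : Function.Exact ι (LinearMap.range ι).mkQ := LinearMap.exact_map_mkQ_range ι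
    have hlen := length_eq_succ (W' := W') hsurj ι (LinearMap.range ι).mkQ hinj
      (Submodule.mkQ_surjective _) hex
    obtain ⟨t⟩ := ih W' (by
      rw [hlen, Nat.cast_succ, add_comm (n : ℕ∞)] at hW
      exact WithTop.le_of_add_le_add_left ENat.one_ne_top hW)
    exact ⟨.cons (W' := W') ι (LinearMap.range ι).mkQ hinj (Submodule.mkQ_surjective _) hex t⟩

/-- Two markings differ by the order of one scalar. -/
theorem exists_change [IsLocalRing B] : ∀ (n : ℕ) (W : ModuleCat.{u} B), Module.length B W ≤ (n : ℕ∞) →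
    ∀ m m' : Mark B K W, ∃ f : K, f ≠ 0 ∧
      ∀ (A : Type u) [CommRing A] [Algebra A B] [Algebra A K] [IsScalarTower A B K], Cx A K →
        ∀ R : Submodule A W, IsLat K R → inv A m R = inv A m' R + ordI A f := by
  intro n
  induction n with
  | zero =>
    intro W hW m m'
    have hs : Subsingleton W := Module.length_eq_zero_iff.1 (nonpos_iff_eq_zero.1 (by simpa using hW))
    refine ⟨1, one_ne_zero, fun A _ _ _ _ hC R _ => ?_⟩
    rw [inv_subsingleton m hs, inv_subsingleton m' hs, ordI_one hC, add_zero]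
  | succ n ih =>
    intro W hW m m'
    rcases subsingleton_or_nontrivial W with hs | hs
    · refine ⟨1, one_ne_zero, fun A _ _ _ _ hC R _ => ?_⟩
      rw [inv_subsingleton m hs, inv_subsingleton m' hs, ordI_one hC, add_zero]
    match m, m' with
    | .nil _ h, _ => exact absurd h (not_subsingleton _)
    | .cons _ _ _ _ _ _, .nil _ h => exact absurd h (not_subsingleton _)
    | @Mark.cons _ _ _ _ _ _ W1 ι π hι hπ hex t, @Mark.cons _ _ _ _ _ _ W2 ι' π' hι' hπ' hex' t' =>
    have hlen : ∀ {V : ModuleCat.{u} B} (j : K →ₗ[B] W) (q : W →ₗ[B] V), Function.Injective j →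
        Function.Surjective q → Function.Exact j q → Module.length B V ≤ (n : ℕ∞) := by
      intro V j q hj hq hjq
      have h := hW
      rw [length_eq_succ hsurj j q hj hq hjq, Nat.cast_succ, add_comm (n : ℕ∞)] at h
      exact WithTop.le_of_add_le_add_left ENat.one_ne_top h
    have h1 := hlen ι π hι hπ hex
    have h2 := hlen ι' π' hι' hπ' hex'
    by_cases hc : ∃ k k' : K, k' ≠ 0 ∧ ι k = ι' k'
    · -- same first step
      obtain ⟨k, k', hk', he⟩ := hc
      have hk : k ≠ 0 := fun h => hk' (hι' (by rw [map_zero, ← he, h, map_zero]))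
      set c : K := k / k' with hcdef
      have hc0 : c ≠ 0 := div_ne_zero hk hk'
      have hcc : ∀ z : K, ι' z = ι (c * z) := by
        intro z
        obtain ⟨b, hb⟩ := hsurj (z / k')
        have e1 : b • k' = z := by rw [Algebra.smul_def, hb, div_mul_cancel₀ _ hk']
        have e2 : b • k = c * z := by
          rw [Algebra.smul_def, hb, hcdef]
          field_simp
        rw [← e1, map_smul, ← he, ← map_smul, e2, e1]
      obtain ⟨e, he'⟩ : ∃ e : W1 →ₗ[B] W2, ∀ w, e (π w) = π' w := exists_desc π hπ π' fun w hw => by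
        obtain ⟨z, rfl⟩ := (hex w).1 hw
        refine (hex' _).2 ⟨c⁻¹ * z, ?_⟩
        rw [hcc, mul_inv_cancel_left₀ hc0]
      have hebij : Function.Bijective e := by
        refine ⟨(injective_iff_map_eq_zero e).2 fun w hw => ?_, fun w => ?_⟩
        · obtain ⟨w, rfl⟩ := hπ w
          rw [he'] at hw
          obtain ⟨z, rfl⟩ := (hex' w).1 hw
          exact (hex _).2 ⟨c * z, (hcc z).symm⟩
        · obtain ⟨w, rfl⟩ := hπ' w
          exact ⟨π w, he' w⟩
      obtain ⟨f, hf, hff⟩ := ih W1 h1 t (t'.pull (LinearEquiv.ofBijective e hebij))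
      refine ⟨f * c, mul_ne_zero hf hc0, fun A _ _ _ _ hC R hR => ?_⟩
      have hmap : (R.map (π.restrictScalars A)).map
          ((LinearEquiv.ofBijective e hebij).toLinearMap.restrictScalars A) = R.map (π'.restrictScalars A) := by
        rw [← Submodule.map_comp]
        congr 1
        exact LinearMap.ext fun w => he' w
      have hcomap : R.comap (ι.restrictScalars A) =
          (R.comap (ι'.restrictScalars A)).map (mulMap (A := A) c) := by
        ext z
        simp only [Submodule.mem_comap, Submodule.mem_map, LinearMap.restrictScalars_apply,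
          LinearMap.mulLeft_apply]
        constructor
        · intro hz
          refine ⟨c⁻¹ * z, ?_, mul_inv_cancel_left₀ hc0 z⟩
          rwa [hcc, mul_inv_cancel_left₀ hc0]
        · rintro ⟨y, hy, rfl⟩
          rwa [← hcc]
      simp only [inv]
      rw [hff A hC _ (hR.map π hπ), inv_pull, hmap, hcomap, idx_mul hC (hR.comap hC ι' hι') hc0,
        ordI_mul hC hf hc0]
      ring
    · -- different first steps
      push Not at hc
      have hdisj : ∀ k k' : K, ι k = ι' k' → k' = 0 ∧ k = 0 := fun k k' e => by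
        have hk' : k' = 0 := by_contra fun h => hc k k' h e
        exact ⟨hk', hι (by rw [e, hk', map_zero, map_zero])⟩
      let U : Submodule B W := LinearMap.range ι ⊔ LinearMap.range ι'
      let W3 : ModuleCat.{u} B := ModuleCat.of B (W ⧸ U)
      obtain ⟨q1, hq1⟩ : ∃ q : W1 →ₗ[B] W3, ∀ w, q (π w) = U.mkQ w := exists_desc π hπ U.mkQ fun w hw =>
        (Submodule.Quotient.mk_eq_zero _).2 (Submodule.mem_sup_left ((hex w).1 hw))
      obtain ⟨q2, hq2⟩ : ∃ q : W2 →ₗ[B] W3, ∀ w, q (π' w) = U.mkQ w := exists_desc π' hπ' U.mkQ fun w hw =>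
        (Submodule.Quotient.mk_eq_zero _).2 (Submodule.mem_sup_right ((hex' w).1 hw))
      have hi1 : Function.Injective (π.comp ι') := (injective_iff_map_eq_zero _).2 fun z hz => by
        obtain ⟨k, hk⟩ := (hex (ι' z)).1 hz
        exact (hdisj k z hk).1
      have hi2 : Function.Injective (π'.comp ι) := (injective_iff_map_eq_zero _).2 fun z hz => by
        obtain ⟨k, hk⟩ := (hex' (ι z)).1 hz
        exact (hdisj z k hk.symm).2
      have hs1 : Function.Surjective q1 := fun y => by
        obtain ⟨w, rfl⟩ := Submodule.mkQ_surjective U y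
        exact ⟨π w, hq1 w⟩
      have hs2 : Function.Surjective q2 := fun y => by
        obtain ⟨w, rfl⟩ := Submodule.mkQ_surjective U y
        exact ⟨π' w, hq2 w⟩
      have he1 : Function.Exact (π.comp ι') q1 := fun y => by
        obtain ⟨w, rfl⟩ := hπ y
        rw [hq1]
        constructor
        · intro h
          obtain ⟨_, ⟨a, rfl⟩, _, ⟨b, rfl⟩, e⟩ := Submodule.mem_sup.1 ((Submodule.Quotient.mk_eq_zero U).1 h)
          exact ⟨b, by rw [← e, map_add, (hex (ι a)).2 ⟨a, rfl⟩, zero_add]; rfl⟩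
        · rintro ⟨b, hb⟩
          obtain ⟨a, ha⟩ := (hex (w - ι' b)).1 (by rw [map_sub, ← hb]; exact sub_self _)
          exact (Submodule.Quotient.mk_eq_zero U).2
            (Submodule.mem_sup.2 ⟨ι a, ⟨a, rfl⟩, ι' b, ⟨b, rfl⟩, by rw [ha, sub_add_cancel]⟩)
      have he2 : Function.Exact (π'.comp ι) q2 := fun y => by
        obtain ⟨w, rfl⟩ := hπ' y
        rw [hq2]
        constructor
        · intro h
          obtain ⟨_, ⟨a, rfl⟩, _, ⟨b, rfl⟩, e⟩ := Submodule.mem_sup.1 ((Submodule.Quotient.mk_eq_zero U).1 h)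
          exact ⟨a, by rw [← e, map_add, (hex' (ι' b)).2 ⟨b, rfl⟩, add_zero]; rfl⟩
        · rintro ⟨a, ha⟩
          obtain ⟨b, hb⟩ := (hex' (w - ι a)).1 (by rw [map_sub, ← ha]; exact sub_self _)
          exact (Submodule.Quotient.mk_eq_zero U).2
            (Submodule.mem_sup.2 ⟨ι a, ⟨a, rfl⟩, ι' b, ⟨b, rfl⟩, by rw [hb, add_sub_cancel]⟩)
      have h3 : Module.length B W3 ≤ (n : ℕ∞) := (Module.length_le_of_surjective q1 hs1).trans h1
      obtain ⟨t3⟩ := exists_mark hsurj n W3 h3
      obtain ⟨f1, hf1, hff1⟩ := ih W1 h1 t (.cons (π.comp ι') q1 hi1 hs1 he1 t3)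
      obtain ⟨f2, hf2, hff2⟩ := ih W2 h2 t' (.cons (π'.comp ι) q2 hi2 hs2 he2 t3)
      refine ⟨f1 * f2⁻¹, mul_ne_zero hf1 (inv_ne_zero hf2), fun A _ _ _ _ hC R hR => ?_⟩
      have hinv : ordI A f2⁻¹ = - ordI A f2 := by
        have h := ordI_mul hC hf2 (inv_ne_zero hf2)
        rw [mul_inv_cancel₀ hf2, ordI_one hC] at h
        omega
      simp only [inv]
      rw [hff1 A hC _ (hR.map π hπ), hff2 A hC _ (hR.map π' hπ'), ordI_mul hC hf1 (inv_ne_zero hf2), hinv]
      simp only [inv]
      have hT : (R.map (π.restrictScalars A)).map (q1.restrictScalars A) =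
          (R.map (π'.restrictScalars A)).map (q2.restrictScalars A) := by
        rw [← Submodule.map_comp, ← Submodule.map_comp]
        congr 1
        exact LinearMap.ext fun w => (hq1 w).trans (hq2 w).symm
      rw [hT]
      set a := R.comap (ι.restrictScalars A) with ha
      set a' := R.comap (ι'.restrictScalars A) with ha'
      set b := (R.map (π'.restrictScalars A)).comap ((π'.comp ι).restrictScalars A) with hb
      set b' := (R.map (π.restrictScalars A)).comap ((π.comp ι').restrictScalars A) with hb'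
      have hab : a ≤ b := fun z hz => ⟨ι z, hz, rfl⟩
      have hab' : a' ≤ b' := fun z hz => ⟨ι' z, hz, rfl⟩
      have e1 := idx_mono hC (hR.comap hC ι hι) ((hR.map π' hπ').comap hC (π'.comp ι) hi2) hab
      have e2 := idx_mono hC (hR.comap hC ι' hι') ((hR.map π hπ).comap hC (π.comp ι') hi1) hab'
      let T : Submodule A (K × K) := R.comap ((ι.restrictScalars A).coprod (ι'.restrictScalars A))
      have hTm : ∀ z : K × K, z ∈ T ↔ ι z.1 + ι' z.2 ∈ R := fun z => Iff.rfl
      have k1 : ∀ z : T, (z : K × K).1 ∈ a ↔ z ∈ (a.prod a').comap T.subtype := fun z => by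
        refine ⟨fun h => ⟨h, ?_⟩, fun h => h.1⟩
        have := R.sub_mem ((hTm _).1 z.2) (show ι (z : K × K).1 ∈ R from h)
        rwa [add_sub_cancel_left] at this
      have k2 : ∀ z : T, (z : K × K).2 ∈ a' ↔ z ∈ (a.prod a').comap T.subtype := fun z => by
        refine ⟨fun h => ⟨?_, h⟩, fun h => h.2⟩
        have := R.sub_mem ((hTm _).1 z.2) (show ι' (z : K × K).2 ∈ R from h)
        rwa [add_sub_cancel_right] at this
      have r1 : LinearMap.range ((LinearMap.fst A K K).comp T.subtype) = b := by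
        ext k
        constructor
        · rintro ⟨z, rfl⟩
          refine ⟨ι (z : K × K).1 + ι' (z : K × K).2, z.2, ?_⟩
          show π' (_ + _) = π' (ι _)
          rw [map_add, (hex' (ι' _)).2 ⟨_, rfl⟩, add_zero]
          rfl
        · rintro ⟨r, hr, he⟩
          obtain ⟨j, hj⟩ := (hex' (r - ι k)).1 (by rw [map_sub, sub_eq_zero]; exact he)
          exact ⟨⟨(k, j), (hTm _).2 (by rw [hj, add_sub_cancel]; exact hr)⟩, rfl⟩
      have r2 : LinearMap.range ((LinearMap.snd A K K).comp T.subtype) = b' := by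
        ext k
        constructor
        · rintro ⟨z, rfl⟩
          refine ⟨ι (z : K × K).1 + ι' (z : K × K).2, z.2, ?_⟩
          show π (_ + _) = π (ι' _)
          rw [map_add, (hex (ι _)).2 ⟨_, rfl⟩, zero_add]
          rfl
        · rintro ⟨r, hr, he⟩
          obtain ⟨j, hj⟩ := (hex (r - ι' k)).1 (by rw [map_sub, sub_eq_zero]; exact he)
          exact ⟨⟨(j, k), (hTm _).2 (by rw [hj, sub_add_cancel]; exact hr)⟩, rfl⟩
      have key : relLen a b = relLen a' b' :=
        (relLen_eq_length_quot _ a b _ k1 r1).trans (relLen_eq_length_quot _ a' b' _ k2 r2).symm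
      rw [key] at e1
      linarith

omit hsurj in
/-- Markings concatenate along short exact sequences. -/
theorem exists_cat : ∀ {W' : ModuleCat.{u} B} (m' : Mark B K W') {W W'' : ModuleCat.{u} B}
    (i : W' →ₗ[B] W) (p : W →ₗ[B] W''), Function.Injective i → Function.Surjective p →
    Function.Exact i p → ∀ m'' : Mark B K W'', ∃ m : Mark B K W,
      ∀ (A : Type u) [CommRing A] [Algebra A B] [Algebra A K] [IsScalarTower A B K] (R : Submodule A W),
        inv A m R = inv A m' (R.comap (i.restrictScalars A)) + inv A m'' (R.map (p.restrictScalars A)) := by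
  intro W' m'
  induction m' with
  | nil W' h =>
    intro W W'' i p hi hp hip m''
    have hbij : Function.Bijective p := ⟨(injective_iff_map_eq_zero p).2 fun w hw => by
      obtain ⟨v, rfl⟩ := (hip w).1 hw
      rw [Subsingleton.elim v 0, map_zero], hp⟩
    refine ⟨m''.pull (LinearEquiv.ofBijective p hbij), fun A _ _ _ _ R => ?_⟩
    rw [inv_pull]
    exact (zero_add _).symm
  | @cons W' W1' ι π hι hπ hex t ih =>
    intro W W'' i p hi hp hip m''
    let U : Submodule B W := LinearMap.range (i.comp ι)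
    let W1 : ModuleCat.{u} B := ModuleCat.of B (W ⧸ U)
    obtain ⟨i1, hi1⟩ : ∃ g : W1' →ₗ[B] W1, ∀ w, g (π w) = U.mkQ (i w) :=
      exists_desc π hπ (U.mkQ.comp i) fun w hw => by
        obtain ⟨z, rfl⟩ := (hex w).1 hw
        exact (Submodule.Quotient.mk_eq_zero U).2 ⟨z, rfl⟩
    let p1 : W1 →ₗ[B] W'' := U.liftQ p (by
      rintro _ ⟨z, rfl⟩
      exact LinearMap.mem_ker.2 ((hip _).2 ⟨ι z, rfl⟩))
    have hinj1 : Function.Injective i1 := (injective_iff_map_eq_zero _).2 fun w hw => by
      obtain ⟨w, rfl⟩ := hπ w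
      rw [hi1] at hw
      obtain ⟨z, hz⟩ := (Submodule.Quotient.mk_eq_zero U).1 hw
      exact (hex w).2 ⟨z, hi hz⟩
    have hsurj1 : Function.Surjective p1 := fun y => let ⟨w, hw⟩ := hp y; ⟨U.mkQ w, hw⟩
    have hex1 : Function.Exact i1 p1 := fun y => by
      obtain ⟨w, rfl⟩ := Submodule.mkQ_surjective U y
      constructor
      · intro h
        obtain ⟨v, rfl⟩ := (hip w).1 h
        exact ⟨π v, hi1 v⟩
      · rintro ⟨v, hv⟩
        obtain ⟨v, rfl⟩ := hπ v
        rw [← hv, hi1]
        exact (hip _).2 ⟨v, rfl⟩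
    obtain ⟨m1, hm1⟩ := ih i1 p1 hinj1 hsurj1 hex1 m''
    refine ⟨.cons (W' := W1) (i.comp ι) U.mkQ (hi.comp hι) (Submodule.mkQ_surjective _)
      (LinearMap.exact_map_mkQ_range _) m1, fun A _ _ _ _ R => ?_⟩
    simp only [inv]
    rw [hm1 A]
    have e1 : (R.map (U.mkQ.restrictScalars A)).map (p1.restrictScalars A) = R.map (p.restrictScalars A) :=
      (Submodule.map_comp _ _ _).symm
    have e2 : (R.map (U.mkQ.restrictScalars A)).comap (i1.restrictScalars A) =
        (R.comap (i.restrictScalars A)).map (π.restrictScalars A) := by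
      ext y
      constructor
      · rintro ⟨r, hr, he⟩
        obtain ⟨v, rfl⟩ := hπ y
        have he2 : U.mkQ r = U.mkQ (i v) := he.trans (hi1 v)
        obtain ⟨z, hz⟩ := (Submodule.Quotient.eq U).1 he2
        refine ⟨v + ι z, ?_, ?_⟩
        · show i (v + ι z) ∈ R
          rw [map_add, show i (ι z) = r - i v from hz, add_sub_cancel]
          exact hr
        · show π (v + ι z) = π v
          rw [map_add, (hex (ι z)).2 ⟨z, rfl⟩, add_zero]
      · rintro ⟨v, hv, rfl⟩
        exact ⟨i v, hv, (hi1 v).symm⟩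
    rw [e1, e2, ← add_assoc]
    rfl

end build

end GrothLib.PBDeg.Lat

end
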