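import Groth.Agent.Lib.PBDeg17.LatStalk
import Groth.Agent.Lib.K0Sub.Basic
import Groth.Prelude.Def_ChowK

/-!
# The refined class of a coherent module of dimension `≤ k + 1` modulo rational equivalence
-/

set_option autoImplicit false
set_option linter.style.haveILetI false
set_option linter.unusedVariables false
set_option linter.unusedSectionVars false

universe u

open CategoryTheory AlgebraicGeometry GrothLib.CycDiv

noncomputable section

namespace GrothLib.PBDeg.KPhi

open GrothLib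

variable {X : Scheme.{u}} {δ : X → ℤ} {k : ℤ}

/-- A marking at every point of dimension `k + 1`. -/
abbrev Choice (δ : X → ℤ) (k : ℤ) (F : X.Modules) : Type (u + 1) :=
  (z : X) → δ z = k + 1 → Lat.Mark (X.presheaf.stalk z) (X.residueField z) (stk F z)

section atPoint

variable {x : X} (F : X.Modules) (S : Gens δ k x)

/-- The target of the comparison. -/
abbrev P : Type u := (g : Pt S) → ↥(R F g)

/-- The comparison map. -/
def mu : stk F x →ₗ[X.presheaf.stalk x] P F S := LinearMap.pi fun g => (specLin F g).rangeRestrict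

theorem mem_ker_mu {m : stk F x} : m ∈ LinearMap.ker (mu F S) ↔ ∀ g : Pt S, specLin F g m = 0 := by
  rw [LinearMap.mem_ker]
  exact ⟨fun h g => congrArg Subtype.val (congrFun h g), fun h => funext fun g => Subtype.ext (h g)⟩

/-- The Euler characteristic of the comparison. -/
def chi : ℤ :=
  ((Module.length (X.presheaf.stalk x) (LinearMap.ker (mu F S))).toNat : ℤ) -
    ((Module.length (X.presheaf.stalk x) (P F S ⧸ LinearMap.range (mu F S))).toNat : ℤ)

/-- The sum of the indices. -/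
def invSum (m : Choice δ k F) : ℤ :=
  ∑ g : Pt S, Lat.inv (X.presheaf.stalk x) (m g.val g.lev) (R F g)

/-- The set contains all the relevant points. -/
def Covers : Prop :=
  ∀ z : X, z ⤳ x → δ z = k + 1 → Nontrivial (F.presheaf.stalk z) → z ∈ S.s

/-- The local invariant. -/
def phiAt (m : Choice δ k F) : ℤ := chi F S - invSum F S m

variable {F S}

theorem sum_pt {M : Type*} [AddCommMonoid M] (a : X → M) : ∑ g : Pt S, a g.val = ∑ z ∈ S.s, a z :=
  Finset.sum_bij (fun g _ => g.val) (fun g _ => g.mem) (fun g _ g' _ e => Pt.ext' e)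
    (fun z hz => ⟨⟨z, hz⟩, Finset.mem_univ _, rfl⟩) (fun _ _ => rfl)

theorem exists_mem_notMem {x z z' : X} (h : z ⤳ x) (h' : z' ⤳ x) (hn : ¬ z' ⤳ z) :
    ∃ a ∈ primeOf h', a ∉ primeOf h := by
  by_contra hc
  push Not at hc
  refine hn ?_
  have hle : PrimeSpectrum.comap (X.presheaf.stalkSpecializes h').hom (IsLocalRing.closedPoint _) ≤
      PrimeSpectrum.comap (X.presheaf.stalkSpecializes h).hom (IsLocalRing.closedPoint _) := by
    intro a ha
    rw [← CycBasic.ker_specMap h'] at ha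
    rw [← CycBasic.ker_specMap h]
    exact hc a ha
  have := CycBasic.le_iff_specializes.1 hle
  rwa [CycBasic.fromSpecStalk_comap_closedPoint, CycBasic.fromSpecStalk_comap_closedPoint] at this

theorem delta_lt (hδ : Cyc.IsDimFun X δ) (hx : δ x = k) {z : X} (h : z ⤳ x) (hne : z ≠ x) : k < δ z := by
  have := (hδ z x h hne).1
  omega

theorem finite_ker [IsLocallyNoetherian X] (hδ : Cyc.IsDimFun X δ) (hx : δ x = k)
    (hF : Cyc.CohLe δ (k + 1) F) (hS : Covers F S) :
    Module.length (X.presheaf.stalk x) (LinearMap.ker (mu F S)) ≠ ⊤ := by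
  haveI := hF.1.1
  haveI : Module.Finite (X.presheaf.stalk x) (stk F x) := QuasiFlat.finite_stalk F hF.1 x
  refine length_ne_top fun z hz hne m => ?_
  have h0 : specHom F hz (m : stk F x) = 0 := by
    rcases subsingleton_or_nontrivial (F.presheaf.stalk z) with h | h
    · haveI : Subsingleton (stk F z) := h
      exact Subsingleton.elim _ _
    · have h1 := hF.2 z h
      have h2 := delta_lt hδ hx hz hne
      exact (mem_ker_mu F S).1 m.2 ⟨z, hS z hz (by omega) h⟩
  obtain ⟨s, hs, he⟩ := exists_smul_eq_zero F hz (m : stk F x) h0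
  exact ⟨s, hs, Subtype.ext he⟩

theorem exists_kill [IsLocallyNoetherian X] (hδ : Cyc.IsDimFun X δ) (hx : δ x = k)
    (hF : Cyc.CohLe δ (k + 1) F) {z : X} (hz : z ⤳ x) (hne : z ≠ x) (g : Pt S) (hg : g.val ≠ z)
    (w : stk F g.val) : ∃ s : X.presheaf.stalk x, s ∉ primeOf hz ∧
      (X.presheaf.stalkSpecializes g.sp).hom s • w = 0 := by
  haveI := hF.1.1
  rcases eq_or_ne w 0 with rfl | hw
  · exact ⟨1, (inferInstance : (primeOf hz).IsPrime).one_notMem, smul_zero _⟩
  have hn : ¬ g.val ⤳ z := fun h => by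
    have h1 := (hδ _ _ h hg).1
    have h2 := delta_lt hδ hx hz hne
    have := g.lev
    omega
  obtain ⟨a, ha, ha'⟩ := exists_mem_notMem hz g.sp hn
  obtain ⟨n, hn'⟩ := CycBasic.maximalIdeal_le_radical (maximal_of_le hδ hF.2 g.lev) hw
    ((mem_primeOf_iff g.sp a).1 ha)
  refine ⟨a ^ n, fun h => ha' ((inferInstance : (primeOf hz).IsPrime).mem_of_pow_mem n h), ?_⟩
  rw [map_pow]
  exact hn'

theorem finite_coker [IsLocallyNoetherian X] (hδ : Cyc.IsDimFun X δ) (hx : δ x = k)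
    (hF : Cyc.CohLe δ (k + 1) F) :
    Module.length (X.presheaf.stalk x) (P F S ⧸ LinearMap.range (mu F S)) ≠ ⊤ := by
  classical
  haveI : ∀ g : Pt S, Module.Finite (X.presheaf.stalk x) (R F g) := fun g =>
    Module.Finite.of_fg (isLat_R F hF.1 g).1
  refine length_ne_top fun z hz hne q => ?_
  obtain ⟨v, rfl⟩ := Submodule.mkQ_surjective _ q
  -- adjust the coordinate at `z`
  obtain ⟨m₀, hm₀⟩ : ∃ m₀ : stk F x, ∀ g : Pt S, g.val = z → specLin F g m₀ = (v g : stk F g.val) := by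
    by_cases hzS : z ∈ S.s
    · obtain ⟨m₀, hm₀⟩ := (v ⟨z, hzS⟩).2
      refine ⟨m₀, fun g hg => ?_⟩
      obtain rfl : g = ⟨z, hzS⟩ := Pt.ext' hg
      exact hm₀
    · exact ⟨0, fun g hg => absurd (hg ▸ g.mem) hzS⟩
  have key : ∀ g : Pt S, ∃ s : X.presheaf.stalk x, s ∉ primeOf hz ∧
      (X.presheaf.stalkSpecializes g.sp).hom s • ((v g : stk F g.val) - specLin F g m₀) = 0 := by
    intro g
    by_cases hg : g.val = z
    · exact ⟨1, (inferInstance : (primeOf hz).IsPrime).one_notMem, by rw [hm₀ g hg, sub_self, smul_zero]⟩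
    · exact exists_kill hδ hx hF hz hne g hg _
  choose s hs hs0 using key
  refine ⟨∏ g, s g, fun h => ?_, ?_⟩
  · obtain ⟨g, -, hg⟩ := (Ideal.IsPrime.prod_mem_iff (p := primeOf hz)).1 h
    exact hs g hg
  rw [← map_smul]
  refine (Submodule.Quotient.mk_eq_zero _).2 ⟨(∏ g, s g) • m₀, funext fun g => Subtype.ext ?_⟩
  show specLin F g ((∏ g, s g) • m₀) = ((∏ g, s g) • (v g : stk F g.val))
  rw [map_smul, eq_comm, ← sub_eq_zero, ← smul_sub, ← Finset.prod_erase_mul _ s (Finset.mem_univ g),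
    mul_smul]
  exact (congrArg (_ • ·) (hs0 g)).trans (smul_zero _)

theorem phiAt_mono {S' : Gens δ k x} (hS : Covers F S) (hsub : S.s ⊆ S'.s) (m : Choice δ k F) :
    phiAt F S' m = phiAt F S m := by
  classical
  let up : Pt S → Pt S' := fun g => ⟨g.val, hsub g.mem⟩
  have htriv : ∀ g : Pt S', g.val ∉ S.s → Subsingleton (stk F g.val) := fun g hg =>
    not_nontrivial_iff_subsingleton.1 fun h => hg (hS g.val g.sp g.lev h)
  let r : P F S' →ₗ[X.presheaf.stalk x] P F S :=
    { toFun := fun v g => ⟨((v (up g)) : stk F g.val), (v (up g)).2⟩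
      map_add' := fun _ _ => rfl
      map_smul' := fun _ _ => rfl }
  have hr : Function.Bijective r := by
    refine ⟨fun v w e => funext fun g => Subtype.ext ?_, fun v => ?_⟩
    · by_cases hg : g.val ∈ S.s
      · exact congrArg (fun t : P F S => ((t ⟨g.val, hg⟩ : R F _) : stk F g.val)) e
      · haveI := htriv g hg
        exact Subsingleton.elim _ _
    · refine ⟨fun g => if hg : g.val ∈ S.s then ⟨((v ⟨g.val, hg⟩ : R F _) : stk F g.val),
        (v ⟨g.val, hg⟩).2⟩ else 0, funext fun g => Subtype.ext ?_⟩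
      show ((if hg : (up g).val ∈ S.s then _ else _ : R F (up g)) : stk F g.val) = _
      rw [dif_pos g.mem]
  let e := LinearEquiv.ofBijective r hr
  have hker : LinearMap.ker (mu F S') = LinearMap.ker (mu F S) := by
    ext m
    rw [mem_ker_mu, mem_ker_mu]
    refine ⟨fun h g => h (up g), fun h g => ?_⟩
    by_cases hg : g.val ∈ S.s
    · exact h ⟨g.val, hg⟩
    · haveI := htriv g hg
      exact Subsingleton.elim _ _
  have hrange : (LinearMap.range (mu F S')).map (e : P F S' →ₗ[X.presheaf.stalk x] P F S) =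
      LinearMap.range (mu F S) := by
    rw [← LinearMap.range_comp]
    rfl
  have hinv : invSum F S' m = invSum F S m := by
    let upE : Pt S ↪ Pt S' := ⟨up, fun g g' e => Pt.ext' (g := g) (g' := g') (show (up g).val = (up g').val by rw [e])⟩
    rw [invSum, invSum, ← Finset.sum_subset (Finset.subset_univ (Finset.univ.map upE)) (fun g _ hg => ?_),
      Finset.sum_map]
    · rfl
    · exact Lat.inv_subsingleton _ (htriv g fun h =>
        hg (Finset.mem_map.2 ⟨⟨g.val, h⟩, Finset.mem_univ _, rfl⟩)) _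
  rw [phiAt, phiAt, hinv, chi, chi, hker,
    (Submodule.Quotient.equiv _ _ e hrange).length_eq]

end atPoint

open Classical in
/-- The relevant points above `x`. -/
def gens (δ : X → ℤ) (k : ℤ) (F : X.Modules) (x : X) : Gens δ k x :=
  if h : {z | z ⤳ x ∧ δ z = k + 1 ∧ Nontrivial (F.presheaf.stalk z)}.Finite then
    ⟨h.toFinset, fun z hz => ⟨(h.mem_toFinset.1 hz).1, (h.mem_toFinset.1 hz).2.1⟩⟩
  else ⟨∅, fun z hz => absurd hz (Finset.notMem_empty z)⟩

theorem finite_gens [IsLocallyNoetherian X] (hδ : Cyc.IsDimFun X δ) {F : X.Modules}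
    (hF : Cyc.CohLe δ (k + 1) F) (x : X) :
    {z | z ⤳ x ∧ δ z = k + 1 ∧ Nontrivial (F.presheaf.stalk z)}.Finite := by
  obtain ⟨U, hx, hfin⟩ := locFin_level hδ hF.1 hF.2 x
  exact hfin.subset fun z hz => ⟨hz.1.mem_open U.2 hx, hz.2⟩

theorem mem_gens [IsLocallyNoetherian X] (hδ : Cyc.IsDimFun X δ) {F : X.Modules}
    (hF : Cyc.CohLe δ (k + 1) F) {x z : X} :
    z ∈ (gens δ k F x).s ↔ z ⤳ x ∧ δ z = k + 1 ∧ Nontrivial (F.presheaf.stalk z) := by
  rw [gens, dif_pos (finite_gens hδ hF x)]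
  exact (finite_gens hδ hF x).mem_toFinset

theorem covers_gens [IsLocallyNoetherian X] (hδ : Cyc.IsDimFun X δ) {F : X.Modules}
    (hF : Cyc.CohLe δ (k + 1) F) (x : X) : Covers F (gens δ k F x) :=
  fun z h1 h2 h3 => (mem_gens hδ hF).2 ⟨h1, h2, h3⟩

open Classical in
/-- The invariant. -/
def phi (F : X.Modules) (m : Choice δ k F) : X → ℤ :=
  fun x => if δ x = k then phiAt F (gens δ k F x) m else 0

theorem phi_eq [IsLocallyNoetherian X] (hδ : Cyc.IsDimFun X δ) {F : X.Modules}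
    (hF : Cyc.CohLe δ (k + 1) F) (m : Choice δ k F) {x : X} (hx : δ x = k) (S : Gens δ k x)
    (hS : Covers F S) : phi F m x = phiAt F S m := by
  rw [phi, if_pos hx]
  refine (phiAt_mono (covers_gens hδ hF x) (fun z hz => ?_) m).symm
  obtain ⟨h1, h2, h3⟩ := (mem_gens hδ hF).1 hz
  exact hS z h1 h2 h3

theorem residue_surj (z : X) :
    Function.Surjective (algebraMap (X.presheaf.stalk z) (X.residueField z)) := X.residue_surjective z

theorem length_stk_ne_top [IsLocallyNoetherian X] (hδ : Cyc.IsDimFun X δ) {F : X.Modules}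
    (hF : Cyc.CohLe δ (k + 1) F) {z : X} (hz : δ z = k + 1) :
    Module.length (X.presheaf.stalk z) (stk F z) ≠ ⊤ :=
  (CycBasic.length_lt_top_of_maximal hF.1 (maximal_of_le hδ hF.2 hz)).ne

theorem nonempty_choice [IsLocallyNoetherian X] (hδ : Cyc.IsDimFun X δ) {F : X.Modules}
    (hF : Cyc.CohLe δ (k + 1) F) : Nonempty (Choice δ k F) := by
  have : ∀ (z : X), δ z = k + 1 →
      Nonempty (Lat.Mark (X.presheaf.stalk z) (X.residueField z) (stk F z)) := fun z hz => by
    obtain ⟨n, hn⟩ := ENat.ne_top_iff_exists.1 (length_stk_ne_top hδ hF hz)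
    exact Lat.exists_mark (residue_surj z) n _ hn.ge
  exact ⟨fun z hz => (this z hz).some⟩

theorem rz_phi_sub [IsLocallyNoetherian X] (hδ : Cyc.IsDimFun X δ) {F : X.Modules}
    (hF : Cyc.CohLe δ (k + 1) F) (m m' : Choice δ k F) : C1.RZ δ k (phi F m - phi F m') := by
  classical
  have key : ∀ (z : X), ∃ f : X.residueField z, f ≠ 0 ∧
      (f ≠ 1 → δ z = k + 1 ∧ Nontrivial (F.presheaf.stalk z)) ∧
      ∀ hz : δ z = k + 1, ∀ (x : X) (S : Gens δ k x) (g : Pt S) (e : g.val = z), δ x = k →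
        Lat.inv (X.presheaf.stalk x) (m g.val g.lev) (R F g) =
          Lat.inv (X.presheaf.stalk x) (m' g.val g.lev) (R F g) + Cyc.divFun δ z f x := by
    intro z
    by_cases hz : δ z = k + 1 ∧ Nontrivial (F.presheaf.stalk z)
    · obtain ⟨n, hn⟩ := ENat.ne_top_iff_exists.1 (length_stk_ne_top hδ hF hz.1)
      obtain ⟨f, hf, hff⟩ := Lat.exists_change (residue_surj z) n _ hn.ge (m z hz.1) (m' z hz.1)
      refine ⟨f, hf, fun _ => hz, fun _ x S g e hx => ?_⟩
      subst e
      rw [hff (X.presheaf.stalk x) (cx hδ hx g) _ (isLat_R F hF.1 g), ordI_eq_ordAt hδ hx g hf,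
        Cyc.divFun, dif_pos ⟨g.sp, by rw [hx]; exact g.lev.symm⟩]
    · refine ⟨1, one_ne_zero, fun h => absurd rfl h, fun hz' x S g e hx => ?_⟩
      subst e
      have hs : Subsingleton (stk F g.val) := not_nontrivial_iff_subsingleton.1 fun h => hz ⟨hz', h⟩
      rw [Lat.inv_subsingleton _ hs, Lat.inv_subsingleton _ hs, C1.divFun_one hδ, add_zero]
  choose f hf0 hf1 hf using key
  have hrz : C1.RZ δ k (fun x => ∑ᶠ z, Cyc.divFun δ z (f z) x) := by
    refine ⟨f, hf0, fun x => ?_, fun z hz => (hf1 z hz).1, fun x => rfl⟩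
    obtain ⟨U, hx, hfin⟩ := locFin_level hδ hF.1 hF.2 x
    exact ⟨U, hx, hfin.subset fun z hz => ⟨hz.1, hf1 z hz.2⟩⟩
  refine (hrz.neg hδ).congr fun x => ?_
  have hsupp : ∀ z, Cyc.divFun δ z (f z) x ≠ 0 →
      z ⤳ x ∧ δ x = k ∧ δ z = k + 1 ∧ Nontrivial (F.presheaf.stalk z) := fun z hz => by
    have h1 : f z ≠ 1 := fun h => hz (by rw [h, C1.divFun_one hδ])
    obtain ⟨h2, h3⟩ := C1.divFun_ne_zero hz
    have := (hf1 z h1).1
    exact ⟨h2, by omega, hf1 z h1⟩
  rw [Pi.sub_apply, Pi.neg_apply, phi, phi]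
  by_cases hx : δ x = k
  · rw [if_pos hx, if_pos hx, finsum_eq_sum_of_support_subset _ (s := (gens δ k F x).s)
      (fun z hz => (mem_gens hδ hF).2 ⟨(hsupp z hz).1, (hsupp z hz).2.2⟩)]
    rw [← sum_pt (S := gens δ k F x) (fun z => Cyc.divFun δ z (f z) x), phiAt, phiAt, invSum, invSum,
      Finset.sum_congr rfl fun g _ => hf g.val g.lev x _ g rfl hx, Finset.sum_add_distrib]
    ring
  · rw [if_neg hx, if_neg hx, finsum_eq_zero_of_forall_eq_zero fun z => by_contra fun h => hx (hsupp z h).2.1]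
    simp

theorem phi_of_cohLe [IsLocallyNoetherian X] (hδ : Cyc.IsDimFun X δ) {F : X.Modules}
    (hF : Cyc.CohLe δ k F) (m : Choice δ k F) : phi F m = Cyc.sheafFun δ k F := by
  funext x
  by_cases hx : δ x = k
  · let S : Gens δ k x := ⟨∅, fun z hz => absurd hz (Finset.notMem_empty z)⟩
    have hS : Covers F S := fun z _ h2 h3 => absurd (hF.2 z h3) (by omega)
    haveI hempty : IsEmpty (Pt S) := ⟨fun g => Finset.notMem_empty _ g.mem⟩
    rw [phi_eq hδ ⟨hF.1, fun z hz => (hF.2 z hz).trans (by omega)⟩ m hx S hS, phiAt, chi, invSum,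
      Finset.univ_eq_empty, Finset.sum_empty, Cyc.sheafFun, if_pos hx,
      Module.length_eq_zero (R := X.presheaf.stalk x) (M := P F S ⧸ LinearMap.range (mu F S)),
      show LinearMap.ker (mu F S) = ⊤ from LinearMap.ker_eq_top.2 (Subsingleton.elim _ _),
      Module.length_top]
    simp
    rfl
  · rw [phi, if_neg hx, Cyc.sheafFun, if_neg hx]

/-- A morphism on stalks. -/
def stL {F G : X.Modules} (f : F ⟶ G) (z : X) : stk F z →ₗ[X.presheaf.stalk z] stk G z := QCoh.stalkLin f z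

theorem stL_injective {F G : X.Modules} (f : F ⟶ G) [Mono f] (z : X) : Function.Injective (stL f z) :=
  QCoh.stalkLin_injective f z

theorem stL_surjective {F G : X.Modules} (f : F ⟶ G) [Epi f] (z : X) : Function.Surjective (stL f z) :=
  QCoh.stalkLin_surjective f z

/-- The length identity for a family of lattices in a family of short exact sequences. -/
theorem chi_family {A : Type u} [CommRing A] {ι : Type u} [Fintype ι] {M₁ M₂ M₃ : Type u}
    [AddCommGroup M₁] [Module A M₁] [AddCommGroup M₂] [Module A M₂] [AddCommGroup M₃] [Module A M₃]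
    {N₁ N₂ N₃ : ι → Type u} [∀ i, AddCommGroup (N₁ i)] [∀ i, Module A (N₁ i)]
    [∀ i, AddCommGroup (N₂ i)] [∀ i, Module A (N₂ i)] [∀ i, AddCommGroup (N₃ i)] [∀ i, Module A (N₃ i)]
    (a : M₁ →ₗ[A] M₂) (b : M₂ →ₗ[A] M₃) (ha : Function.Injective a) (hb : Function.Surjective b)
    (hab : Function.Exact a b)
    (f : ∀ i, N₁ i →ₗ[A] N₂ i) (g : ∀ i, N₂ i →ₗ[A] N₃ i) (hf : ∀ i, Function.Injective (f i))
    (hfg : ∀ i, Function.Exact (f i) (g i))
    (s₁ : ∀ i, M₁ →ₗ[A] N₁ i) (s₂ : ∀ i, M₂ →ₗ[A] N₂ i) (s₃ : ∀ i, M₃ →ₗ[A] N₃ i)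
    (h1 : ∀ i m, s₂ i (a m) = f i (s₁ i m)) (h2 : ∀ i m, s₃ i (b m) = g i (s₂ i m)) :
    Module.length A (LinearMap.ker (LinearMap.pi fun i => (s₂ i).rangeRestrict)) +
        (Module.length A (((i : ι) → ↥(LinearMap.range (s₁ i))) ⧸
            LinearMap.range (LinearMap.pi fun i => (s₁ i).rangeRestrict)) +
          ∑ i, CycDetL.relLen (LinearMap.range (s₁ i)) ((LinearMap.range (s₂ i)).comap (f i))) +
        Module.length A (((i : ι) → ↥(LinearMap.range (s₃ i))) ⧸
            LinearMap.range (LinearMap.pi fun i => (s₃ i).rangeRestrict)) =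
      Module.length A (LinearMap.ker (LinearMap.pi fun i => (s₁ i).rangeRestrict)) +
        Module.length A (LinearMap.ker (LinearMap.pi fun i => (s₃ i).rangeRestrict)) +
        Module.length A (((i : ι) → ↥(LinearMap.range (s₂ i))) ⧸
            LinearMap.range (LinearMap.pi fun i => (s₂ i).rangeRestrict)) := by
  classical
  let R₁ := fun i => LinearMap.range (s₁ i)
  let R₂ := fun i => LinearMap.range (s₂ i)
  let R₃ := fun i => LinearMap.range (s₃ i)
  let Rt := fun i => (R₂ i).comap (f i)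
  have hle : ∀ i, R₁ i ≤ Rt i := by
    rintro i _ ⟨m, rfl⟩
    exact ⟨a m, h1 i m⟩
  have hq : ∀ i, ∀ w ∈ R₂ i, g i w ∈ R₃ i := by
    rintro i _ ⟨m, rfl⟩
    exact ⟨b m, h2 i m⟩
  let J : ((i : ι) → R₁ i) →ₗ[A] ((i : ι) → Rt i) :=
    LinearMap.pi fun i => (Submodule.inclusion (hle i)).comp (LinearMap.proj i)
  let jj : ((i : ι) → Rt i) →ₗ[A] ((i : ι) → R₂ i) :=
    LinearMap.pi fun i => ((f i).restrict (p := Rt i) (q := R₂ i) fun w hw => hw).comp (LinearMap.proj i)
  let qq : ((i : ι) → R₂ i) →ₗ[A] ((i : ι) → R₃ i) :=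
    LinearMap.pi fun i => ((g i).restrict (p := R₂ i) (q := R₃ i) (hq i)).comp (LinearMap.proj i)
  let μ₁ := LinearMap.pi fun i => (s₁ i).rangeRestrict
  have hchi := Lat.chi_add (J.comp μ₁) (LinearMap.pi fun i => (s₂ i).rangeRestrict)
    (LinearMap.pi fun i => (s₃ i).rangeRestrict) a b jj qq ha hb hab
    (fun v w e => funext fun i => Subtype.ext (hf i (congrArg Subtype.val (congrFun e i))))
    (fun v => by
      have : ∀ i, ∃ w : R₂ i, g i w = v i := fun i => by
        obtain ⟨m, hm⟩ := (v i).2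
        obtain ⟨m', rfl⟩ := hb m
        exact ⟨⟨s₂ i m', m', rfl⟩, by rw [← hm]; exact (h2 i m').symm⟩
      choose w hw using this
      exact ⟨w, funext fun i => Subtype.ext (hw i)⟩)
    (fun v => by
      constructor
      · intro hv
        have : ∀ i, ∃ w : N₁ i, f i w = (v i : N₂ i) := fun i =>
          (hfg i (v i : N₂ i)).1 (congrArg Subtype.val (congrFun hv i))
        choose w hw using this
        exact ⟨fun i => ⟨w i, by show f i (w i) ∈ R₂ i; rw [hw i]; exact (v i).2⟩,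
          funext fun i => Subtype.ext (hw i)⟩
      · rintro ⟨w, rfl⟩
        exact funext fun i => Subtype.ext ((hfg i _).2 ⟨(w i : N₁ i), rfl⟩))
    (fun m => funext fun i => Subtype.ext (h1 i m))
    (fun m => funext fun i => Subtype.ext (h2 i m))
  have hJinj : Function.Injective J := fun v w e =>
    funext fun i => Subtype.ext (congrArg Subtype.val (congrFun e i) : _)
  have hkerJ : LinearMap.ker (J.comp μ₁) = LinearMap.ker μ₁ := by
    rw [LinearMap.ker_comp, LinearMap.ker_eq_bot.2 hJinj]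
    rfl
  have hquot : Module.length A (((i : ι) → Rt i) ⧸ LinearMap.range (J.comp μ₁)) =
      Module.length A (((i : ι) → R₁ i) ⧸ LinearMap.range μ₁) + ∑ i, CycDetL.relLen (R₁ i) (Rt i) := by
    rw [← CycDetL.relLen_top, CycDetL.relLen_add (T := LinearMap.range J)
      (LinearMap.range_comp_le_range _ _) le_top]
    congr 1
    · refine Lat.relLen_eq_length_quot J _ _ _ (fun v => ?_) rfl
      exact ⟨fun ⟨m, hm⟩ => ⟨m, hJinj hm⟩, fun ⟨m, hm⟩ => ⟨m, congrArg J hm⟩⟩
    · rw [CycDetL.relLen_top]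
      let φ : ((i : ι) → Rt i) →ₗ[A] ((i : ι) → ↥((Rt i).map (R₁ i).mkQ)) :=
        LinearMap.pi fun i => ((R₁ i).mkQ.restrict (p := Rt i)
          (q := (Rt i).map (R₁ i).mkQ) fun w hw => ⟨w, hw, rfl⟩).comp (LinearMap.proj i)
      have hφs : Function.Surjective φ := fun v => by
        have : ∀ i, ∃ w : Rt i, (R₁ i).mkQ w = v i := fun i => by
          obtain ⟨w, hw, he⟩ := (v i).2
          exact ⟨⟨w, hw⟩, he⟩
        choose w hw using this
        exact ⟨w, funext fun i => Subtype.ext (hw i)⟩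
      have hφk : LinearMap.ker φ = LinearMap.range J := by
        ext v
        constructor
        · intro hv
          refine ⟨fun i => ⟨(v i : N₁ i),
            (Submodule.Quotient.mk_eq_zero _).1 (congrArg Subtype.val (congrFun hv i))⟩, ?_⟩
          exact funext fun i => Subtype.ext rfl
        · rintro ⟨w, rfl⟩
          exact funext fun i => Subtype.ext ((Submodule.Quotient.mk_eq_zero _).2 (w i).2)
      rw [← hφk, (φ.quotKerEquivOfSurjective hφs).length_eq, Module.length_pi_of_fintype]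
      rfl
  rw [hkerJ, hquot] at hchi
  exact hchi

theorem stL_exact {T : ShortComplex X.Modules} (hT : T.ShortExact) (z : X) :
    Function.Exact (stL T.f z) (stL T.g z) :=
  (ShortComplex.ShortExact.moduleCat_exact_iff_function_exact _).1 ((OX.exact_iff T).1 hT.exact z)

theorem phiAt_add [IsLocallyNoetherian X] (hδ : Cyc.IsDimFun X δ) {x : X} (hx : δ x = k)
    (S : Gens δ k x) {T : ShortComplex X.Modules}
    (hT : T.ShortExact) (h₁ : Cyc.CohLe δ (k + 1) T.X₁) (h₂ : Cyc.CohLe δ (k + 1) T.X₂)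
    (h₃ : Cyc.CohLe δ (k + 1) T.X₃) (hS₁ : Covers T.X₁ S) (hS₂ : Covers T.X₂ S) (hS₃ : Covers T.X₃ S)
    (m₁ : Choice δ k T.X₁) (m₂ : Choice δ k T.X₂) (m₃ : Choice δ k T.X₃)
    (hm : ∀ g : Pt S, Lat.inv (X.presheaf.stalk x) (m₂ g.val g.lev) (R T.X₂ g) =
      Lat.inv (X.presheaf.stalk x) (m₁ g.val g.lev)
          ((R T.X₂ g).comap ((stL T.f g.val).restrictScalars _)) +
        Lat.inv (X.presheaf.stalk x) (m₃ g.val g.lev)
          ((R T.X₂ g).map ((stL T.g g.val).restrictScalars _))) :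
    phiAt T.X₂ S m₂ = phiAt T.X₁ S m₁ + phiAt T.X₃ S m₃ := by
  classical
  haveI := hT.mono_f
  haveI := hT.epi_g
  let fG : ∀ g : Pt S, stk T.X₁ g.val →ₗ[(X.presheaf.stalk x)] stk T.X₂ g.val := fun g =>
    (stL T.f g.val).restrictScalars (X.presheaf.stalk x)
  let gG : ∀ g : Pt S, stk T.X₂ g.val →ₗ[(X.presheaf.stalk x)] stk T.X₃ g.val := fun g =>
    (stL T.g g.val).restrictScalars (X.presheaf.stalk x)
  have hnf : ∀ (g : Pt S) (a : stk T.X₁ x),
      specLin T.X₂ g (stL T.f x a) = fG g (specLin T.X₁ g a) :=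
    fun g a => specHom_natural T.f g.sp a
  have hng : ∀ (g : Pt S) (a : stk T.X₂ x),
      specLin T.X₃ g (stL T.g x a) = gG g (specLin T.X₂ g a) :=
    fun g a => specHom_natural T.g g.sp a
  have hR'' : ∀ g, (R T.X₂ g).map (gG g) = R T.X₃ g := by
    intro g
    ext w
    constructor
    · rintro ⟨_, ⟨a, rfl⟩, rfl⟩
      exact ⟨stL T.g x a, hng g a⟩
    · rintro ⟨b, rfl⟩
      obtain ⟨a, rfl⟩ := stL_surjective T.g x b
      exact ⟨_, ⟨a, rfl⟩, (hng g a).symm⟩
  have hchi := chi_family (stL T.f x) (stL T.g x) (stL_injective T.f x) (stL_surjective T.g x)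
    (stL_exact hT x) fG gG (fun g => stL_injective T.f g.val) (fun g => stL_exact hT g.val)
    (fun g => specLin T.X₁ g) (fun g => specLin T.X₂ g) (fun g => specLin T.X₃ g) hnf hng
  have hR' : ∀ g, R T.X₁ g ≤ (R T.X₂ g).comap (fG g) := by
    rintro g _ ⟨a, rfl⟩
    exact ⟨stL T.f x a, hnf g a⟩
  have hlat1 : ∀ g : Pt S, Lat.IsLat (X.residueField g.val) (R T.X₁ g) := fun g => isLat_R _ h₁.1 g
  have hmono := fun g : Pt S => Lat.inv_mono (cx hδ hx g) (m₁ g.val g.lev) (hlat1 g)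
    ((hlat1 g).mono (Lat.fg_comap (cx hδ hx g) (fG g) (stL_injective T.f g.val)
      (isLat_R T.X₂ h₂.1 g).1) (hR' g)) (hR' g)
  have k1 := finite_ker hδ hx h₁ hS₁
  have k2 := finite_ker hδ hx h₂ hS₂
  have k3 := finite_ker hδ hx h₃ hS₃
  have c1 := finite_coker (S := S) hδ hx h₁
  have c2 := finite_coker (S := S) hδ hx h₂
  have c3 := finite_coker (S := S) hδ hx h₃
  set L : ℕ∞ := ∑ g : Pt S, CycDetL.relLen (R T.X₁ g) ((R T.X₂ g).comap (fG g)) with hLdef
  have hL : L ≠ ⊤ := WithTop.sum_ne_top.2 fun g _ => (hmono g).1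
  have hLn : (L.toNat : ℤ) = ∑ g : Pt S, ((CycDetL.relLen (R T.X₁ g) ((R T.X₂ g).comap (fG g))).toNat : ℤ) := by
    rw [hLdef, ← Nat.cast_sum, ENat.toNat_sum fun g _ => (hmono g).1]
  have hinv : invSum T.X₂ S m₂ = invSum T.X₁ S m₁ + invSum T.X₃ S m₃ - (L.toNat : ℤ) := by
    rw [hLn, invSum, invSum, invSum, ← Finset.sum_add_distrib, ← Finset.sum_sub_distrib]
    refine Finset.sum_congr rfl fun g _ => ?_
    have h : Lat.inv (X.presheaf.stalk x) (m₂ g.val g.lev) (R T.X₂ g) =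
        Lat.inv (X.presheaf.stalk x) (m₁ g.val g.lev) ((R T.X₂ g).comap (fG g)) +
          Lat.inv (X.presheaf.stalk x) (m₃ g.val g.lev) ((R T.X₂ g).map (gG g)) := hm g
    rw [hR'' g] at h
    have h' := (hmono g).2
    omega
  have e : Module.length (X.presheaf.stalk x) (LinearMap.ker (mu T.X₂ S)) +
      (Module.length (X.presheaf.stalk x) (P T.X₁ S ⧸ LinearMap.range (mu T.X₁ S)) + L) +
        Module.length (X.presheaf.stalk x) (P T.X₃ S ⧸ LinearMap.range (mu T.X₃ S)) =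
      Module.length (X.presheaf.stalk x) (LinearMap.ker (mu T.X₁ S)) + Module.length (X.presheaf.stalk x) (LinearMap.ker (mu T.X₃ S)) +
        Module.length (X.presheaf.stalk x) (P T.X₂ S ⧸ LinearMap.range (mu T.X₂ S)) := hchi
  simp only [phiAt, chi]
  rw [hinv]
  have key : ∀ a b l c d f g : ℕ∞, a ≠ ⊤ → b ≠ ⊤ → l ≠ ⊤ → c ≠ ⊤ → d ≠ ⊤ → f ≠ ⊤ → g ≠ ⊤ →
      a + (b + l) + c = d + f + g →
      a.toNat + (b.toNat + l.toNat) + c.toNat = d.toNat + f.toNat + g.toNat := by
    intro a b l c d f g ha hb hl hc hd hf hg h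
    lift a to ℕ using ha
    lift b to ℕ using hb
    lift l to ℕ using hl
    lift c to ℕ using hc
    lift d to ℕ using hd
    lift f to ℕ using hf
    lift g to ℕ using hg
    simp only [ENat.toNat_natCast]
    exact_mod_cast h
  have e' := key _ _ _ _ _ _ _ k2 c1 hL c3 k1 k3 c2 e
  omega

theorem exists_choice_add [IsLocallyNoetherian X] (hδ : Cyc.IsDimFun X δ) {T : ShortComplex X.Modules}
    (hT : T.ShortExact) (h₁ : Cyc.CohLe δ (k + 1) T.X₁) (h₂ : Cyc.CohLe δ (k + 1) T.X₂)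
    (h₃ : Cyc.CohLe δ (k + 1) T.X₃) (m₁ : Choice δ k T.X₁) (m₃ : Choice δ k T.X₃) :
    ∃ m₂ : Choice δ k T.X₂, phi T.X₂ m₂ = phi T.X₁ m₁ + phi T.X₃ m₃ := by
  haveI := hT.mono_f
  haveI := hT.epi_g
  choose m₂ hm₂ using fun (z : X) (hz : δ z = k + 1) =>
    Lat.exists_cat (m₁ z hz) (W := stk T.X₂ z) (W'' := stk T.X₃ z) (stL T.f z) (stL T.g z)
      (stL_injective T.f z) (stL_surjective T.g z) (stL_exact hT z) (m₃ z hz)
  refine ⟨m₂, funext fun x => ?_⟩
  rw [Pi.add_apply]
  by_cases hx : δ x = k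
  swap
  · rw [phi, phi, phi, if_neg hx, if_neg hx, if_neg hx, add_zero]
  have hS2 := covers_gens hδ h₂ x
  have hS1 : Covers T.X₁ (gens δ k T.X₂ x) := fun z a b c => hS2 z a b (by
    haveI : Nontrivial (stk T.X₁ z) := c
    exact (stL_injective T.f z).nontrivial)
  have hS3 : Covers T.X₃ (gens δ k T.X₂ x) := fun z a b c => hS2 z a b (by
    haveI : Nontrivial (stk T.X₃ z) := c
    exact (stL_surjective T.g z).nontrivial)
  rw [phi_eq hδ h₁ m₁ hx _ hS1, phi_eq hδ h₃ m₃ hx _ hS3, phi_eq hδ h₂ m₂ hx _ hS2]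
  exact phiAt_add hδ hx _ hT h₁ h₂ h₃ hS1 hS2 hS3 m₁ m₂ m₃ fun g =>
    hm₂ g.val g.lev (X.presheaf.stalk x) _

/-- Functions that are divisors of families of rational functions. -/
def rzSub [IsLocallyNoetherian X] (hδ : Cyc.IsDimFun X δ) (k : ℤ) : AddSubgroup (X → ℤ) where
  carrier := {a | C1.RZ δ k a}
  add_mem' := fun ha hb => C1.RZ.add hδ ha hb
  zero_mem' := C1.RZ.zero hδ k
  neg_mem' := fun ha => C1.RZ.neg hδ ha

/-- The refined class as a homomorphism. -/
theorem exists_hom [IsLocallyNoetherian X] (hX : Cyc.IsSetup X δ) (k : ℤ) :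
    ∃ Φ : KZero.K0sub (Cyc.CohLe δ (k + 1)) →+ (X → ℤ) ⧸ rzSub hX.2.2 k,
      ∀ F : X.Modules, Cyc.CohLe δ k F →
        Φ (KZero.clSub (Cyc.CohLe δ (k + 1)) F) = QuotientAddGroup.mk (Cyc.sheafFun δ k F) := by
  classical
  have hδ := hX.2.2
  let φ : X.Modules → (X → ℤ) ⧸ rzSub hδ k := fun F =>
    if h : Cyc.CohLe δ (k + 1) F then QuotientAddGroup.mk (phi F (nonempty_choice hδ h).some) else 0
  obtain ⟨Φ, hΦ⟩ := K0Sub.exists_lift (P := Cyc.CohLe δ (k + 1)) φ fun T hT h₁ h₂ h₃ => by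
    simp only [φ]
    rw [dif_pos h₁, dif_pos h₂, dif_pos h₃, ← QuotientAddGroup.mk_add]
    obtain ⟨m, hm⟩ := exists_choice_add hδ hT h₁ h₂ h₃ (nonempty_choice hδ h₁).some (nonempty_choice hδ h₃).some
    rw [← hm, QuotientAddGroup.eq, neg_add_eq_sub]
    exact rz_phi_sub hδ h₂ m (nonempty_choice hδ h₂).some
  refine ⟨Φ, fun F hF => ?_⟩
  have h : Cyc.CohLe δ (k + 1) F := ⟨hF.1, fun z hz => (hF.2 z hz).trans (by omega)⟩
  rw [hΦ F h]
  simp only [φ]
  rw [dif_pos h, phi_of_cohLe hδ hF]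

end GrothLib.PBDeg.KPhi

end
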