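import Groth.Agent.Lib.PBDeg17.LatMark
import Groth.Agent.Lib.C1.RZ
import Groth.Agent.Lib.CycBasic.SheafLength
import Groth.Agent.Lib.CycDiv.Stalk
import Groth.Agent.Lib.QCoh.Devissage
import Groth.Agent.Lib.WeakAss.Basic
import Groth.Agent.Lib.QuasiFlat.Basic

/-!
# Stalks at a point of dimension `k` compared with those at points of dimension `k + 1`
-/

set_option autoImplicit false
set_option linter.style.haveILetI false
set_option linter.unusedVariables false

universe u

open CategoryTheory AlgebraicGeometry IsLocalRing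

noncomputable section

namespace GrothLib.PBDeg.KPhi

open GrothLib GrothLib.CycDiv

variable {X : Scheme.{u}}

/-- The stalk as a module over the local ring. -/
abbrev stk (F : X.Modules) (x : X) : ModuleCat.{u} (X.presheaf.stalk x) := (OX.stalk x).obj F

/-- Specialisation of stalks, additively. -/
def specHom (F : X.Modules) {x z : X} (h : z ⤳ x) : stk F x →+ stk F z :=
  (F.presheaf.stalkSpecializes h).hom

theorem specHom_germ (F : X.Modules) {x z : X} (h : z ⤳ x) (U : X.Opens) (hx : x ∈ U) (s : Γ(F, U)) :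
    specHom F h (F.presheaf.germ U x hx s) = F.presheaf.germ U z (h.mem_open U.2 hx) s :=
  TopCat.Presheaf.germ_stalkSpecializes_apply F.presheaf hx h s

theorem specHom_smul (F : X.Modules) {x z : X} (h : z ⤳ x) (a : X.presheaf.stalk x) (m : stk F x) :
    specHom F h (a • m) = (X.presheaf.stalkSpecializes h).hom a • specHom F h m := by
  obtain ⟨U, hxU, s, hs⟩ := TopCat.Presheaf.exists_germ_eq F.presheaf m
  obtain ⟨V, hxV, r, hr⟩ := TopCat.Presheaf.exists_germ_eq X.presheaf a
  have h1 : F.presheaf.germ (U ⊓ V) x ⟨hxU, hxV⟩ (F.presheaf.map (homOfLE inf_le_left).op s) = m := by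
    rw [TopCat.Presheaf.germ_res_apply, hs]
  have h2 : X.presheaf.germ (U ⊓ V) x ⟨hxU, hxV⟩ (X.presheaf.map (homOfLE inf_le_right).op r) = a := by
    rw [TopCat.Presheaf.germ_res_apply, hr]
  rw [← h1, ← h2]
  exact (congrArg (specHom F h) (WeakAss.germ_smul (F := F) _ _ _).symm).trans
    ((specHom_germ F h _ _ _).trans ((WeakAss.germ_smul (F := F) _ _ _).trans
      (congrArg₂ (· • ·) (TopCat.Presheaf.germ_stalkSpecializes_apply X.presheaf _ h _).symm
        (specHom_germ F h _ _ _).symm)))

theorem specHom_natural {F G : X.Modules} (φ : F ⟶ G) {x z : X} (h : z ⤳ x) (m : stk F x) :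
    specHom G h (QCoh.stalkLin φ x m) = QCoh.stalkLin φ z (specHom F h m) := by
  obtain ⟨U, hxU, s, rfl⟩ := TopCat.Presheaf.exists_germ_eq F.presheaf m
  erw [QCoh.stalkLin_germ, specHom_germ, specHom_germ]
  exact (QCoh.stalkLin_germ φ _ s).symm

theorem germ_notMem_primeOf {x z : X} (h : z ⤳ x) {V : X.Opens} (hx : x ∈ V) {c : Γ(X, V)}
    (hc : c ∉ WeakAss.primeAt z (h.mem_open V.2 hx)) : X.presheaf.germ V x hx c ∉ primeOf h := by
  rw [mem_primeOf_iff, TopCat.Presheaf.germ_stalkSpecializes_apply]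
  exact hc

/-- Every element is a fraction. -/
theorem exists_specHom_eq (F : X.Modules) [F.IsQuasicoherent] {x z : X} (h : z ⤳ x) (w : stk F z) :
    ∃ (s : X.presheaf.stalk x) (m : stk F x), s ∉ primeOf h ∧
      (X.presheaf.stalkSpecializes h).hom s • w = specHom F h m := by
  obtain ⟨_, ⟨V, hV, rfl⟩, hxV, -⟩ :=
    X.isBasis_affineOpens.exists_subset_of_mem_open (Set.mem_univ x) isOpen_univ
  obtain ⟨c, t, hc, ht⟩ := WeakAss.exists_smul_eq_germ (F := F) hV (h.mem_open V.2 hxV) w
  refine ⟨X.presheaf.germ V x hxV c, F.presheaf.germ V x hxV t, germ_notMem_primeOf h hxV hc, ?_⟩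
  exact (congrArg (· • w) (TopCat.Presheaf.germ_stalkSpecializes_apply X.presheaf _ h _)).trans
    (ht.trans (specHom_germ F h V hxV t).symm)

/-- What specialises to zero is killed outside the prime. -/
theorem exists_smul_eq_zero (F : X.Modules) [F.IsQuasicoherent] {x z : X} (h : z ⤳ x) (m : stk F x)
    (hm : specHom F h m = 0) : ∃ s : X.presheaf.stalk x, s ∉ primeOf h ∧ s • m = 0 := by
  obtain ⟨_, ⟨V, hV, rfl⟩, hxV, -⟩ :=
    X.isBasis_affineOpens.exists_subset_of_mem_open (Set.mem_univ x) isOpen_univ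
  obtain ⟨c, t, hc, ht⟩ := WeakAss.exists_smul_eq_germ (F := F) hV hxV m
  have hz : F.presheaf.germ V z (h.mem_open V.2 hxV) t = 0 := by
    refine (specHom_germ F h V hxV t).symm.trans ((congrArg (specHom F h) ht.symm).trans ?_)
    exact (specHom_smul F h _ m).trans ((congrArg (_ • ·) hm).trans (smul_zero _))
  obtain ⟨d, hd, hdt⟩ := (WeakAss.germ_eq_zero_iff hV (h.mem_open V.2 hxV) t).1 hz
  refine ⟨X.presheaf.germ V x hxV d * X.presheaf.germ V x hxV c, fun hmem => ?_, ?_⟩
  · rcases (inferInstance : (primeOf h).IsPrime).mem_or_mem hmem with h' | h'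
    · exact germ_notMem_primeOf h hxV hd h'
    · have hu : IsUnit (X.presheaf.germ V x hxV c) :=
        (Scheme.mem_basicOpen _ c x hxV).mp (WeakAss.notMem_primeAt_iff.mp hc)
      exact (inferInstance : (primeOf h).IsPrime).ne_top (Ideal.eq_top_of_isUnit_mem _ h' hu)
  · rw [mul_smul]
    refine (congrArg (_ • ·) ht).trans ((WeakAss.germ_smul (F := F) hxV d t).symm.trans ?_)
    exact (congrArg _ hdt).trans (map_zero _)

variable {δ : X → ℤ}

theorem maximal_of_le (hδ : Cyc.IsDimFun X δ) {F : X.Modules} {k : ℤ}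
    (hdim : ∀ x : X, Nontrivial (F.presheaf.stalk x) → δ x ≤ k) {z : X} (hz : δ z = k) :
    ∀ y : X, y ∈ CohB1.support F → y ⤳ z → y = z := fun y hy hyz => by
  by_contra hne
  have h1 := (hδ y z hyz hne).1
  have h2 := hdim y (CycBasic.nontrivial_iff_mem_support.2 hy)
  omega

/-- The points of the support of top dimension form a locally finite family. -/
theorem locFin_level [IsLocallyNoetherian X] (hδ : Cyc.IsDimFun X δ) {F : X.Modules} (hF : Coh.IsCoh F)
    {k : ℤ} (hdim : ∀ x : X, Nontrivial (F.presheaf.stalk x) → δ x ≤ k) (p : X) :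
    ∃ U : X.Opens, p ∈ U ∧ {z | z ∈ U ∧ δ z = k ∧ Nontrivial (F.presheaf.stalk z)}.Finite := by
  have hT : IsClosed (CohB1.support F) := QCoh.isClosed_support_of_isCoh hF
  obtain ⟨U, hU, hfin⟩ := CycBasic.locallyFinite_components hT p
  obtain ⟨V, hVU, hV, hpV⟩ := mem_nhds_iff.1 hU
  haveI : QuasiSober (CohB1.support F) := hT.isClosedEmbedding_subtypeVal.quasiSober
  refine ⟨⟨V, hV⟩, hpV, (hfin.image fun Z : irreducibleComponents (CohB1.support F) =>
    ((Z.2.1.genericPoint : CohB1.support F) : X)).subset ?_⟩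
  rintro z ⟨hzV, hzk, hzn⟩
  have hzs : z ∈ CohB1.support F := CycBasic.nontrivial_iff_mem_support.1 hzn
  let Z : irreducibleComponents (CohB1.support F) :=
    ⟨irreducibleComponent ⟨z, hzs⟩, irreducibleComponent_mem_irreducibleComponents _⟩
  refine ⟨Z, ⟨z, ⟨⟨z, hzs⟩, mem_irreducibleComponent, rfl⟩, hVU hzV⟩, ?_⟩
  have hg := Z.2.1.isGenericPoint_genericPoint isClosed_irreducibleComponent
  exact maximal_of_le hδ hdim hzk _ Z.2.1.genericPoint.2
    ((hg.specializes mem_irreducibleComponent).map continuous_subtype_val)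

/-- Finitely many points of dimension `k + 1` generalising `x`. -/
structure Gens (δ : X → ℤ) (k : ℤ) (x : X) where
  /-- the points -/
  s : Finset X
  spec : ∀ z ∈ s, z ⤳ x ∧ δ z = k + 1

variable {k : ℤ} {x : X}

/-- One of the points. -/
structure Pt (S : Gens δ k x) where
  /-- the point -/
  val : X
  mem : val ∈ S.s

variable {S : Gens δ k x}

instance : Fintype (Pt S) :=
  Fintype.ofEquiv {z // z ∈ S.s} ⟨fun z => ⟨z.1, z.2⟩, fun g => ⟨g.1, g.2⟩, fun _ => rfl, fun _ => rfl⟩

theorem Pt.ext' {g g' : Pt S} (h : g.val = g'.val) : g = g' := by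
  cases g; cases g'; subst h; rfl

theorem Pt.sp (g : Pt S) : g.val ⤳ x := (S.spec _ g.mem).1

theorem Pt.lev (g : Pt S) : δ g.val = k + 1 := (S.spec _ g.mem).2

instance ptAlg (g : Pt S) : Algebra (X.presheaf.stalk x) (X.presheaf.stalk g.val) :=
  (X.presheaf.stalkSpecializes g.sp).hom.toAlgebra

instance resAlg (z : X) : Algebra (X.presheaf.stalk z) (X.residueField z) := (X.residue z).hom.toAlgebra

instance ptAlgRes (g : Pt S) : Algebra (X.presheaf.stalk x) (X.residueField g.val) :=
  (Cyc.specMap x g.val g.sp).toAlgebra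

instance ptTower (g : Pt S) :
    IsScalarTower (X.presheaf.stalk x) (X.presheaf.stalk g.val) (X.residueField g.val) :=
  IsScalarTower.of_algebraMap_eq' rfl

/-- Specialisation, linearly. -/
def specLin (F : X.Modules) (g : Pt S) : stk F x →ₗ[X.presheaf.stalk x] stk F g.val where
  toFun := specHom F g.sp
  map_add' := map_add _
  map_smul' a m := specHom_smul F g.sp a m

/-- The lattice at a point. -/
def R (F : X.Modules) (g : Pt S) : Submodule (X.presheaf.stalk x) (stk F g.val) :=
  LinearMap.range (specLin F g)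

theorem length_quot_eq_ord (g : Pt S) (a : X.presheaf.stalk x) :
    Module.length (X.presheaf.stalk x) (X.presheaf.stalk x ⧸
      (RingHom.ker (algebraMap (X.presheaf.stalk x) (X.residueField g.val)) ⊔ Ideal.span {a})) =
      Ring.ord (Cyc.LocQuot x g.val g.sp) (Ideal.Quotient.mk _ a) := by
  let p : Ideal (X.presheaf.stalk x) := primeOf g.sp
  have e := (DoubleQuot.quotQuotEquivQuotSupₐ (X.presheaf.stalk x) p (Ideal.span {a})).toLinearEquiv.length_eq
  refine e.symm.trans ?_
  rw [Ring.ord, CycBasic.length_eq_of_surjective (Ideal.Quotient.mk p) Ideal.Quotient.mk_surjective _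
    fun r m => (algebraMap_smul (X.presheaf.stalk x ⧸ p) r m).symm]
  rw [Ideal.map_span, Set.image_singleton]
  rfl

theorem cx [IsLocallyNoetherian X] (hδ : Cyc.IsDimFun X δ) (hx : δ x = k) (g : Pt S) :
    Lat.Cx (X.presheaf.stalk x) (X.residueField g.val) := by
  refine ⟨inferInstance, fun c => ?_, fun a ha => ?_⟩
  · obtain ⟨a, b, hb, he⟩ := exists_frac g.sp c
    exact ⟨a, b, hb, by rw [Algebra.smul_def, mul_comm]; exact he⟩
  · rw [length_quot_eq_ord]
    haveI : IsNoetherianRing (Cyc.LocQuot x g.val g.sp) :=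
      isNoetherianRing_of_surjective _ _ (Ideal.Quotient.mk _) Ideal.Quotient.mk_surjective
    haveI : Ring.KrullDimLE 1 (Cyc.LocQuot x g.val g.sp) := Ring.krullDimLE_iff.2 (by
      rw [CycBasic.ringKrullDim_locQuot hδ x g.val g.sp,
        show (δ g.val - δ x).toNat = 1 from by have := g.lev; omega])
    exact Ring.ord_ne_top (mem_nonZeroDivisors_of_ne_zero fun h => ha (Ideal.Quotient.eq_zero_iff_mem.1 h))

theorem ordI_eq_ordAt [IsLocallyNoetherian X] (hδ : Cyc.IsDimFun X δ) (hx : δ x = k) (g : Pt S)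
    {f : X.residueField g.val} (hf : f ≠ 0) :
    Lat.ordI (X.presheaf.stalk x) f = Cyc.ordAt x g.val g.sp f := by
  have hC := cx hδ hx g
  obtain ⟨a, b, hb, he⟩ := exists_frac g.sp f
  have hb0 : algebraMap (X.presheaf.stalk x) (X.residueField g.val) b ≠ 0 := hb
  have he' : f * algebraMap (X.presheaf.stalk x) (X.residueField g.val) b =
      algebraMap (X.presheaf.stalk x) (X.residueField g.val) a := he
  have ha0 : algebraMap (X.presheaf.stalk x) (X.residueField g.val) a ≠ 0 := he' ▸ mul_ne_zero hf hb0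
  have h := Lat.ordI_mul hC hf hb0
  rw [he', Lat.ordI_algebraMap hC ha0, Lat.ordI_algebraMap hC hb0, length_quot_eq_ord,
    length_quot_eq_ord] at h
  rw [ordAt_eq_sub hδ g.sp (by rw [hx, g.lev]) ha0 hb0 he]
  omega

theorem isLat_R [IsLocallyNoetherian X] (F : X.Modules) (hF : Coh.IsCoh F) (g : Pt S) :
    Lat.IsLat (X.residueField g.val) (R F g) := by
  haveI := hF.1
  haveI := QuasiFlat.finite_stalk F hF x
  refine ⟨?_, fun w => ?_⟩
  · rw [R, ← Submodule.map_top]
    haveI : Module.Finite (X.presheaf.stalk x) (stk F x) := QuasiFlat.finite_stalk F hF x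
    exact Module.Finite.fg_top.map _
  · obtain ⟨s, m, hs, he⟩ := exists_specHom_eq F g.sp w
    exact ⟨s, hs, m, he.symm⟩

/-- Finite length from the vanishing away from the closed point. -/
theorem length_ne_top [IsLocallyNoetherian X] {M : Type u} [AddCommGroup M] [Module (X.presheaf.stalk x) M]
    [Module.Finite (X.presheaf.stalk x) M]
    (h : ∀ (z : X) (hz : z ⤳ x), z ≠ x → ∀ m : M, ∃ s ∉ primeOf hz, s • m = 0) :
    Module.length (X.presheaf.stalk x) M ≠ ⊤ := by
  refine (FiniteLengthSupp.length_lt_top ?_).ne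
  have key : ∀ P : Module.support (X.presheaf.stalk x) M,
      P.1.asIdeal = IsLocalRing.maximalIdeal (X.presheaf.stalk x) := by
    rintro ⟨P, hP⟩
    obtain ⟨m, hm⟩ := Module.mem_support_iff'.1 hP
    by_contra hne
    have hsp := CycBasic.specializes_fromSpecStalk P
    have hinj := (X.fromSpecStalk x).isEmbedding.injective
    have hzx : X.fromSpecStalk x P ≠ x := fun e => hne (congrArg PrimeSpectrum.asIdeal
      (hinj (e.trans (Scheme.fromSpecStalk_closedPoint (X := X) (x := x)).symm)))
    obtain ⟨s, hs, hsm⟩ := h _ hsp hzx m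
    refine hm s (fun hmem => hs ?_) hsm
    show s ∈ RingHom.ker (Cyc.specMap x _ hsp)
    rw [CycBasic.ker_specMap hsp]
    have e : PrimeSpectrum.comap (X.presheaf.stalkSpecializes hsp).hom
        (IsLocalRing.closedPoint (X.presheaf.stalk (X.fromSpecStalk x P))) = P :=
      hinj (CycBasic.fromSpecStalk_comap_closedPoint hsp)
    rw [e]
    exact hmem
  have hss : Subsingleton (Module.support (X.presheaf.stalk x) M) :=
    ⟨fun P Q => Subtype.ext (PrimeSpectrum.ext ((key P).trans (key Q).symm))⟩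
  exact Order.krullDim_nonpos_of_subsingleton

end GrothLib.PBDeg.KPhi

end
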