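import Groth.Agent.Lib.PBDeg17.Degree

/-!
# The powers of the tautological class on a fibre, at every level
-/

set_option autoImplicit false
set_option backward.isDefEq.respectTransparency false
set_option linter.style.haveILetI false

universe u

open CategoryTheory AlgebraicGeometry TopologicalSpace Opposite IsLocalRing
open GrothLib.Ref1 GrothLib.C1 GrothLib.CycFlat

noncomputable section

namespace GrothLib.PBDeg

variable {m : ℕ} {X P : Scheme.{u}} {p : P ⟶ X} {L : P.Modules} {δX : X → ℤ} {δP : P → ℤ}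
  [IsLocallyNoetherian X] [IsLocallyNoetherian P]

/-- The last `t` coordinates. -/
def coordSet (m t : ℕ) : Finset (Fin (m + 1)) := Finset.univ.filter fun j => m + 1 - t ≤ j.1 ∧ j.1 ≠ 0

theorem zero_notMem_coordSet (m t : ℕ) : (0 : Fin (m + 1)) ∉ coordSet m t := fun h => by
  simp [coordSet] at h

theorem coordSet_succ {t : ℕ} (ht : t < m) :
    insert (⟨m - t, by omega⟩ : Fin (m + 1)) (coordSet m t) = coordSet m (t + 1) ∧
      (⟨m - t, by omega⟩ : Fin (m + 1)) ∉ coordSet m t := by
  constructor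
  · ext j
    simp only [Finset.mem_insert, coordSet, Finset.mem_filter, Finset.mem_univ, true_and, Fin.ext_iff]
    omega
  · simp only [coordSet, Finset.mem_filter, Finset.mem_univ, true_and]
    omega

theorem card_coordSet : ∀ {t : ℕ}, t ≤ m → (coordSet m t).card = t := by
  intro t
  induction t with
  | zero =>
    intro _
    rw [Finset.card_eq_zero, coordSet, Finset.filter_eq_empty_iff]
    intro j _
    omega
  | succ t ih =>
    intro ht
    rw [← (coordSet_succ (by omega)).1, Finset.card_insert_of_notMem (coordSet_succ (by omega)).2, ih (by omega)]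

open Classical in
/-- The powers of the tautological class on a fibre, on cycles. -/
theorem Chart.levels {z : X} (C : Chart p L m z) (hδX : Cyc.IsDimFun X δX) (hδP : Cyc.IsDimFun P δP)
    (hδ : Cyc.DeltaCompat p δP δX) (hL : PicF.IsInvertible L) {k : ℤ} {α : X → ℤ} (hk : ∀ η, α η ≠ 0 → δX η = k)
    (hz : δX z = k) :
    ∃ v : ℕ → (ξ : P) → Cyc.secFibre L ξ, (∀ n ξ, v n ξ ≠ 0) ∧ ∀ t, t ≤ m → ∀ y : P, p y = z →
      Cyc.c1PowFun δP L v t (Cyc.pullFun p δP δX m α) y =
        if y = C.pt (coordSet m t) (zero_notMem_coordSet m t) then α z else 0 := by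
  obtain ⟨w, hw⟩ := exists_sec hL
  let jj : ℕ → Fin (m + 1) := fun t => ⟨m - t, by omega⟩
  let v : ℕ → (ξ : P) → Cyc.secFibre L ξ := fun t ξ =>
    if h : ξ ∈ p ⁻¹ᵁ C.U ∧ ¬ C.Van (jj t) ξ then cls (L.presheaf.germ (p ⁻¹ᵁ C.U) ξ h.1 (C.s (jj t))) else w ξ
  have hv : ∀ n ξ, v n ξ ≠ 0 := fun n ξ => by
    by_cases h : ξ ∈ p ⁻¹ᵁ C.U ∧ ¬ C.Van (jj n) ξ
    · simp only [v, dif_pos h]
      exact fun h0 => h.2 ⟨h.1, h0⟩
    · simp only [v, dif_neg h]
      exact hw ξ
  let J : ℕ → Finset (Fin (m + 1)) := coordSet m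
  have h0J : ∀ t, t ≤ m → (0 : Fin (m + 1)) ∉ J t := fun t _ => zero_notMem_coordSet m t
  have hins : ∀ t, t < m → insert (jj t) (J t) = J (t + 1) ∧ jj t ∉ J t := fun t ht => coordSet_succ ht
  have hcard : ∀ t, t ≤ m → (J t).card = t := fun t ht => card_coordSet ht
  have main : ∀ t (ht : t ≤ m) (y : P), p y = z →
      Cyc.c1PowFun δP L v t (Cyc.pullFun p δP δX m α) y = if y = C.pt (J t) (h0J t ht) then α z else 0 := by
    intro t
    induction t with
    | zero =>
      intro ht y hy
      have hJ0 : J 0 = ∅ := Finset.card_eq_zero.1 (hcard 0 ht)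
      have key : ∀ (K : Finset (Fin (m + 1))) (hK : (0 : Fin (m + 1)) ∉ K), K = ∅ →
          Cyc.pullFun p δP δX m α y = if y = C.pt K hK then α z else 0 := by
        rintro _ hK rfl
        have hsp := C.pt_specializes hL ∅ hK hy fun j hj => absurd hj (Finset.notMem_empty j)
        have hd := C.delta_pt hδ hδP hL ∅ hK
        rw [Finset.card_empty, Nat.cast_zero, sub_zero] at hd
        by_cases e : y = C.pt ∅ hK
        · rw [if_pos e, pullFun_apply, hy, if_pos (by rw [e]; exact hd), e, C.fibLength_pt]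
          simp
        · rw [if_neg e, pullFun_apply, hy, if_neg]
          intro h
          have := (hδP _ _ hsp (Ne.symm e)).1
          omega
      exact key _ _ hJ0
    | succ t ih =>
      intro ht y hy
      show Cyc.c1CapFun δP L (Cyc.c1PowFun δP L v t _) (v t) y = _
      obtain ⟨hJ, hjJ⟩ := hins t (by omega)
      have hterm : ∀ ξ, ξ ≠ C.pt (J t) (h0J t (by omega)) →
          Cyc.c1PowFun δP L v t (Cyc.pullFun p δP δX m α) ξ * Cyc.secDivFun δP L ξ (v t ξ) y = 0 := by
        intro ξ hξ
        by_contra hne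
        obtain ⟨η, hη, hsp, -⟩ := c1Pow_ne_zero δP v _ t (left_ne_zero_of_mul hne)
        obtain ⟨hη1, -⟩ := pullFun_ne_zero hη
        have hsy := (secDivFun_ne_zero (right_ne_zero_of_mul hne)).1
        have h1 : p η ⤳ z := hy ▸ (hsp.trans hsy).map p.continuous
        have h2 : p η = z := by
          by_contra h
          have := (hδX _ _ h1 h).1
          have := hk _ hη1
          omega
        have h3 : p ξ = z := ((hy ▸ hsy.map p.continuous).antisymm (h2 ▸ hsp.map p.continuous)).eq
        exact left_ne_zero_of_mul hne (by rw [ih (by omega) ξ h3, if_neg hξ])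
      rw [Cyc.c1CapFun, finsum_eq_single _ (C.pt (J t) (h0J t (by omega))) hterm,
        ih (by omega) _ (C.p_pt _ _), if_pos rfl]
      have hiJ : ∀ i, i ∉ J (t + 1) → i ∉ J t := fun i hi h => hi (hJ ▸ Finset.mem_insert_of_mem h)
      have hsucc : C.pt (J t) (h0J t (by omega)) ⤳ C.pt (J (t + 1)) (h0J _ ht) :=
        C.pt_specializes hL _ _ (C.p_pt _ _) fun k hk => (C.van_pt _ _ k).2 (hJ ▸ Finset.mem_insert_of_mem hk)
      have hdt := C.delta_pt hδ hδP hL (J t) (h0J t (by omega))
      have hdt1 := C.delta_pt hδ hδP hL (J (t + 1)) (h0J _ ht)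
      rw [hcard t (by omega)] at hdt
      rw [hcard (t + 1) ht] at hdt1
      rw [Cyc.secDivFun]
      split_ifs with h hy' hy'
      · -- the next point
        subst hy'
        have e : ∀ (K : Finset (Fin (m + 1))) (hK : (0 : Fin (m + 1)) ∉ K) (_ : K = insert (jj t) (J t))
            (h' : C.pt (J t) (h0J t (by omega)) ⤳ C.pt K hK),
            Cyc.secOrdAt L (C.pt (J t) (h0J t (by omega))) (C.pt K hK) h' (v t _) = 1 := by
          rintro _ hK rfl h'
          have hq0 : C.pt (J t) (h0J t (by omega)) ∈ p ⁻¹ᵁ C.U := C.c_mem 0 _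
          have hnv : ¬ C.Van (jj t) (C.pt (J t) (h0J t (by omega))) := mt (C.van_pt _ _ _).1 hjJ
          simp only [v, dif_pos (And.intro hq0 hnv)]
          exact (C.secOrdAt_coord hδP hL 0 (jj t) (q₀ := ⟨C.lin (J t) 0, C.lin_isPrime _ (h0J t (by omega))⟩)
            (q := ⟨C.lin (insert (jj t) (J t)) 0, C.lin_isPrime _ hK⟩) h'
            (C.delta_insert hδP hL (J t) hjJ hK).symm hq0).trans (C.ordAt_crd hδP hL (J t) hK hjJ h')
        rw [e _ (h0J _ ht) hJ.symm h.1, mul_one]
      · refine mul_eq_zero_of_right _ ?_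
        obtain ⟨i, q, rfl⟩ := C.exists_of_mem hy
        obtain ⟨q₀, hq₀⟩ := h.1.mem_open (C.c i).isOpenEmbedding.isOpen_range ⟨q, rfl⟩
        have hp0 : C.pt (J t) (h0J t (by omega)) ∈ p ⁻¹ᵁ C.U := C.c_mem 0 _
        have hnv : ¬ C.Van (jj t) (C.pt (J t) (h0J t (by omega))) := mt (C.van_pt _ _ _).1 hjJ
        simp only [v, dif_pos (And.intro hp0 hnv)]
        by_cases hq : crd i (jj t) ∈ q.asIdeal
        · exfalso
          have hvan : ∀ k ∈ J (t + 1), C.Van k (C.c i q) := by
            intro k hk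
            rw [← hJ, Finset.mem_insert] at hk
            rcases hk with rfl | hk
            · exact (C.van_iff i _ q).2 hq
            · refine (C.van_iff i k q).2 ((specializes_iff (C.c i)).1 (hq₀ ▸ h.1) ?_)
              refine (C.van_iff i k q₀).1 ?_
              rw [hq₀]
              exact (C.van_pt _ _ k).2 hk
          have hs := C.pt_specializes hL (J (t + 1)) (h0J _ ht) hy hvan
          have := (hδP _ _ hs (Ne.symm hy')).1
          have := h.2
          omega
        · exact C.secOrdAt_zero hδP hL i (jj t) hq₀ h.1 h.2 hp0 hq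
      · exact absurd ⟨hy' ▸ hsucc, by rw [hy']; push_cast at hdt1; omega⟩ h
      · rw [mul_zero]
  exact ⟨v, hv, fun t ht y hy => main t ht y hy⟩

end GrothLib.PBDeg
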