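import Groth.Agent.Lib.PBDeg17.Degree
import Groth.Agent.Lib.CycPush.Linear

/-!
# Pushforward of powers of the tautological class, and independence
-/

set_option autoImplicit false
set_option backward.isDefEq.respectTransparency false
set_option linter.style.haveILetI false

universe u

open CategoryTheory AlgebraicGeometry TopologicalSpace Opposite IsLocalRing
open GrothLib.Ref1 GrothLib.C1 GrothLib.CycFlat

noncomputable section

namespace GrothLib.PBDeg

variable {m : ℕ} {X P : Scheme.{u}} {p : P ⟶ X} {L : P.Modules} {δX : X → ℤ} {δP : P → ℤ}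
  [IsLocallyNoetherian X] [IsLocallyNoetherian P]

/-- The standing data of the computations on a projective bundle. -/
structure Setting (p : P ⟶ X) (L : P.Modules) (m : ℕ) (δX : X → ℤ) (δP : P → ℤ) : Prop where
  charts : HasCharts p L m
  dimX : Cyc.IsDimFun X δX
  dimP : Cyc.IsDimFun P δP
  compat : Cyc.DeltaCompat p δP δX
  inv : PicF.IsInvertible L

theorem Setting.lf_pull (S : Setting p L m δX δP) (α : AlgebraicCycle X ℤ) :
    LF (Cyc.pullFun p δP δX m ⇑α) :=
  lf_pullFun p S.dimP (fun x hx => S.charts.shift S.inv S.dimP S.compat x hx) (LF.of_cycle α)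

theorem Setting.delta_eq (S : Setting p L m δX δP) {k : ℤ} {α : AlgebraicCycle X ℤ} (hα : α ∈ Cyc.Zk X δX k)
    {t : ℕ → (ξ : P) → Cyc.secFibre L ξ} {s : ℕ} {y : P}
    (h : Cyc.c1PowFun δP L t s (Cyc.pullFun p δP δX m ⇑α) y ≠ 0) :
    δP y = k + m - s ∧ δX (p y) ≤ k := by
  obtain ⟨ξ, h1, h2, h3⟩ := c1Pow_ne_zero δP t _ s h
  obtain ⟨h4, h5⟩ := pullFun_ne_zero h1
  have hk : δX (p ξ) = k := by_contra fun hne => h4 (hα _ hne)
  refine ⟨by omega, ?_⟩
  rcases eq_or_ne (p ξ) (p y) with e | e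
  · exact e ▸ hk.le
  · exact (S.dimX _ _ (h2.map p.continuous) e).1.le.trans hk.le

/-- Low powers of the tautological class push forward to zero, on the level of cycles. -/
theorem Setting.map_eq_zero (S : Setting p L m δX δP) [IsProper p] {k : ℤ} {α : AlgebraicCycle X ℤ}
    (hα : α ∈ Cyc.Zk X δX k) (t : ℕ → (ξ : P) → Cyc.secFibre L ξ) {s : ℕ} (hs : s < m) (β : AlgebraicCycle P ℤ)
    (hβ : ⇑β = Cyc.c1PowFun δP L t s (Cyc.pullFun p δP δX m ⇑α)) : AlgebraicCycle.map p δP δX β = 0 := by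
  ext z
  rw [CycPush.map_apply]
  refine finsum_mem_eq_zero_of_forall_eq_zero fun y hy => ?_
  by_cases h : β y = 0
  · rw [h, zero_mul]
  obtain ⟨h1, h2⟩ := S.delta_eq hα (by rwa [← hβ])
  rw [AlgebraicCycle.mapCoeff, if_neg (fun e => by have : δP y = δX (p y) := e; omega), Nat.cast_zero, mul_zero]

/-- The top power pushes forward to the cycle itself. -/
theorem Setting.map_eq_self (S : Setting p L m δX δP) [IsProper p] {k : ℤ} {α : AlgebraicCycle X ℤ}
    (hα : α ∈ Cyc.Zk X δX k) {t : ℕ → (ξ : P) → Cyc.secFibre L ξ} (ht : ∀ n ξ, t n ξ ≠ 0) (β : AlgebraicCycle P ℤ)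
    (hβ : ⇑β = Cyc.c1PowFun δP L t m (Cyc.pullFun p δP δX m ⇑α)) : AlgebraicCycle.map p δP δX β = α := by
  classical
  ext z
  by_cases hz : δX z = k
  swap
  · rw [hα z hz, CycPush.map_apply]
    refine finsum_mem_eq_zero_of_forall_eq_zero fun y hy => ?_
    by_cases h : β y = 0
    · rw [h, zero_mul]
    obtain ⟨h1, h2⟩ := S.delta_eq hα (by rwa [← hβ])
    have hy' : p y = z := hy
    rw [AlgebraicCycle.mapCoeff, if_neg (fun e => hz (by
      have : δP y = δX (p y) := e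
      rw [← hy']; omega)), Nat.cast_zero, mul_zero]
  have hk : ∀ η, α η ≠ 0 → δX η = k := fun η h => by_contra fun hn => h (hα η hn)
  obtain ⟨C⟩ := S.charts z
  obtain ⟨v, hv, hdeg⟩ := C.degree S.dimX S.dimP S.compat S.inv hk hz
  let βv : AlgebraicCycle P ℤ := toCycle _ (lf_c1Pow S.dimP S.inv hv (S.lf_pull α) m)
  have hR : RZS δP k {x | δX (p x) ≤ k} ⇑(β - βv) := by
    have h := rzs_c1Pow_sub S.dimX S.dimP S.inv hk (S.lf_pull α) ht hv m
    rw [show k + (m : ℤ) - (m : ℤ) = k by ring] at h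
    exact h.congr fun x => by
      rw [Function.locallyFinsuppWithin.coe_sub, Pi.sub_apply, Pi.sub_apply, hβ]
      rfl
  have h0 := RZS.map_eq_zero p S.dimP S.dimX S.compat (fun x hx => hx) hR z
  rw [CycPush.map_sub, Function.locallyFinsuppWithin.coe_sub, Pi.sub_apply, sub_eq_zero] at h0
  rw [h0, CycPush.map_apply]
  refine (finsum_mem_congr rfl (fun y hy => hdeg y hy)).trans ?_
  rw [finsum_mem_def, finsum_eq_single _ (C.pt (Finset.univ.erase 0) (Finset.notMem_erase 0 _))]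
  · exact (Set.indicator_of_mem (s := p ⁻¹' {z}) (C.p_pt _ _) _).trans (if_pos rfl)
  · intro y hy
    rw [Set.indicator_apply]
    split_ifs <;> simp [hy]

theorem c1Pow_add_exp (t t' : ℕ → (ξ : P) → Cyc.secFibre L ξ) (a : P → ℤ) (i : ℕ) : ∀ s : ℕ,
    Cyc.c1PowFun δP L t' s (Cyc.c1PowFun δP L t i a) =
      Cyc.c1PowFun δP L (fun n => if n < i then t n else t' (n - i)) (i + s) a
  | 0 => by
    have : ∀ j, j ≤ i → Cyc.c1PowFun δP L (fun n => if n < i then t n else t' (n - i)) j a = Cyc.c1PowFun δP L t j a := by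
      intro j
      induction j with
      | zero => intro _; rfl
      | succ j ih =>
        intro hj
        show Cyc.c1CapFun δP L _ _ = Cyc.c1CapFun δP L _ _
        rw [ih (by omega)]
        simp only [if_pos (show j < i by omega)]
    exact (this i le_rfl).symm
  | s + 1 => by
    show Cyc.c1CapFun δP L _ _ = Cyc.c1CapFun δP L _ _
    rw [c1Pow_add_exp t t' a i s]
    congr 1
    show t' s = if i + s < i then t (i + s) else t' (i + s - i)
    rw [if_neg (by omega), Nat.add_sub_cancel_left]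

theorem rz_c1Pow (hδP : Cyc.IsDimFun P δP) (hL : PicF.IsInvertible L) {t : ℕ → (ξ : P) → Cyc.secFibre L ξ}
    (ht : ∀ n ξ, t n ξ ≠ 0) {a : P → ℤ} {k : ℤ} (ha : RZ δP k a) : ∀ s : ℕ, RZ δP (k - s) (Cyc.c1PowFun δP L t s a)
  | 0 => by simpa [Cyc.c1PowFun] using ha
  | s + 1 => by
    have := rz_c1Pow hδP hL ht ha s
    rw [show k - (s : ℤ) = k - ((s + 1 : ℕ) : ℤ) + 1 by push_cast; ring] at this
    exact C1.rz_c1Cap hδP hL this (ht s)

theorem c1Pow_sum (hδP : Cyc.IsDimFun P δP) (hL : PicF.IsInvertible L) {t : ℕ → (ξ : P) → Cyc.secFibre L ξ}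
    (ht : ∀ n ξ, t n ξ ≠ 0) {ι : Type*} [Fintype ι] (a : ι → P → ℤ) (ha : ∀ i, LF (a i)) :
    ∀ s : ℕ, Cyc.c1PowFun δP L t s (fun x => ∑ i, a i x) = fun x => ∑ i, Cyc.c1PowFun δP L t s (a i) x
  | 0 => rfl
  | s + 1 => by
    funext x
    show Cyc.c1CapFun δP L (Cyc.c1PowFun δP L t s _) (t s) x = ∑ i, Cyc.c1CapFun δP L (Cyc.c1PowFun δP L t s (a i)) (t s) x
    rw [c1Pow_sum hδP hL ht a ha s]
    simp only [Cyc.c1CapFun, Finset.sum_mul]
    exact finsum_sum_comm _ _ fun i _ => finite_cap_support (lf_c1Pow hδP hL ht (ha i) s) (t s) x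

theorem c1Pow_smul (hδP : Cyc.IsDimFun P δP) (t : ℕ → (ξ : P) → Cyc.secFibre L ξ) (c : ℤ) (a : P → ℤ) :
    ∀ s : ℕ, Cyc.c1PowFun δP L t s (fun x => c * a x) = fun x => c * Cyc.c1PowFun δP L t s a x
  | 0 => rfl
  | s + 1 => by
    funext x
    show Cyc.c1CapFun δP L (Cyc.c1PowFun δP L t s _) (t s) x = c * Cyc.c1CapFun δP L (Cyc.c1PowFun δP L t s a) (t s) x
    rw [c1Pow_smul hδP t c a s]
    simp only [Cyc.c1CapFun, mul_assoc, ← mul_finsum]

/-- The classes `h^i ∩ p^*` are independent modulo rational equivalence. -/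
theorem Setting.independent (S : Setting p L m δX δP) [IsProper p] {k : ℤ} (α : Fin (m + 1) → AlgebraicCycle X ℤ)
    (hα : ∀ i : Fin (m + 1), α i ∈ Cyc.Zk X δX (k + ((i : ℕ) : ℤ)))
    (t : Fin (m + 1) → ℕ → (ξ : P) → Cyc.secFibre L ξ) (ht : ∀ i n ξ, t i n ξ ≠ 0)
    (h0 : RZ δP (k + m) (fun x => ∑ i : Fin (m + 1), Cyc.c1PowFun δP L (t i) (i : ℕ) (Cyc.pullFun p δP δX m ⇑(α i)) x)) :
    ∀ i : Fin (m + 1), Cyc.RatEquivZero δX (k + ((i : ℕ) : ℤ)) (α i) := by
  haveI := S.charts.flat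
  obtain ⟨w, hw⟩ := exists_sec S.inv
  let T : Fin (m + 1) → ℕ → (ξ : P) → Cyc.secFibre L ξ := fun i n => if n < (i : ℕ) then t i n else w
  have hT : ∀ i n ξ, T i n ξ ≠ 0 := fun i n ξ => by
    simp only [T]
    split_ifs
    · exact ht i n ξ
    · exact hw ξ
  suffices h : ∀ (d : ℕ) (i : Fin (m + 1)), (i : ℕ) + d = m → Cyc.RatEquivZero δX (k + ((i : ℕ) : ℤ)) (α i) by
    exact fun i => h (m - i) i (by have := i.2; omega)
  intro d
  induction d using Nat.strong_induction_on with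
  | _ d ih =>
    intro i hi
    let b : Fin (m + 1) → AlgebraicCycle P ℤ := fun l =>
      toCycle _ (lf_c1Pow S.dimP S.inv (hT l) (S.lf_pull (α l)) ((l : ℕ) + d))
    have h1 := rz_c1Pow S.dimP S.inv (t := fun _ => w) (fun _ => hw) h0 d
    rw [c1Pow_sum S.dimP S.inv (fun _ => hw) _ (fun l => lf_c1Pow S.dimP S.inv (ht l) (S.lf_pull (α l)) _)] at h1
    have hsum : ∀ x, (∑ l, b l) x = ∑ l : Fin (m + 1), Cyc.c1PowFun δP L (fun _ => w) d
        (Cyc.c1PowFun δP L (t l) (l : ℕ) (Cyc.pullFun p δP δX m ⇑(α l))) x := fun x => by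
      rw [Function.locallyFinsuppWithin.coe_sum, Finset.sum_apply]
      refine Finset.sum_congr rfl fun l _ => ?_
      rw [c1Pow_add_exp]
      rfl
    have h2 : Cyc.RatEquivZero δX (k + m - d) (AlgebraicCycle.map p δP δX (∑ l, b l)) :=
      C1.ratEquivZero_map p S.dimP S.dimX S.compat (RZ.to_ratEquivZero S.dimP (h1.congr hsum))
    have hkd : k + (m : ℤ) - d = k + ((i : ℕ) : ℤ) := by omega
    rw [hkd] at h2
    have hmap : AlgebraicCycle.map p δP δX (∑ l, b l) = ∑ l, AlgebraicCycle.map p δP δX (b l) :=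
      map_sum (CycPush.mapHom p δP δX) b _
    rw [hmap, ← Finset.sum_erase_add _ _ (Finset.mem_univ i)] at h2
    have hbi : AlgebraicCycle.map p δP δX (b i) = α i := by
      refine S.map_eq_self (hα i) (hT i) (b i) ?_
      show Cyc.c1PowFun δP L (T i) ((i : ℕ) + d) _ = _
      rw [hi]
    rw [hbi] at h2
    have hrest : RZ δX (k + ((i : ℕ) : ℤ)) ⇑(∑ l ∈ Finset.univ.erase i, AlgebraicCycle.map p δP δX (b l)) := by
      rw [Function.locallyFinsuppWithin.coe_sum]
      refine Finset.sum_induction _ (fun a => RZ δX (k + ((i : ℕ) : ℤ)) a) (fun _ _ ha hb => RZ.add S.dimX ha hb)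
        (RZ.zero S.dimX _) fun l hl => ?_
      have hli : (l : ℕ) ≠ i := fun e => (Finset.mem_erase.1 hl).1 (Fin.ext e)
      rcases Nat.lt_or_ge ((l : ℕ) + d) m with hlt | hge
      · rw [S.map_eq_zero (hα l) (T l) hlt (b l) rfl, Function.locallyFinsuppWithin.coe_zero]
        exact RZ.zero S.dimX _
      · have hl2 : (l : ℕ) ≤ m := Nat.lt_succ_iff.1 l.2
        have hrec := ih (m - (l : ℕ)) (by omega) l (by omega)
        have hp := CycDiv.ratEquivZero_pullFun p S.dimP S.dimX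
          (fun x hx => S.charts.shift S.inv S.dimP S.compat x hx) _ (α l) hrec (toCycle _ (S.lf_pull (α l))) rfl
        have hq := rz_c1Pow S.dimP S.inv (hT l) (RZ.of_ratEquivZero S.dimP hp) ((l : ℕ) + d)
        rw [show k + ((l : ℕ) : ℤ) + (m : ℤ) - (((l : ℕ) + d : ℕ) : ℤ) = k + ((i : ℕ) : ℤ) by omega] at hq
        exact RZ.of_ratEquivZero S.dimX (C1.ratEquivZero_map p S.dimP S.dimX S.compat
          (RZ.to_ratEquivZero S.dimP (α := b l) hq))
    refine RZ.to_ratEquivZero S.dimX (((RZ.of_ratEquivZero S.dimX h2).sub S.dimX hrest).congr fun x => ?_)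
    simp only [Pi.sub_apply, Function.locallyFinsuppWithin.coe_add, Pi.add_apply]
    ring

end GrothLib.PBDeg
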