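import Groth.Agent.Lib.PBDeg17.Degree
import Groth.Agent.Lib.VA.Exists
import Groth.Agent.Lib.FinCov.Frame
import Mathlib

/-!
# Standard charts of the bundles given by relative Proj
-/

set_option autoImplicit false
set_option backward.isDefEq.respectTransparency false
set_option linter.style.haveILetI false

universe u

open CategoryTheory AlgebraicGeometry TopologicalSpace Opposite HomogeneousLocalization
open GrothLib.InvExt (mres IsGen)
open GrothLib.RelProjK (dg em)

noncomputable section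

namespace GrothLib.PBDeg

open GrothLib.VA

variable {X : Scheme.{u}} (B : Bdl X) {m : ℕ}

theorem exists_ringEquiv_away (U : X.AffineZariskiSite) (b : Module.Basis (Fin (m + 1)) Γ(X, U.1) Γ(B.E, U.1))
    (i : Fin (m + 1)) :
    ∃ g : Away (dg B.S U) (ev B.j U (b i)) ≃+* Dh Γ(X, U.1) i,
      (∀ r, g (fromZeroRingHom (dg B.S U) _ ((B.S.strZero U.1 U.2).hom r)) = MvPolynomial.C r) ∧
      ∀ j, g (Away.mk (dg B.S U) (f := ev B.j U (b i)) (B.isSym.2 U.1 U.2 (b i)) 1 (ev B.j U (b j))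
        (by simpa using B.isSym.2 U.1 U.2 (b j))) = crd i j := by
  classical
  obtain ⟨q, hqs, hqj⟩ := SymAlgX.isAffSym_of_isSymAlg B.isQCoh B.isSym.1 U.1 U.2
  let lin : Γ(B.E, U.1) →ₗ[Γ(X, U.1)] Dh Γ(X, U.1) i := b.constr Γ(X, U.1) (fun j => crd i j)
  let F := (SymmetricAlgebra.lift lin : SymmetricAlgebra Γ(X, U.1) Γ(B.E, U.1) →ₐ[Γ(X, U.1)] Dh Γ(X, U.1) i)
  let ψ : B.S.presheaf.obj (op U.1) →+* Dh Γ(X, U.1) i := F.toRingHom.comp q.symm.toRingHom
  have hψr : ∀ r, ψ ((B.S.str.app (op U.1)).hom r) = MvPolynomial.C r := fun r => by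
    show F (q.symm _) = _
    rw [← hqs r, RingEquiv.symm_apply_apply]
    exact F.commutes r
  have hψe : ∀ j, ψ (ev B.j U (b j)) = crd i j := fun j => by
    show F (q.symm _) = _
    rw [show ev B.j U (b j) = q (SymmetricAlgebra.ι _ _ (b j)) from (hqj (b j)).symm, RingEquiv.symm_apply_apply,
      SymmetricAlgebra.lift_ι_apply, Module.Basis.constr_basis]
  have hdi : ev B.j U (b i) ∈ dg B.S U 1 := B.isSym.2 U.1 U.2 (b i)
  have hunit : IsUnit (ψ (ev B.j U (b i))) := by rw [hψe, crd_self]; exact isUnit_one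
  let g := ProjPt.evalAway (dg B.S U) ψ (ev B.j U (b i)) hunit
  have hg0 : ∀ r, g (fromZeroRingHom (dg B.S U) _ ((B.S.strZero U.1 U.2).hom r)) = MvPolynomial.C r := fun r =>
    (evalAway_fromZero (𝒜 := dg B.S U) ψ hdi hunit _).trans (hψr r)
  have hg1 : ∀ j, g (Away.mk (dg B.S U) (f := ev B.j U (b i)) hdi 1 (ev B.j U (b j))
      (by simpa using B.isSym.2 U.1 U.2 (b j))) = crd i j := fun j => by
    have := ProjPt.evalAway_mk_spec (dg B.S U) ψ hdi hunit 1 (ev B.j U (b j)) (by simpa using B.isSym.2 U.1 U.2 (b j))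
    rw [hψe, hψe, crd_self, one_pow, mul_one] at this
    exact this
  let ω : Dh Γ(X, U.1) i →+* Away (dg B.S U) (ev B.j U (b i)) :=
    MvPolynomial.eval₂Hom ((fromZeroRingHom (dg B.S U) _).comp (B.S.strZero U.1 U.2).hom)
      fun j => Away.mk (dg B.S U) hdi 1 (ev B.j U (b j.1)) (by simpa using B.isSym.2 U.1 U.2 (b j.1))
  have h1 : g.comp ω = RingHom.id _ := by
    refine MvPolynomial.ringHom_ext (fun r => ?_) fun j => ?_
    · rw [RingHom.comp_apply, MvPolynomial.eval₂Hom_C, RingHom.comp_apply]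
      exact hg0 r
    · rw [RingHom.comp_apply, MvPolynomial.eval₂Hom_X', hg1, crd_of_ne j.2]
      rfl
  have h2 : ω.comp g = RingHom.id _ := by
    refine away_hom_ext (𝒜 := dg B.S U) hdi (Set.range fun j => ev B.j U (b j)) ?_ ?_ (fun a => ?_) ?_
    · refine eq_top_iff.2 ((closure_str_ev B.isQCoh B.isSym U).ge.trans (Subring.closure_le.2 ?_))
      rintro _ (⟨r, rfl⟩ | ⟨e, rfl⟩)
      · exact Subring.subset_closure (Or.inl (B.S.str_mem U.1 U.2 r))
      · rw [← b.sum_repr e]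
        show ev B.j U _ ∈ _
        rw [show ev B.j U (∑ j, b.repr e j • b j) = ∑ j, ev B.j U (b.repr e j • b j) from map_sum (B.j.app U.1).hom _ _]
        refine Subring.sum_mem _ fun j _ => ?_
        rw [show ev B.j U (b.repr e j • b j) = (B.S.str.app (op U.1)).hom (b.repr e j) * ev B.j U (b j) from
          Scheme.Modules.Hom.app_smul B.j _ _]
        exact Subring.mul_mem _ (Subring.subset_closure (Or.inl (B.S.str_mem U.1 U.2 _)))
          (Subring.subset_closure (Or.inr ⟨j, rfl⟩))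
    · rintro _ ⟨j, rfl⟩
      exact B.isSym.2 U.1 U.2 (b j)
    · obtain ⟨r, rfl⟩ := (str_bijective_zero B.isQCoh B.isSym U.1 U.2).2 a
      rw [RingHom.comp_apply, hg0, MvPolynomial.eval₂Hom_C]
      rfl
    · rintro _ ⟨j, rfl⟩
      rw [RingHom.comp_apply, hg1 j, RingHom.id_apply]
      rcases eq_or_ne j i with rfl | h
      · rw [crd_self, map_one]
        refine (HomogeneousLocalization.val_injective _ ?_).symm
        rw [Away.val_mk, HomogeneousLocalization.val_one, Localization.mk_eq_mk', IsLocalization.mk'_eq_iff_eq_mul]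
        simp
      · rw [crd_of_ne h, MvPolynomial.eval₂Hom_X']
  exact ⟨
    { toFun := g
      invFun := ω
      left_inv := fun a => RingHom.congr_fun h2 a
      right_inv := fun a => RingHom.congr_fun h1 a
      map_mul' := map_mul g
      map_add' := map_add g }, hg0, hg1⟩

theorem hasCharts_of_bdl (hE : FlatMod.IsFinLocFreeOfRank (m + 1) B.E) : HasCharts B.p B.O m := by
  classical
  intro z
  obtain ⟨V, e, hz, he⟩ := FinCov.exists_frame_nhd_of_rank hE z
  obtain ⟨U, hU, hzU, hUV⟩ := exists_isAffineOpen_mem_and_subset hz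
  let UU : X.AffineZariskiSite := ⟨U, hU⟩
  let b : Module.Basis (Fin (m + 1)) Γ(X, U) Γ(B.E, U) := he.basis U hUV
  choose g hg0 hg1 using exists_ringEquiv_away B UU b
  have hd : ∀ i, ev B.j UU (b i) ∈ dg B.S UU 1 := fun i => B.isSym.2 U hU (b i)
  let g' : ∀ i, Away (dg B.S UU) (ev B.j UU (b i)) →+* Γ(Spec (CommRingCat.of (Dh Γ(X, U) i)), ⊤) := fun i =>
    ((Scheme.ΓSpecIso (CommRingCat.of (Dh Γ(X, U) i))).inv).hom.comp (g i).toRingHom
  let c : ∀ i : Fin (m + 1), Spec (CommRingCat.of (Dh Γ(X, U) i)) ⟶ B.P := fun i =>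
    ProjPt.pt (dg B.S UU) (hd i) one_pos (g' i) ≫ em B.p B.chart UU
  haveI hci : ∀ i, IsOpenImmersion (c i) := fun i => by
    haveI : IsIso (CommRingCat.ofHom (g' i)) := (ConcreteCategory.isIso_iff_bijective _).2
      ((ConcreteCategory.bijective_of_isIso (Scheme.ΓSpecIso (CommRingCat.of (Dh Γ(X, U) i))).inv).comp (g i).bijective)
    haveI : IsIso (Spec (CommRingCat.of (Dh Γ(X, U) i))).toSpecΓ := by
      rw [← SpecMap_ΓSpecIso_hom]; infer_instance
    show IsOpenImmersion ((_ ≫ Spec.map _ ≫ Proj.awayι _ _ _ _) ≫ em B.p B.chart UU)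
    infer_instance
  have hrange : ∀ i, Set.range (c i) = (B.piece UU (b i) : Set B.P) := fun i => by
    haveI : IsIso (CommRingCat.ofHom (g' i)) := (ConcreteCategory.isIso_iff_bijective _).2
      ((ConcreteCategory.bijective_of_isIso (Scheme.ΓSpecIso (CommRingCat.of (Dh Γ(X, U) i))).inv).comp (g i).bijective)
    haveI : IsIso (Spec (CommRingCat.of (Dh Γ(X, U) i))).toSpecΓ := by
      rw [← SpecMap_ΓSpecIso_hom]; infer_instance
    haveI : IsIso ((Spec (CommRingCat.of (Dh Γ(X, U) i))).toSpecΓ ≫ Spec.map (CommRingCat.ofHom (g' i))) := inferInstance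
    rw [show c i = ((Spec (CommRingCat.of (Dh Γ(X, U) i))).toSpecΓ ≫ Spec.map (CommRingCat.ofHom (g' i))) ≫
      (Proj.awayι (dg B.S UU) _ (hd i) one_pos ≫ em B.p B.chart UU) by simp [c, ProjPt.pt, Category.assoc]]
    rw [Scheme.Hom.comp_base, TopCat.coe_comp, Set.range_comp]
    have hs : Function.Surjective ((Spec (CommRingCat.of (Dh Γ(X, U) i))).toSpecΓ ≫ Spec.map (CommRingCat.ofHom (g' i))) :=
      (TopCat.homeoOfIso (Scheme.forgetToTop.mapIso (asIso ((Spec (CommRingCat.of (Dh Γ(X, U) i))).toSpecΓ ≫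
        Spec.map (CommRingCat.ofHom (g' i)))))).surjective
    rw [hs.range_eq, Set.image_univ, Scheme.Hom.comp_base, TopCat.coe_comp, Set.range_comp]
    show _ = em B.p B.chart UU '' (Proj.basicOpen (dg B.S UU) (ev B.j UU (b i)) : Set _)
    rw [← Proj.opensRange_awayι (dg B.S UU) _ (hd i) one_pos]
    rfl
  have hgen : ∀ i (y : B.P) (hy : y ∈ B.piece UU (b i)) (hyU : y ∈ B.p ⁻¹ᵁ U),
      Ref1.Gen B.O y (B.O.presheaf.germ (B.p ⁻¹ᵁ U) y hyU (show Γ(B.O, B.p ⁻¹ᵁ U) from B.can.app U (b i))) := by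
    intro i y hy hyU
    have := Ref1.gen_of_isGen (B.isGen_img UU (b i)) hy
    rwa [show B.O.presheaf.germ (B.piece UU (b i)) y hy (B.img UU (b i) (b i)) =
      B.O.presheaf.germ (B.p ⁻¹ᵁ U) y hyU (show Γ(B.O, B.p ⁻¹ᵁ U) from B.can.app U (b i)) from
      TopCat.Presheaf.germ_res_apply B.O.presheaf (homOfLE (pc_le UU (b i))) y hy _] at this
  refine ⟨
    { U := U
      hU := hU
      mem := hzU
      c := c
      isOpen := hci
      comp := fun i => ?_
      s := fun j => (show Γ(B.O, B.p ⁻¹ᵁ U) from B.can.app U (b j))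
      exists_gen := fun y hy => ?_
      mem_range := fun i y hy hgy => ?_
      gen := fun i q hq => hgen i _ ((hrange i).le ⟨q, rfl⟩) hq
      rat := fun i j q hq => ?_ }⟩
  · show (ProjPt.pt _ _ _ _ ≫ em B.p B.chart UU) ≫ B.p = _
    rw [Category.assoc, VA.em_comp B.isProj UU, reassoc_of% (pt_toSpecZero (𝒜 := dg B.S UU) _ _ _),
      ← SpecMap_ΓSpecIso_hom, ← Spec.map_comp_assoc, ← Spec.map_comp_assoc]
    congr 2
    refine CommRingCat.hom_ext (RingHom.ext fun r => ?_)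
    show (Scheme.ΓSpecIso (CommRingCat.of (Dh Γ(X, U) i))).hom
      ((Scheme.ΓSpecIso (CommRingCat.of (Dh Γ(X, U) i))).inv (g i _)) = MvPolynomial.C r
    rw [Iso.inv_hom_id_apply]
    exact hg0 i r
  · obtain ⟨w, rfl⟩ := (RelProjK.mem_opensRange_em (chart := B.chart) UU).mpr hy
    obtain ⟨e', he'⟩ := exists_notMem_ev B.isQCoh B.isSym UU w
    obtain ⟨i, hi⟩ : ∃ i, ev B.j UU (b i) ∉ w.asHomogeneousIdeal := by
      by_contra! h
      refine he' ?_
      rw [← b.sum_repr e', show ev B.j UU (∑ j, b.repr e' j • b j) = ∑ j, ev B.j UU (b.repr e' j • b j) from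
        map_sum (B.j.app U).hom _ _]
      refine Ideal.sum_mem _ fun j _ => ?_
      rw [show ev B.j UU (b.repr e' j • b j) = (B.S.str.app (op U)).hom (b.repr e' j) * ev B.j UU (b j) from
        Scheme.Modules.Hom.app_smul B.j _ _]
      exact Ideal.mul_mem_left _ _ (h j)
    exact ⟨i, hgen i _ (mem_pc.mpr hi) hy⟩
  · obtain ⟨w, rfl⟩ := (RelProjK.mem_opensRange_em (chart := B.chart) UU).mpr hy
    obtain ⟨e', he'⟩ := exists_notMem_ev B.isQCoh B.isSym UU w
    have hwp : em B.p B.chart UU w ∈ B.piece UU e' := mem_pc.mpr he'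
    obtain ⟨s, hs⟩ := B.exists_img_eq UU e' (b i)
    let t : Γ(B.O, B.p ⁻¹ᵁ U) := B.can.app U (b i)
    have hgerm : ∀ (x : B.P) (hx : x ∈ B.piece UU e'), B.O.presheaf.germ (B.p ⁻¹ᵁ U) x (pc_le UU e' hx) t =
        B.P.presheaf.germ (B.piece UU e') x hx s • B.O.presheaf.germ (B.piece UU e') x hx (B.img UU e' e') := by
      intro x hx
      rw [← Mero.germ_smul, ← hs]
      exact (TopCat.Presheaf.germ_res_apply B.O.presheaf (homOfLE (pc_le UU e')) x hx t).symm
    have hu : IsUnit (B.P.presheaf.germ (B.piece UU e') _ hwp s) := by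
      obtain ⟨a, ha⟩ := hgy.2 (B.O.presheaf.germ (B.piece UU e') _ hwp (B.img UU e' e'))
      dsimp only at ha
      rw [hgerm _ hwp, smul_smul] at ha
      have := (Ref1.gen_of_isGen (B.isGen_img UU e') hwp).1 (a₂ := 1) (ha.trans (one_smul _ _).symm)
      exact IsUnit.of_mul_eq_one_right _ this
    have hmem : em B.p B.chart UU w ∈ B.P.basicOpen s := (B.P.mem_basicOpen _ _ hwp).2 hu
    have hle : B.P.basicOpen s ≤ B.p ⁻¹ᵁ U := (B.P.basicOpen_le s).trans (pc_le UU e')
    have hG : GenAt B.O t (em B.p B.chart UU w) := by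
      refine ⟨B.P.basicOpen s, hle, hmem, Ref1.isGen_of_gen fun x hx => ?_⟩
      have hx' := B.P.basicOpen_le s hx
      rw [show B.O.presheaf.germ (B.P.basicOpen s) x hx (mres B.O hle t) = B.O.presheaf.germ (B.p ⁻¹ᵁ U) x (hle hx) t from
        TopCat.Presheaf.germ_res_apply B.O.presheaf (homOfLE hle) x hx t, hgerm x hx']
      exact C1.gen_smul_unit (Ref1.gen_of_isGen (B.isGen_img UU e') hx') ((B.P.mem_basicOpen _ _ hx').1 hx)
    exact (hrange i).ge (mem_pc_of_genAt B.isQCoh B.isSym B.isCanon hG)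
  · haveI := hci i
    have hq' : c i q ∈ B.piece UU (b i) := (hrange i).le ⟨q, rfl⟩
    obtain ⟨s, hs⟩ := B.exists_img_eq UU (b i) (b j)
    have hgerm : B.O.presheaf.germ (B.p ⁻¹ᵁ U) (c i q) hq (show Γ(B.O, B.p ⁻¹ᵁ U) from B.can.app U (b j)) =
        B.P.presheaf.germ (B.piece UU (b i)) (c i q) hq' s •
          B.O.presheaf.germ (B.p ⁻¹ᵁ U) (c i q) hq (show Γ(B.O, B.p ⁻¹ᵁ U) from B.can.app U (b i)) := by
      rw [show B.O.presheaf.germ (B.p ⁻¹ᵁ U) (c i q) hq (show Γ(B.O, B.p ⁻¹ᵁ U) from B.can.app U (b j)) =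
        B.O.presheaf.germ (B.piece UU (b i)) (c i q) hq' (B.img UU (b i) (b j)) from
        (TopCat.Presheaf.germ_res_apply B.O.presheaf (homOfLE (pc_le UU (b i))) _ hq' _).symm,
        show B.O.presheaf.germ (B.p ⁻¹ᵁ U) (c i q) hq (show Γ(B.O, B.p ⁻¹ᵁ U) from B.can.app U (b i)) =
        B.O.presheaf.germ (B.piece UU (b i)) (c i q) hq' (B.img UU (b i) (b i)) from
        (TopCat.Presheaf.germ_res_apply B.O.presheaf (homOfLE (pc_le UU (b i))) _ hq' _).symm,
        ← Mero.germ_smul, ← hs]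
    rw [hgerm]
    congr 1
    apply (ConcreteCategory.bijective_of_isIso ((c i).stalkMap q)).1
    refine Eq.trans ?_ (stalkMap_val (c i) q (crd i j)).symm
    refine (Scheme.Hom.germ_stalkMap_apply (c i) (B.piece UU (b i)) q hq' s).trans ?_
    have hle : (⊤ : (Spec (CommRingCat.of (Dh Γ(X, U) i))).Opens) ≤ c i ⁻¹ᵁ B.piece UU (b i) :=
      fun x _ => (hrange i).le ⟨x, rfl⟩
    rw [← TopCat.Presheaf.germ_res_apply (Spec (CommRingCat.of (Dh Γ(X, U) i))).presheaf (homOfLE hle) q trivial]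
    show (Spec (CommRingCat.of (Dh Γ(X, U) i))).presheaf.germ ⊤ q trivial _ =
      (Spec (CommRingCat.of (Dh Γ(X, U) i))).presheaf.germ ⊤ q trivial _
    refine congrArg _ ?_
    show ((c i).appLE (B.piece UU (b i)) ⊤ hle).hom s = _
    have h1 : (⊤ : (Spec (CommRingCat.of (Dh Γ(X, U) i))).Opens) ≤
        ProjPt.pt (dg B.S UU) (hd i) one_pos (g' i) ⁻¹ᵁ Proj.basicOpen (dg B.S UU) (ev B.j UU (b i)) :=
      (ProjPt.pt_preimage_self (dg B.S UU) _ _ _).ge
    have hem : Proj.basicOpen (dg B.S UU) (ev B.j UU (b i)) ≤ em B.p B.chart UU ⁻¹ᵁ B.piece UU (b i) :=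
      fun w hw => ⟨w, hw, rfl⟩
    refine Eq.trans ?_ ((Ample.ProjMap.pt_appLE_awayToSection (dg B.S UU) (hd i) one_pos (g' i)
      (Away.mk (dg B.S UU) (f := ev B.j UU (b i)) (hd i) 1 (ev B.j UU (b j))
        (by simpa using B.isSym.2 U hU (b j))) h1).trans
      (congrArg ((Scheme.ΓSpecIso (CommRingCat.of (Dh Γ(X, U) i))).inv).hom (hg1 i j)))
    rw [← appLE_rat B.isSym B.isCanon UU (b i) (b j) hs hem, ← CommRingCat.comp_apply, Scheme.Hom.appLE_comp_appLE]

end GrothLib.PBDeg
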