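import Groth.Agent.Lib.PBDeg17.Data
import Groth.Agent.Lib.C1.Tensor

/-!
# Linear subspaces in the fibres of a projective bundle given by standard charts
-/

set_option autoImplicit false
set_option backward.isDefEq.respectTransparency false
set_option linter.style.haveILetI false

universe u

open CategoryTheory AlgebraicGeometry TopologicalSpace Opposite IsLocalRing
open GrothLib.Ref1 GrothLib.C1

noncomputable section

namespace GrothLib.PBDeg

variable {m : ℕ}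

/-- The dehomogenised polynomial ring. -/
abbrev Dh (R : Type u) [CommRing R] (i : Fin (m + 1)) : Type u := MvPolynomial {j : Fin (m + 1) // j ≠ i} R

/-- The coordinates in the chart of index `i`. -/
def crd {R : Type u} [CommRing R] (i j : Fin (m + 1)) : Dh R i :=
  if h : j = i then 1 else MvPolynomial.X ⟨j, h⟩

theorem crd_self {R : Type u} [CommRing R] (i : Fin (m + 1)) : (crd i i : Dh R i) = 1 := dif_pos rfl

theorem crd_of_ne {R : Type u} [CommRing R] {i j : Fin (m + 1)} (h : j ≠ i) :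
    (crd i j : Dh R i) = MvPolynomial.X ⟨j, h⟩ := dif_neg h

/-- Standard charts of a projective bundle of relative dimension `m` over an affine neighbourhood of a point. -/
structure Chart {X P : Scheme.{u}} (p : P ⟶ X) (L : P.Modules) (m : ℕ) (z : X) where
  U : X.Opens
  hU : IsAffineOpen U
  mem : z ∈ U
  c : ∀ i : Fin (m + 1), Spec (CommRingCat.of (Dh Γ(X, U) i)) ⟶ P
  isOpen : ∀ i, IsOpenImmersion (c i)
  comp : ∀ i, c i ≫ p = Spec.map (CommRingCat.ofHom MvPolynomial.C) ≫ hU.fromSpec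
  s : Fin (m + 1) → Γ(L, p ⁻¹ᵁ U)
  exists_gen : ∀ (y : P) (hy : y ∈ p ⁻¹ᵁ U), ∃ i, Gen L y (L.presheaf.germ (p ⁻¹ᵁ U) y hy (s i))
  mem_range : ∀ (i : Fin (m + 1)) (y : P) (hy : y ∈ p ⁻¹ᵁ U),
    Gen L y (L.presheaf.germ (p ⁻¹ᵁ U) y hy (s i)) → y ∈ Set.range (c i)
  gen : ∀ (i : Fin (m + 1)) (q : PrimeSpectrum (Dh Γ(X, U) i)) (hq : c i q ∈ p ⁻¹ᵁ U),
    Gen L (c i q) (L.presheaf.germ (p ⁻¹ᵁ U) (c i q) hq (s i))
  rat : ∀ (i j : Fin (m + 1)) (q : PrimeSpectrum (Dh Γ(X, U) i)) (hq : c i q ∈ p ⁻¹ᵁ U),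
    L.presheaf.germ (p ⁻¹ᵁ U) (c i q) hq (s j) =
      (haveI := isOpen i; val (c i) q (crd i j)) • L.presheaf.germ (p ⁻¹ᵁ U) (c i q) hq (s i)

attribute [instance] Chart.isOpen

variable {X P : Scheme.{u}} {p : P ⟶ X} {L : P.Modules} {z : X} (C : Chart p L m z)

/-- The prime of the point in the affine neighbourhood. -/
def Chart.prime : Ideal Γ(X, C.U) := (C.hU.primeIdealOf ⟨z, C.mem⟩).asIdeal

instance : C.prime.IsPrime := (C.hU.primeIdealOf ⟨z, C.mem⟩).2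

theorem Chart.p_c (i : Fin (m + 1)) (q : PrimeSpectrum (Dh Γ(X, C.U) i)) :
    p (C.c i q) = C.hU.fromSpec ⟨q.asIdeal.comap MvPolynomial.C, inferInstance⟩ := by
  rw [← Scheme.Hom.comp_apply, C.comp i, Scheme.Hom.comp_apply]
  rfl

theorem Chart.c_mem (i : Fin (m + 1)) (q : PrimeSpectrum (Dh Γ(X, C.U) i)) : C.c i q ∈ p ⁻¹ᵁ C.U := by
  show p (C.c i q) ∈ C.U
  rw [C.p_c i q]
  exact C.hU.range_fromSpec.le ⟨_, rfl⟩

theorem Chart.p_c_eq_iff (i : Fin (m + 1)) (q : PrimeSpectrum (Dh Γ(X, C.U) i)) :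
    p (C.c i q) = z ↔ q.asIdeal.comap MvPolynomial.C = C.prime := by
  rw [C.p_c i q]
  constructor
  · intro h
    exact congrArg PrimeSpectrum.asIdeal (C.hU.fromSpec.isOpenEmbedding.injective
      (h.trans (C.hU.fromSpec_primeIdealOf ⟨z, C.mem⟩).symm))
  · intro h
    refine Eq.trans ?_ (C.hU.fromSpec_primeIdealOf ⟨z, C.mem⟩)
    exact congrArg _ (PrimeSpectrum.ext h)

theorem Chart.mem_of_eq {y : P} (hy : p y = z) : y ∈ p ⁻¹ᵁ C.U := show p y ∈ C.U from hy ▸ C.mem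

/-- The section `s j` vanishes at the point. -/
def Chart.Van (j : Fin (m + 1)) (y : P) : Prop :=
  ∃ hy : y ∈ p ⁻¹ᵁ C.U, cls (L.presheaf.germ (p ⁻¹ᵁ C.U) y hy (C.s j)) = 0

theorem Chart.van_iff (i j : Fin (m + 1)) (q : PrimeSpectrum (Dh Γ(X, C.U) i)) :
    C.Van j (C.c i q) ↔ crd i j ∈ q.asIdeal := by
  have hg := C.gen i q (C.c_mem i q)
  constructor
  · rintro ⟨hy, h⟩
    rw [C.rat i j q hy] at h
    by_contra hn
    have := coord_smul_cls hg (val (C.c i) q (crd i j))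
    rw [show val (C.c i) q (crd i j) • cls (L.presheaf.germ (p ⁻¹ᵁ C.U) (C.c i q) hy (C.s i)) =
      (0 : Cyc.secFibre L (C.c i q)) from h, ← zero_smul (P.presheaf.stalk (C.c i q)) (cls _),
      coord_smul_cls hg, map_zero] at this
    exact (((isUnit_val_iff (C.c i)).2 hn).map (P.residue (C.c i q)).hom).ne_zero this.symm
  · intro h
    refine ⟨C.c_mem i q, ?_⟩
    rw [C.rat i j q _]
    have hmem : val (C.c i) q (crd i j) ∈ maximalIdeal (P.presheaf.stalk (C.c i q)) := by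
      rw [maximalIdeal_eq (C.c i) q]; exact Ideal.mem_map_of_mem _ h
    exact (Submodule.Quotient.mk_eq_zero _).2 (Submodule.smul_mem_smul hmem trivial)

theorem Chart.exists_of_mem {y : P} (hy : p y = z) :
    ∃ (i : Fin (m + 1)) (q : PrimeSpectrum (Dh Γ(X, C.U) i)), C.c i q = y := by
  obtain ⟨i, hi⟩ := C.exists_gen y (C.mem_of_eq hy)
  exact ⟨i, C.mem_range i y _ hi⟩

theorem Chart.range_of_not_van (hL : PicF.IsInvertible L) {i : Fin (m + 1)} {y : P} (hy : y ∈ p ⁻¹ᵁ C.U)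
    (h : ¬ C.Van i y) : ∃ q, C.c i q = y :=
  C.mem_range i y hy (gen_of_cls_ne_zero hL fun h0 => h ⟨hy, h0⟩)

/-- The ideal of a linear subspace in the fibre, in the chart of index `i`. -/
def Chart.lin (J : Finset (Fin (m + 1))) (i : Fin (m + 1)) : Ideal (Dh Γ(X, C.U) i) :=
  C.prime.map MvPolynomial.C ⊔ Ideal.span ((fun j => crd i j) '' (J : Set (Fin (m + 1))))

/-- Evaluation on a linear subspace of the fibre. -/
def Chart.ev (J : Finset (Fin (m + 1))) (i : Fin (m + 1)) :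
    Dh Γ(X, C.U) i →+* MvPolynomial (Fin (m + 1)) (Γ(X, C.U) ⧸ C.prime) :=
  MvPolynomial.eval₂Hom ((MvPolynomial.C).comp (Ideal.Quotient.mk C.prime))
    fun j => if j.1 ∈ J then 0 else MvPolynomial.X j.1

theorem Chart.ev_crd (J : Finset (Fin (m + 1))) {i : Fin (m + 1)} (hi : i ∉ J) (j : Fin (m + 1)) :
    C.ev J i (crd i j) = if j ∈ J then 0 else if j = i then 1 else MvPolynomial.X j := by
  rcases eq_or_ne j i with rfl | h
  · rw [crd_self, map_one, if_neg hi, if_pos rfl]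
  · rw [crd_of_ne h, Chart.ev, MvPolynomial.eval₂Hom_X', if_neg h]

theorem Chart.ker_ev (J : Finset (Fin (m + 1))) {i : Fin (m + 1)} (hi : i ∉ J) :
    RingHom.ker (C.ev J i) = C.lin J i := by
  refine le_antisymm (fun f hf => ?_) (sup_le (Ideal.map_le_iff_le_comap.2 fun r hr => ?_) (Ideal.span_le.2 ?_))
  · have h0 : ∀ r ∈ C.prime, ((Ideal.Quotient.mk (C.lin J i)).comp MvPolynomial.C) r = 0 := fun r hr =>
      Ideal.Quotient.eq_zero_iff_mem.2 (Ideal.mem_sup_left (Ideal.mem_map_of_mem _ hr))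
    let θ : MvPolynomial (Fin (m + 1)) (Γ(X, C.U) ⧸ C.prime) →+* Dh Γ(X, C.U) i ⧸ C.lin J i :=
      MvPolynomial.eval₂Hom (Ideal.Quotient.lift _ _ h0) fun j => Ideal.Quotient.mk _ (crd i j)
    have hθ : θ.comp (C.ev J i) = Ideal.Quotient.mk (C.lin J i) := by
      refine MvPolynomial.ringHom_ext (fun r => ?_) fun j => ?_
      · simp [θ, Chart.ev]
      · rw [RingHom.comp_apply, Chart.ev, MvPolynomial.eval₂Hom_X']
        split_ifs with h
        · rw [map_zero]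
          refine (Ideal.Quotient.eq_zero_iff_mem.2 (show MvPolynomial.X j ∈ C.lin J i from Ideal.mem_sup_right (Ideal.subset_span ?_))).symm
          exact ⟨j.1, h, crd_of_ne j.2⟩
        · rw [MvPolynomial.eval₂Hom_X', crd_of_ne j.2]
    refine Ideal.Quotient.eq_zero_iff_mem.1 ?_
    rw [← hθ, RingHom.comp_apply, RingHom.mem_ker.1 hf, map_zero]
  · rw [Ideal.mem_comap, RingHom.mem_ker, Chart.ev, MvPolynomial.eval₂Hom_C, RingHom.comp_apply,
      Ideal.Quotient.eq_zero_iff_mem.2 hr, map_zero]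
  · rintro _ ⟨j, hj, rfl⟩
    show C.ev J i (crd i j) = 0
    rw [C.ev_crd J hi, if_pos (Finset.mem_coe.1 hj)]

theorem Chart.lin_isPrime (J : Finset (Fin (m + 1))) {i : Fin (m + 1)} (hi : i ∉ J) : (C.lin J i).IsPrime :=
  C.ker_ev J hi ▸ RingHom.ker_isPrime _

theorem Chart.crd_mem_lin (J : Finset (Fin (m + 1))) {i : Fin (m + 1)} (hi : i ∉ J) (j : Fin (m + 1)) :
    crd i j ∈ C.lin J i ↔ j ∈ J := by
  rw [← C.ker_ev J hi, RingHom.mem_ker, C.ev_crd J hi]
  refine ⟨fun h => ?_, fun h => if_pos h⟩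
  by_contra hn
  rw [if_neg hn] at h
  split_ifs at h
  · exact one_ne_zero h
  · exact MvPolynomial.X_ne_zero _ h

theorem Chart.comap_lin (J : Finset (Fin (m + 1))) {i : Fin (m + 1)} (hi : i ∉ J) :
    (C.lin J i).comap MvPolynomial.C = C.prime := by
  ext r
  rw [Ideal.mem_comap, ← C.ker_ev J hi, RingHom.mem_ker, Chart.ev, MvPolynomial.eval₂Hom_C, RingHom.comp_apply,
    map_eq_zero_iff _ (MvPolynomial.C_injective _ _), Ideal.Quotient.eq_zero_iff_mem]

/-- The generic point of a linear subspace of the fibre. -/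
def Chart.pt (J : Finset (Fin (m + 1))) {i : Fin (m + 1)} (hi : i ∉ J) : P :=
  C.c i ⟨C.lin J i, C.lin_isPrime J hi⟩

theorem Chart.p_pt (J : Finset (Fin (m + 1))) {i : Fin (m + 1)} (hi : i ∉ J) : p (C.pt J hi) = z :=
  (C.p_c_eq_iff i _).2 (C.comap_lin J hi)

theorem Chart.van_pt (J : Finset (Fin (m + 1))) {i : Fin (m + 1)} (hi : i ∉ J) (j : Fin (m + 1)) :
    C.Van j (C.pt J hi) ↔ j ∈ J :=
  (C.van_iff i j _).trans (C.crd_mem_lin J hi j)

theorem Chart.lin_le (J : Finset (Fin (m + 1))) {i : Fin (m + 1)} (q : PrimeSpectrum (Dh Γ(X, C.U) i))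
    (hp : p (C.c i q) = z) (hJ : ∀ j ∈ J, C.Van j (C.c i q)) : C.lin J i ≤ q.asIdeal := by
  refine sup_le (Ideal.map_le_iff_le_comap.2 ((C.p_c_eq_iff i q).1 hp).ge) (Ideal.span_le.2 ?_)
  rintro _ ⟨j, hj, rfl⟩
  exact (C.van_iff i j q).1 (hJ j hj)

theorem Chart.notMem_of_van {J : Finset (Fin (m + 1))} {i : Fin (m + 1)} {q : PrimeSpectrum (Dh Γ(X, C.U) i)}
    (hJ : ∀ j ∈ J, C.Van j (C.c i q)) : i ∉ J := fun h =>
  q.2.ne_top ((Ideal.eq_top_iff_one _).2 (crd_self (R := Γ(X, C.U)) i ▸ (C.van_iff i i q).1 (hJ i h)))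

/-- The generic point of a linear subspace specialises to all its points. -/
theorem Chart.pt_specializes (hL : PicF.IsInvertible L) (J : Finset (Fin (m + 1))) {i₀ : Fin (m + 1)} (hi₀ : i₀ ∉ J)
    {y : P} (hy : p y = z) (hJ : ∀ j ∈ J, C.Van j y) : C.pt J hi₀ ⤳ y := by
  obtain ⟨i, q, rfl⟩ := C.exists_of_mem hy
  have hi : i ∉ J := C.notMem_of_van hJ
  have h1 : C.pt J hi ⤳ C.c i q := (specializes_iff (C.c i)).2 (C.lin_le J q hy hJ)
  obtain ⟨q', hq'⟩ := C.range_of_not_van hL (C.mem_of_eq (C.p_pt J hi)) (mt (C.van_pt J hi i₀).1 hi₀)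
  refine Specializes.trans ?_ h1
  rw [← hq']
  refine (specializes_iff (C.c i₀)).2 (C.lin_le J q' (hq'.symm ▸ C.p_pt J hi) fun j hj => ?_)
  rw [hq']
  exact (C.van_pt J hi j).2 hj

theorem Chart.pt_congr (hL : PicF.IsInvertible L) (J : Finset (Fin (m + 1))) {i i' : Fin (m + 1)} (hi : i ∉ J)
    (hi' : i' ∉ J) : C.pt J hi = C.pt J hi' :=
  ((C.pt_specializes hL J hi (C.p_pt J hi') fun j hj => (C.van_pt J hi' j).2 hj).antisymm
    (C.pt_specializes hL J hi' (C.p_pt J hi) fun j hj => (C.van_pt J hi j).2 hj)).eq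

theorem Chart.val_C (i : Fin (m + 1)) (q : PrimeSpectrum (Dh Γ(X, C.U) i)) (r : Γ(X, C.U)) :
    val (C.c i) q (MvPolynomial.C r) =
      (p.stalkMap (C.c i q)).hom (X.presheaf.germ C.U (p (C.c i q)) (C.c_mem i q) r) := by
  apply (ConcreteCategory.bijective_of_isIso ((C.c i).stalkMap q)).1
  refine (stalkMap_val (C.c i) q _).trans ?_
  refine Eq.trans ?_ (congrArg ((C.c i).stalkMap q).hom (Scheme.Hom.germ_stalkMap_apply p C.U (C.c i q) (C.c_mem i q) r)).symm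
  refine Eq.trans ?_ (Scheme.Hom.germ_stalkMap_apply (C.c i) (p ⁻¹ᵁ C.U) q (C.c_mem i q) _).symm
  have hle : (⊤ : (Spec (CommRingCat.of (Dh Γ(X, C.U) i))).Opens) ≤ C.c i ⁻¹ᵁ (p ⁻¹ᵁ C.U) := fun x _ => C.c_mem i x
  have key : ∀ (k : Spec (CommRingCat.of (Dh Γ(X, C.U) i)) ⟶ X)
      (_ : Spec.map (CommRingCat.ofHom MvPolynomial.C) ≫ C.hU.fromSpec = k) (h : ⊤ ≤ k ⁻¹ᵁ C.U),
      (k.appLE C.U ⊤ h).hom r = (Scheme.ΓSpecIso _).inv (MvPolynomial.C r) := by
    rintro k rfl h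
    rw [← Scheme.Hom.appLE_comp_appLE (Spec.map (CommRingCat.ofHom MvPolynomial.C)) C.hU.fromSpec C.U ⊤ ⊤
      (fun x _ => C.hU.range_fromSpec.le ⟨x, rfl⟩) (fun _ _ => trivial)]
    show ((C.hU.fromSpec.app C.U ≫ _) ≫ (Spec.map _).appLE ⊤ ⊤ _).hom r = _
    rw [C.hU.fromSpec_app_self]
    have h2 := congrArg (fun f => f.hom r)
      (Scheme.ΓSpecIso_inv_naturality (CommRingCat.ofHom (MvPolynomial.C (R := Γ(X, C.U)) (σ := {j // j ≠ i}))))
    refine Eq.trans ?_ h2.symm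
    simp only [Scheme.Hom.appTop, Scheme.Hom.appLE, Category.assoc, CommRingCat.comp_apply]
    simp
    refine congrArg _ ?_
    refine Eq.trans (CommRingCat.comp_apply _ _ _).symm ?_
    erw [← Functor.map_comp]
    refine Eq.trans (congrArg (fun g => (ConcreteCategory.hom ((Spec Γ(X, C.U)).presheaf.map g)) _)
      (Subsingleton.elim _ (𝟙 _))) ?_
    erw [CategoryTheory.Functor.map_id]
    rfl
  refine Eq.trans (congrArg ((Spec (CommRingCat.of (Dh Γ(X, C.U) i))).presheaf.germ ⊤ q trivial)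
    (key _ (C.comp i).symm hle).symm) ?_
  show (Spec (CommRingCat.of (Dh Γ(X, C.U) i))).presheaf.germ ⊤ q trivial
    ((Spec (CommRingCat.of (Dh Γ(X, C.U) i))).presheaf.map (homOfLE hle).op
      (((C.c i ≫ p).app C.U).hom r)) = _
  rw [TopCat.Presheaf.germ_res_apply]
  rfl

end GrothLib.PBDeg
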