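import Groth.Agent.Lib.PBDeg17.K0Cyc
import Groth.Agent.Lib.K0Sub.Coh
import Groth.Agent.Lib.K0Sub.LocFin
import Mathlib.Algebra.Category.ModuleCat.Products
import Mathlib.LinearAlgebra.DirectSum.Finsupp

/-!
# The coherent module attached to a cycle
-/

set_option autoImplicit false
set_option linter.style.haveILetI false
set_option linter.unusedVariables false
set_option linter.unusedSectionVars false

universe u

open CategoryTheory CategoryTheory.Limits AlgebraicGeometry DirectSum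

noncomputable section

namespace GrothLib.PBDeg.K0Cyc

open GrothLib

theorem length_directSum_of_finset {A : Type u} [CommRing A] {J : Type u} (M : J → Type u)
    [∀ j, AddCommGroup (M j)] [∀ j, Module A (M j)] (s : Finset J) (h : ∀ j ∉ s, Subsingleton (M j)) :
    Module.length A (⨁ j, M j) = ∑ j ∈ s, Module.length A (M j) := by
  classical
  let φ : (⨁ j, M j) →ₗ[A] ((j : s) → M j.1) :=
    LinearMap.pi fun j => DirectSum.component A J M j.1
  have hφ : Function.Bijective φ := by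
    refine ⟨fun v w e => DirectSum.ext_component A fun j => ?_, fun v => ?_⟩
    · by_cases hj : j ∈ s
      · exact congrFun e ⟨j, hj⟩
      · haveI := h j hj
        exact Subsingleton.elim _ _
    · refine ⟨∑ j : s, DirectSum.lof A J M j.1 (v j), funext fun i => ?_⟩
      show DirectSum.component A J M i.1 _ = v i
      rw [map_sum, Finset.sum_eq_single i (fun j _ hji => ?_) (fun hi => absurd (Finset.mem_univ _) hi)]
      · exact DirectSum.component.lof_self A i.1 (v i)
      · rw [DirectSum.component.of, dif_neg fun e => hji (Subtype.ext e)]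
  rw [(LinearEquiv.ofBijective φ hφ).length_eq, Module.length_pi_of_fintype, Finset.sum_coe_sort s
    (fun j => Module.length A (M j))]

variable {X : Scheme.{u}}

theorem length_stalk_sigma {J : Type u} (F : J → X.Modules) (x : X) (s : Finset J)
    (h : ∀ j ∉ s, x ∉ CohB1.support (F j)) :
    Module.length (X.presheaf.stalk x) ((OX.stalk x).obj (∐ F)) =
      ∑ j ∈ s, Module.length (X.presheaf.stalk x) ((OX.stalk x).obj (F j)) := by
  classical
  haveI : PreservesColimitsOfSize.{u, u} (OX.stalk x) :=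
    (OX.stalkSkyAdj x).leftAdjoint_preservesColimits
  let e : (OX.stalk x).obj (∐ F) ≅ ModuleCat.of (X.presheaf.stalk x) (⨁ j, (OX.stalk x).obj (F j)) :=
    (PreservesCoproduct.iso (OX.stalk x) F) ≪≫ ModuleCat.coprodIsoDirectSum _
  rw [e.toLinearEquiv.length_eq]
  exact length_directSum_of_finset _ s fun j hj => QCoh.stalk_subsingleton_of_notMem (h j hj)

variable [IsLocallyNoetherian X] {δ : X → ℤ}

/-- The index type of the summands. -/
abbrev PosIdx (α : X → ℤ) : Type u := Σ ζ : {ζ : X // 0 < α ζ}, Fin (α ζ.1).toNat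

theorem lf_pos {α : X → ℤ} (hα : C1.LF α) :
    K0Sub.LF fun i : PosIdx α => Cyc.closureStructureSheaf i.1.1 := by
  refine ⟨fun i => (K0Sub.closureSheaf_data i.1.1).1, fun p => ?_⟩
  obtain ⟨U, hp, hfin⟩ := hα p
  have hfs : Set.Finite {ζ : {ζ : X // 0 < α ζ} | ζ.1 ∈ U} :=
    (hfin.preimage Subtype.val_injective.injOn).subset fun ζ hζ => ⟨hζ, ne_of_gt ζ.2⟩
  haveI := hfs.to_subtype
  refine ⟨U, U.2.mem_nhds hp, (Set.finite_range
    fun q : (Σ ζ : {ζ : {ζ : X // 0 < α ζ} | ζ.1 ∈ U}, Fin (α ζ.1.1).toNat) => (⟨q.1.1, q.2⟩ : PosIdx α)).subset ?_⟩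
  rintro ⟨ζ, i⟩ ⟨y, hy, hyU⟩
  exact ⟨⟨⟨ζ, (specializes_iff_mem_closure.2 ((K0Sub.closureSheaf_data ζ.1).2.1 hy)).mem_open U.2 hyU⟩, i⟩, rfl⟩

theorem cohLe_closureSheaf (hδ : Cyc.IsDimFun X δ) (ζ : X) :
    Cyc.CohLe δ (δ ζ) (Cyc.closureStructureSheaf ζ) :=
  ⟨(K0Sub.closureSheaf_data ζ).1, fun x hx => CycBasic.delta_le hδ (specializes_iff_mem_closure.2
    ((K0Sub.closureSheaf_data ζ).2.1 (CycBasic.nontrivial_iff_mem_support.1 hx)))⟩

theorem cohLe_pos (hδ : Cyc.IsDimFun X δ) {k : ℤ} {α : X → ℤ} (hα : C1.LF α)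
    (hk : ∀ x, α x ≠ 0 → δ x ≤ k) : Cyc.CohLe δ k (Cyc.cycleSheafPos α) := by
  refine ⟨(lf_pos hα).isCoh_sigma, fun x hx => ?_⟩
  obtain ⟨i, hi⟩ := Set.mem_iUnion.1 (K0Sub.support_sigma_subset _ (CycBasic.nontrivial_iff_mem_support.1 hx))
  exact (CycBasic.delta_le hδ (specializes_iff_mem_closure.2 ((K0Sub.closureSheaf_data i.1.1).2.1 hi))).trans
    (hk _ (ne_of_gt i.1.2))

theorem sheafFun_pos (hδ : Cyc.IsDimFun X δ) {k : ℤ} {α : X → ℤ} (hα : C1.LF α)
    (hk : ∀ x, α x ≠ 0 → δ x = k) :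
    Cyc.sheafFun δ k (Cyc.cycleSheafPos α) = fun x => max (α x) 0 := by
  classical
  funext x
  by_cases hx : δ x = k
  swap
  · rw [Cyc.sheafFun, if_neg hx, max_eq_right (le_of_eq (by_contra fun h => hx (hk x h)))]
  have hmem : ∀ i : PosIdx α, x ∈ CohB1.support (Cyc.closureStructureSheaf i.1.1) → i.1.1 = x := by
    intro i hi
    have hs := specializes_iff_mem_closure.2 ((K0Sub.closureSheaf_data i.1.1).2.1 hi)
    by_contra hne
    have := (hδ _ _ hs hne).1
    have := hk _ (ne_of_gt i.1.2)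
    omega
  rw [Cyc.sheafFun, if_pos hx]
  rcases lt_or_ge 0 (α x) with hp | hp
  · let s : Finset (PosIdx α) :=
      Finset.univ.map ⟨fun j : Fin (α x).toNat => (⟨⟨x, hp⟩, j⟩ : PosIdx α), fun a b e => by simpa using e⟩
    have hs : ∀ i ∉ s, x ∉ CohB1.support (Cyc.closureStructureSheaf i.1.1) := fun i hi hxi => by
      obtain ⟨⟨z, hz⟩, j⟩ := i
      obtain rfl : z = x := hmem _ hxi
      exact hi (Finset.mem_map.2 ⟨j, Finset.mem_univ _, rfl⟩)
    have h1 : Module.length (X.presheaf.stalk x) ((Cyc.cycleSheafPos α).presheaf.stalk x) =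
        ((α x).toNat : ℕ∞) := by
      refine (length_stalk_sigma _ x s hs).trans ?_
      rw [Finset.sum_map]
      refine (Finset.sum_congr rfl fun j _ => (show Module.length (X.presheaf.stalk x)
          ((OX.stalk x).obj (Cyc.closureStructureSheaf x)) = 1 from
        ((K0Sub.closureSheaf_data x).2.2.some.length_eq).trans
          (Lat.length_residue IsLocalRing.residue_surjective))).trans ?_
      simp
    rw [h1, max_eq_left hp.le, ENat.toNat_natCast, Int.toNat_of_nonneg hp.le]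
  · have h1 : Module.length (X.presheaf.stalk x) ((Cyc.cycleSheafPos α).presheaf.stalk x) = 0 := by
      refine (length_stalk_sigma _ x ∅ fun i _ hxi => ?_).trans Finset.sum_empty
      have := hmem i hxi
      have := i.1.2
      rw [‹i.1.1 = x›] at this
      omega
    rw [h1, max_eq_right hp]
    rfl

theorem lf_neg {α : X → ℤ} (hα : C1.LF α) : C1.LF (-α) :=
  hα.mono fun y hy h => hy (by rw [Pi.neg_apply, h, neg_zero])

theorem sheafFun_pos_sub_neg (hδ : Cyc.IsDimFun X δ) {k : ℤ} {α : X → ℤ} (hα : C1.LF α)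
    (hk : ∀ x, α x ≠ 0 → δ x = k) :
    Cyc.sheafFun δ k (Cyc.cycleSheafPos α) - Cyc.sheafFun δ k (Cyc.cycleSheafNeg α) = α := by
  rw [Cyc.cycleSheafNeg, sheafFun_pos hδ hα hk, sheafFun_pos hδ (lf_neg hα) fun x hx => hk x fun h =>
    hx (by rw [Pi.neg_apply, h, neg_zero])]
  funext x
  simp only [Pi.sub_apply, Pi.neg_apply]
  omega

theorem sheafFun_eq_zero {k b : ℤ} (hb : b < k) {F : X.Modules} (hF : Cyc.CohLe δ b F) :
    Cyc.sheafFun δ k F = 0 := by
  funext x
  rw [Cyc.sheafFun, Pi.zero_apply]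
  split_ifs with hx
  · haveI : Subsingleton (F.presheaf.stalk x) := not_nontrivial_iff_subsingleton.1 fun h => by
      have := hF.2 x h; omega
    rw [Module.length_eq_zero]
    rfl
  · rfl

/-- The class in the quotient detects rational equivalence. -/
theorem rz_of_toQuot_eq (hX : Cyc.IsSetup X δ) {k : ℤ} {F G : X.Modules} (hF : Cyc.CohLe δ k F)
    (hG : Cyc.CohLe δ k G)
    (h : Cyc.toK0CohQuot δ (k + 1) (k - 1) F = Cyc.toK0CohQuot δ (k + 1) (k - 1) G) :
    C1.RZ δ k (Cyc.sheafFun δ k F - Cyc.sheafFun δ k G) := by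
  obtain ⟨Φ, hΦ⟩ := KPhi.exists_hom hX k
  rw [Cyc.toK0CohQuot, Cyc.toK0CohQuot, QuotientAddGroup.eq, neg_add_eq_sub] at h
  have hle : AddSubgroup.closure {c : KZero.K0sub (Cyc.CohLe δ (k + 1)) |
      ∃ E : X.Modules, Cyc.CohLe δ (k - 1) E ∧ c = KZero.clSub (Cyc.CohLe δ (k + 1)) E} ≤ Φ.ker := by
    rw [AddSubgroup.closure_le]
    rintro _ ⟨E, hE, rfl⟩
    rw [SetLike.mem_coe, AddMonoidHom.mem_ker, hΦ E (cohLe_mono (by omega) hE),
      sheafFun_eq_zero (by omega) hE, QuotientAddGroup.mk_zero]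
  have e := hle h
  rw [AddMonoidHom.mem_ker, map_sub, hΦ G hG, hΦ F hF, sub_eq_zero, QuotientAddGroup.eq, neg_add_eq_sub] at e
  exact e

end GrothLib.PBDeg.K0Cyc

end
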