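import Groth.Agent.Lib.PBDeg17.LatStalk
import Groth.Agent.Lib.QCoh.ClosedImmersion
import Groth.Agent.Lib.CycPush.Linear
import Groth.Agent.Lib.CycPush.Proper
import Mathlib.RingTheory.LocalRing.Length

/-!
# Direct images at the level of the dimension of the support
-/

set_option autoImplicit false
set_option linter.style.haveILetI false
set_option linter.unusedVariables false
set_option backward.isDefEq.respectTransparency false

universe u

open CategoryTheory CategoryTheory.Limits AlgebraicGeometry TopologicalSpace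

noncomputable section

namespace GrothLib.PBDeg.PushLevel

open GrothLib GrothLib.PBDeg.KPhi

variable {X Y : Scheme.{u}} (f : X ⟶ Y) (F : X.Modules)

/-- The map from the stalk of the direct image to a stalk, with the change of length. -/
theorem exists_linear [LocallyOfFiniteType f] {δX : X → ℤ} {δY : Y → ℤ} (hδ : Cyc.DeltaCompat f δX δY)
    {x : X} {y : Y} (hx : f x = y) (he : δX x = δY y) :
    ∃ (_ : Module (Y.presheaf.stalk y) (F.presheaf.stalk x))
      (L : ((Scheme.Modules.pushforward f).obj F).presheaf.stalk y →ₗ[Y.presheaf.stalk y] F.presheaf.stalk x),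
      (∀ (V : Y.Opens) (hy : y ∈ V) (s : Γ(F, f ⁻¹ᵁ V)),
        L (OX.germ ((Scheme.Modules.pushforward f).obj F).val V hy s) =
          F.presheaf.germ (f ⁻¹ᵁ V) x (show f x ∈ V by rw [hx]; exact hy) s) ∧
      Module.length (Y.presheaf.stalk y) (F.presheaf.stalk x) =
        Module.length (X.presheaf.stalk x) (F.presheaf.stalk x) * (f.residueDegree x : ℕ∞) := by
  subst hx
  let A := Y.presheaf.stalk (f x)
  let B := X.presheaf.stalk x
  letI : Algebra A B := (f.stalkMap x).hom.toAlgebra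
  letI : Module A (F.presheaf.stalk x) := Module.compHom _ (f.stalkMap x).hom
  haveI : IsScalarTower A B (F.presheaf.stalk x) := IsScalarTower.of_algebraMap_smul fun a m => rfl
  haveI : IsLocalHom (algebraMap A B) := ⟨fun a ha => IsLocalHom.map_nonunit (f := (f.stalkMap x).hom) a ha⟩
  refine ⟨inferInstance,
    { toFun := fun e => (QCoh.pushStalkHom f x F).hom e
      map_add' := fun a b => map_add _ a b
      map_smul' := fun a b => (QCoh.pushStalkHom f x F).hom.map_smul a b },
    fun V hy s => QCoh.pushStalkHom_germ f x F V hy s, ?_⟩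
  rw [IsLocalRing.length_restrictScalars A B (F.presheaf.stalk x)]
  congr 1
  have heq : algebraMap (IsLocalRing.ResidueField A) (IsLocalRing.ResidueField B) = (f.residueFieldMap x).hom := by
    refine RingHom.ext fun c => ?_
    obtain ⟨a, rfl⟩ := IsLocalRing.residue_surjective c
    exact (congrArg (fun φ => φ.hom a) (Scheme.residue_residueFieldMap f x)).symm
  have halg : (inferInstance : Algebra (IsLocalRing.ResidueField A) (IsLocalRing.ResidueField B)) =
      (f.residueFieldMap x).hom.toAlgebra := Algebra.algebra_ext _ _ fun c => RingHom.congr_fun heq c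
  haveI : Module.Finite (IsLocalRing.ResidueField A) (IsLocalRing.ResidueField B) := by
    have h : (f.residueFieldMap x).hom.Finite := CycPush.finite_residueFieldMap_of_delta_eq f hδ (x := x) he
    exact RingHom.finite_algebraMap.mp (heq.symm ▸ h)
  rw [Module.length_eq_finrank]
  congr 1
  show @Module.finrank (IsLocalRing.ResidueField A) (IsLocalRing.ResidueField B) _ _ _ =
    @Module.finrank (IsLocalRing.ResidueField A) (IsLocalRing.ResidueField B) _ _
      (f.residueFieldMap x).hom.toAlgebra.toModule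
  rw [← halg]

variable {F}

/-- Near a maximal point of a closed set, the set is the closure of the point. -/
theorem exists_nhd_maximal [IsLocallyNoetherian X] {T : Set X} (hT : IsClosed T) {x : X}
    (hmax : ∀ z ∈ T, z ⤳ x → z = x) : ∃ U : X.Opens, x ∈ U ∧ (U : Set X) ∩ T ⊆ closure {x} := by
  let J := {Z : irreducibleComponents T // x ∉ ((↑) '' (Z : Set T) : Set X)}
  have hlf : LocallyFinite fun Z : J => ((↑) '' (Z.1 : Set T) : Set X) :=
    (CycBasic.locallyFinite_components hT).comp_injective Subtype.val_injective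
  have hcl : IsClosed (⋃ Z : J, ((↑) '' (Z.1 : Set T) : Set X)) := hlf.isClosed_iUnion fun Z =>
    hT.isClosedEmbedding_subtypeVal.isClosedMap _ (isClosed_of_mem_irreducibleComponents _ Z.1.2)
  refine ⟨⟨_, hcl.isOpen_compl⟩, fun h => ?_, ?_⟩
  · obtain ⟨Z, hZ⟩ := Set.mem_iUnion.1 h
    exact Z.2 hZ
  rintro y ⟨hy, hyT⟩
  haveI : QuasiSober T := hT.isClosedEmbedding_subtypeVal.quasiSober
  let Z : irreducibleComponents T :=
    ⟨irreducibleComponent ⟨y, hyT⟩, irreducibleComponent_mem_irreducibleComponents _⟩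
  have hyZ : y ∈ ((↑) '' (Z : Set T) : Set X) := ⟨⟨y, hyT⟩, mem_irreducibleComponent, rfl⟩
  have hxZ : x ∈ ((↑) '' (Z : Set T) : Set X) := by
    by_contra h
    exact hy (Set.mem_iUnion.2 ⟨⟨Z, h⟩, hyZ⟩)
  obtain ⟨t, ht, htx⟩ := hxZ
  have hg := Z.2.1.isGenericPoint_genericPoint (isClosed_of_mem_irreducibleComponents _ Z.2)
  have h1 : ((Z.2.1.genericPoint : T) : X) ⤳ x := htx ▸ (hg.specializes ht).map continuous_subtype_val
  have h2 := hmax _ Z.2.1.genericPoint.2 h1
  rw [← specializes_iff_mem_closure, ← h2]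
  exact (hg.specializes mem_irreducibleComponent).map continuous_subtype_val

/-- The stalk of the direct image at a point whose fibre meets the support in maximal points. -/
theorem bijective_stalks [IsProper f] [IsLocallyNoetherian X] (hF : Coh.IsCoh F) (y : Y) (S : Finset X)
    (hS : ∀ z, z ∈ CohB1.support F → f z = y → z ∈ S) (hS' : ∀ z ∈ S, f z = y ∧ z ∈ CohB1.support F)
    (hmax : ∀ x ∈ S, ∀ z ∈ CohB1.support F, z ⤳ x → z = x)
    (L : ∀ x : S, ((Scheme.Modules.pushforward f).obj F).presheaf.stalk y →+ F.presheaf.stalk (x : X))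
    (hL : ∀ (x : S) (V : Y.Opens) (hy : y ∈ V) (s : Γ(F, f ⁻¹ᵁ V)),
        L x (OX.germ ((Scheme.Modules.pushforward f).obj F).val V hy s) =
          F.presheaf.germ (f ⁻¹ᵁ V) (x : X) (show f x.1 ∈ V by rw [(hS' x.1 x.2).1]; exact hy) s) :
    Function.Bijective fun e x => L x e := by
  classical
  have hT : IsClosed (CohB1.support F) := QCoh.isClosed_support_of_isCoh hF
  constructor
  · have h0 : ∀ e, (∀ x, L x e = 0) → e = 0 := by
      intro e he
      obtain ⟨V, hV, s, rfl⟩ := OX.germ_exists ((Scheme.Modules.pushforward f).obj F).val e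
      let W : X.Opens := sSup {W : X.Opens | ∃ i : W ≤ f ⁻¹ᵁ V, F.presheaf.map (homOfLE i).op s = 0}
      have hW : ∀ z, f z = y → z ∈ W := by
        intro z hz
        have hzV : z ∈ f ⁻¹ᵁ V := show f z ∈ V by rw [hz]; exact hV
        have hg : F.presheaf.germ (f ⁻¹ᵁ V) z hzV s = 0 := by
          by_cases hs : z ∈ CohB1.support F
          · exact (hL ⟨z, hS z hs hz⟩ V hV s).symm.trans (he _)
          · exact @Subsingleton.elim _ (QCoh.stalk_subsingleton_of_notMem hs) _ _
        obtain ⟨W', hzW, i, i', heq⟩ := TopCat.Presheaf.germ_eq F.presheaf z hzV hzV s 0 (hg.trans (map_zero _).symm)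
        exact Opens.mem_sSup.2 ⟨W', ⟨i.le, heq.trans (map_zero _)⟩, hzW⟩
      let O : Y.Opens := V ⊓ ⟨(f.base '' (W : Set X)ᶜ)ᶜ, (f.isClosedMap _ W.2.isClosed_compl).isOpen_compl⟩
      have hyO : y ∈ O := ⟨hV, fun ⟨z, hz, hzy⟩ => hz (hW z hzy)⟩
      refine (OX.germ_map _ (homOfLE (inf_le_left : O ≤ V)) hyO s).symm.trans ?_
      refine Eq.trans (congrArg (OX.germ _ _ hyO) ?_) (map_zero _)
      refine QCoh.section_eq_zero_of_germ F _ fun z hz => ?_
      have hzW : z ∈ W := by_contra fun h => hz.2 ⟨z, h, rfl⟩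
      obtain ⟨W', ⟨i, hW0⟩, hzW'⟩ := Opens.mem_sSup.1 hzW
      have hle : f ⁻¹ᵁ O ≤ f ⁻¹ᵁ V := fun w hw => hw.1
      show F.presheaf.germ (f ⁻¹ᵁ O) z hz (F.presheaf.map (homOfLE hle).op s) = 0
      rw [TopCat.Presheaf.germ_res_apply, ← TopCat.Presheaf.germ_res_apply F.presheaf (homOfLE i) z hzW' s, hW0,
        map_zero]
    intro a b hab
    exact sub_eq_zero.1 (h0 _ fun x => by rw [map_sub, sub_eq_zero]; exact congrFun hab x)
  · intro v
    choose U₀ hU₀ t₀ ht₀ using fun x : S => TopCat.Presheaf.exists_germ_eq F.presheaf (v x)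
    choose N hN hNs using fun x : S => exists_nhd_maximal hT (hmax x.1 x.2)
    let U : S → X.Opens := fun x => U₀ x ⊓ N x
    let C : Set X := (CohB1.support F \ ⋃ x : S, (U x : Set X)) ∪
      ⋃ p : {p : S × S // p.1 ≠ p.2}, (CohB1.support F ∩ closure {(p.1.1 : X)} ∩ closure {(p.1.2 : X)})
    have hC : IsClosed C := IsClosed.union (hT.inter (isOpen_iUnion fun x => (U x).2).isClosed_compl)
      (isClosed_iUnion_of_finite fun p => (hT.inter isClosed_closure).inter isClosed_closure)
    let O : Y.Opens := ⟨(f.base '' C)ᶜ, (f.isClosedMap _ hC).isOpen_compl⟩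
    have hyO : y ∈ O := by
      rintro ⟨z, hz, hzy⟩
      rcases hz with ⟨hzs, hzU⟩ | hz
      · exact hzU (Set.mem_iUnion.2 ⟨⟨z, hS z hzs hzy⟩, hU₀ _, hN ⟨z, hS z hzs hzy⟩⟩)
      · obtain ⟨⟨⟨a, b⟩, hab⟩, ⟨hzs, ha⟩, hb⟩ := Set.mem_iUnion.1 hz
        have hzS := hS z hzs hzy
        exact hab (Subtype.ext ((hmax z hzS _ (hS' _ a.2).2 (specializes_iff_mem_closure.2 ha)).trans
          (hmax z hzS _ (hS' _ b.2).2 (specializes_iff_mem_closure.2 hb)).symm))
    let D : Option S → X.Opens := fun o => o.elim (f ⁻¹ᵁ O ⊓ ⟨(CohB1.support F)ᶜ, hT.isOpen_compl⟩)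
      (fun x => f ⁻¹ᵁ O ⊓ U x)
    let sf : ∀ o : Option S, Γ(F, D o) := fun o => Option.rec (motive := fun o => Γ(F, D o)) 0
      (fun x => F.presheaf.map (homOfLE (inf_le_right.trans inf_le_left : f ⁻¹ᵁ O ⊓ U x ≤ U₀ x)).op (t₀ x)) o
    have hsub : ∀ (a b : Option S), a ≠ b → ∀ z ∈ D a ⊓ D b, z ∉ CohB1.support F := by
      rintro (_ | a) (_ | b) hab z hz hzs
      · exact hab rfl
      · exact hz.1.2 hzs
      · exact hz.2.2 hzs
      · refine hz.1.1 ⟨z, Or.inr (Set.mem_iUnion.2 ⟨⟨(a, b), fun e => hab (congrArg some e)⟩, ⟨hzs, ?_⟩, ?_⟩), rfl⟩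
        · exact hNs a ⟨hz.1.2.2, hzs⟩
        · exact hNs b ⟨hz.2.2.2, hzs⟩
    have hcompat : TopCat.Presheaf.IsCompatible F.presheaf D sf := by
      intro a b
      by_cases hab : a = b
      · subst hab; rfl
      rw [← sub_eq_zero]
      refine QCoh.section_eq_zero_of_germ F _ fun z hz => ?_
      exact @Subsingleton.elim _ (QCoh.stalk_subsingleton_of_notMem (hsub a b hab z hz)) _ _
    obtain ⟨t, ht, -⟩ := TopCat.Sheaf.existsUnique_gluing' ⟨F.presheaf, F.isSheaf⟩ D (f ⁻¹ᵁ O)
      (fun o => homOfLE (by cases o <;> exact inf_le_left))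
      (fun z hz => Opens.mem_iSup.2 (by
        by_cases hzs : z ∈ CohB1.support F
        · have hzU : z ∈ ⋃ x : S, (U x : Set X) := by_contra fun h => hz ⟨z, Or.inl ⟨hzs, h⟩, rfl⟩
          obtain ⟨x, hx⟩ := Set.mem_iUnion.1 hzU
          exact ⟨some x, hz, hx⟩
        · exact ⟨none, hz, hzs⟩)) sf hcompat
    refine ⟨OX.germ ((Scheme.Modules.pushforward f).obj F).val O hyO t, funext fun x => ?_⟩
    dsimp only
    rw [hL x O hyO t]
    have hxD : (x : X) ∈ D (some x) := ⟨show f x.1 ∈ O by rw [(hS' x.1 x.2).1]; exact hyO, hU₀ x, hN x⟩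
    have h1 := congrArg (F.presheaf.germ (D (some x)) (x : X) hxD) (ht (some x))
    erw [TopCat.Presheaf.germ_res_apply] at h1
    refine h1.trans ?_
    show F.presheaf.germ _ _ hxD (F.presheaf.map _ (t₀ x)) = v x
    erw [TopCat.Presheaf.germ_res_apply]
    exact ht₀ x

/-- Proper pushforward of the cycle of a coherent module. -/
theorem map_sheafFun {δX : X → ℤ} {δY : Y → ℤ} (hX : Cyc.IsSetup X δX) [IsProper f]
    (hδ : Cyc.DeltaCompat f δX δY) {k : ℤ} (hF : Coh.IsCoh F)
    (hdim : ∀ x : X, Nontrivial (F.presheaf.stalk x) → δX x ≤ k) (α : AlgebraicCycle X ℤ)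
    (hα : ⇑α = Cyc.sheafFun δX k F) :
    ⇑(AlgebraicCycle.map f δX δY α) = Cyc.sheafFun δY k ((Scheme.Modules.pushforward f).obj F) := by
  classical
  haveI := hX.1
  funext y
  rw [CycPush.map_apply]
  simp only [hα, Cyc.sheafFun]
  by_cases hy : δY y = k
  swap
  · rw [if_neg hy]
    refine finsum_mem_eq_zero_of_forall_eq_zero fun x hx => ?_
    by_cases hxk : δX x = k
    · rw [if_pos hxk, AlgebraicCycle.mapCoeff, if_neg (fun e => hy (by
        rw [← show f x = y from hx]; exact (show δY (f x) = δX x from Eq.symm e).trans hxk)), Nat.cast_zero, mul_zero]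
    · rw [if_neg hxk, zero_mul]
  rw [if_pos hy]
  let P : Set X := {x | f x = y ∧ Nontrivial (F.presheaf.stalk x)}
  have hlevel : ∀ x ∈ P, δX x = k := fun x hx => by
    have h1 := CycPush.delta_le_of_compat f hδ x
    rw [hx.1, hy] at h1
    exact le_antisymm (hdim x hx.2) h1
  have hPfin : P.Finite := by
    choose U hU hfin using fun p => locFin_level hX.2.2 hF hdim p
    obtain ⟨V, hV, hyV, -⟩ := exists_isAffineOpen_mem_and_subset (x := y) (U := ⊤) trivial
    obtain ⟨t, ht⟩ := (f.isSpectralMap.2 V.2 hV.isCompact : IsCompact (f ⁻¹' (V : Set Y))).elim_finite_subcover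
      (fun x => (U x : Set X)) (fun x => (U x).2) fun x _ => Set.mem_iUnion.2 ⟨x, hU x⟩
    refine (t.finite_toSet.biUnion fun x _ => hfin x).subset fun z hz => ?_
    obtain ⟨x, hx, hzx⟩ := Set.mem_iUnion₂.1 (ht (show f z ∈ V by rw [hz.1]; exact hyV))
    exact Set.mem_biUnion hx ⟨hzx, hlevel z hz, hz.2⟩
  let S := hPfin.toFinset
  have hmem : ∀ x : S, f x.1 = y ∧ Nontrivial (F.presheaf.stalk x.1) := fun x => hPfin.mem_toFinset.1 x.2
  have hmax : ∀ x ∈ S, ∀ z ∈ CohB1.support F, z ⤳ x → z = x := fun x hx =>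
    maximal_of_le hX.2.2 hdim (hlevel x (hPfin.mem_toFinset.1 hx))
  choose inst L hL hlen using fun x : S =>
    exists_linear f F hδ (hmem x).1 ((hlevel x.1 (hmem x)).trans hy.symm)
  letI := inst
  have hbij := bijective_stalks f hF y S
    (fun z hzs hzy => hPfin.mem_toFinset.2 ⟨hzy, CycBasic.nontrivial_iff_mem_support.2 hzs⟩)
    (fun z hz => ⟨(hPfin.mem_toFinset.1 hz).1, CycBasic.nontrivial_iff_mem_support.1 (hPfin.mem_toFinset.1 hz).2⟩)
    hmax (fun x => (L x).toAddMonoidHom) hL
  have hG : Module.length (Y.presheaf.stalk y) (((Scheme.Modules.pushforward f).obj F).presheaf.stalk y) =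
      ∑ x : S, Module.length (X.presheaf.stalk x.1) (F.presheaf.stalk x.1) * (f.residueDegree x.1 : ℕ∞) := by
    rw [(LinearEquiv.ofBijective (LinearMap.pi L) hbij).length_eq, Module.length_pi_of_fintype]
    exact Finset.sum_congr rfl fun x _ => hlen x
  rw [hG, finsum_mem_eq_sum_of_inter_support_eq (t := S) _ ?_, ← Finset.sum_coe_sort S,
    ENat.toNat_sum (fun x _ => WithTop.mul_ne_top
      (CycBasic.length_lt_top_of_maximal hF (hmax x.1 x.2)).ne (ENat.natCast_ne_top _))]
  · push_cast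
    refine Finset.sum_congr rfl fun x _ => ?_
    rw [if_pos (hlevel x.1 (hmem x)), AlgebraicCycle.mapCoeff,
      if_pos (show δX x.1 = δY (f x.1) by rw [(hmem x).1, hy]; exact hlevel x.1 (hmem x))]
    rw [ENat.toNat_mul, ENat.toNat_natCast]
    push_cast
    rfl
  · ext x
    simp only [Set.mem_inter_iff, Set.mem_preimage, Set.mem_singleton_iff, Function.mem_support, Finset.mem_coe]
    refine ⟨fun h => ⟨hPfin.mem_toFinset.2 ⟨h.1, ?_⟩, h.2⟩, fun h => ⟨(hPfin.mem_toFinset.1 h.1).1, h.2⟩⟩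
    by_contra hn
    haveI : Subsingleton (F.presheaf.stalk x) := not_nontrivial_iff_subsingleton.1 hn
    refine left_ne_zero_of_mul h.2 ?_
    rw [Module.length_eq_zero]
    split_ifs <;> rfl

end GrothLib.PBDeg.PushLevel

end
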