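import Groth.Agent.Lib.PBDeg17.OfBdl
import Groth.Agent.Lib.PBDeg17.Main

/-!
# The setting for bundles given by relative Proj data
-/

set_option autoImplicit false
set_option backward.isDefEq.respectTransparency false
set_option linter.style.haveILetI false

universe u

open CategoryTheory AlgebraicGeometry

namespace GrothLib.PBDeg

variable {X P : Scheme.{u}}

theorem setting_relProj {δ : X → ℤ} (hX : Cyc.IsSetup X δ) {E : X.Modules} (hq : Coh.IsQCoh E) {m : ℕ}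
    (hE : FlatMod.IsFinLocFreeOfRank (m + 1) E) {𝒮 : RelProj.QCGrAlg X} {j : E ⟶ 𝒮.toModule}
    (hS : RelProj.IsGrSymAlg E 𝒮 j) {p : P ⟶ X}
    {chart : ∀ (U : X.Opens) (hU : IsAffineOpen U), (((p ⁻¹ᵁ U : P.Opens) : Scheme.{u}) ≅ Proj (𝒮.deg U hU))}
    (hP : RelProj.IsRelProj 𝒮 p chart) {O1 : P.Modules}
    {lam : ∀ (U : X.Opens) (hU : IsAffineOpen U),
      O1 ⟶ (Scheme.Modules.pushforward (RelProj.emb p chart U hU)).obj (GrTwist.twist (𝒮.deg U hU) 1)}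
    (hO1 : RelProj.IsRelTwist 𝒮 p chart 1 O1 lam) (hinv : PicF.IsInvertible O1) {δP : P → ℤ}
    (hPs : Cyc.IsSetup P δP) (hδ : Cyc.DeltaCompat p δP δ) : Setting p O1 m δ δP := by
  obtain ⟨φ, hφ⟩ := VA.exists_canon hS hP hO1
  exact ⟨hasCharts_of_bdl ⟨E, hq, 𝒮, j, hS, P, p, chart, hP, O1, lam, hO1, φ, hφ⟩ hE, hX.2.2, hPs.2.2, hδ, hinv⟩

end GrothLib.PBDeg
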