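import Groth.Agent.Lib.PBDeg17.ChowCls
import Groth.Agent.Lib.PBDeg17.Split
import Groth.Agent.Lib.PBDeg17.FiltRel
import Groth.Agent.Lib.PBDeg17.CapsPull

/-!
# Chern class caps through Chern roots
-/

set_option autoImplicit false
set_option backward.isDefEq.respectTransparency false
set_option linter.style.haveILetI false

universe u

open CategoryTheory CategoryTheory.Limits AlgebraicGeometry TopologicalSpace Polynomial
open GrothLib.C1 GrothLib.CycFlat

noncomputable section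

namespace GrothLib.PBDeg

section Poly

variable {B : Type*} [CommRing B]

/-- The Chern polynomial of the roots `x 0, …, x (r-1)`. -/
def cp (r : ℕ) (x : ℕ → B) : B[X] := ∏ i ∈ Finset.range r, (1 + C (x i) * X)

theorem cp_congr {r : ℕ} {x y : ℕ → B} (h : ∀ i < r, x i = y i) : cp r x = cp r y :=
  Finset.prod_congr rfl fun i hi => by rw [h i (Finset.mem_range.1 hi)]

theorem cp_add (r₁ r₂ : ℕ) (x : ℕ → B) : cp (r₁ + r₂) x = cp r₁ x * cp r₂ (fun i => x (r₁ + i)) :=
  Finset.prod_range_add _ _ _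

theorem cp_succ (r : ℕ) (x : ℕ → B) : cp (r + 1) x = cp r x * (1 + C (x r) * X) := Finset.prod_range_succ _ _

theorem cp_one (x : ℕ → B) : cp 1 x = 1 + C (x 0) * X := by rw [cp_succ]; simp [cp]

theorem coeff_cp (r : ℕ) (x : ℕ → B) (n : ℕ) :
    (cp r x).coeff n = ∑ I ∈ Finset.powersetCard n (Finset.univ : Finset (Fin r)), ∏ i ∈ I, x i := by
  classical
  have h : cp r x = ∑ I : Finset (Fin r), C (∏ i ∈ I, x i) * X ^ I.card := by
    rw [cp, ← Fin.prod_univ_eq_prod_range (fun i => 1 + C (x i) * X) r, Finset.prod_one_add, Finset.powerset_univ]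
    refine Finset.sum_congr rfl fun I _ => ?_
    rw [Finset.prod_mul_distrib, Finset.prod_const, map_prod]
  rw [h, finsetSum_coeff]
  simp only [coeff_C_mul_X_pow]
  rw [← Finset.sum_filter]
  refine Finset.sum_congr (Finset.ext fun I => ?_) fun _ _ => rfl
  simp [Finset.mem_powersetCard, eq_comm]

end Poly

section Roots

variable {P : Scheme.{u}} [IsLocallyNoetherian P] {δP : P → ℤ} (hP : Cyc.IsDimFun P δP)

open Classical in
/-- The first Chern classes of a sequence of modules. -/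
def root (L : ℕ → P.Modules) (j : ℕ) : C1Ring hP := if h : PicF.IsInvertible (L j) then c1R hP h else 0

theorem root_eq (L : ℕ → P.Modules) {j : ℕ} (h : PicF.IsInvertible (L j)) : root hP L j = c1R hP h := dif_pos h

open Classical in
/-- Chern class caps of a filtered module, as classes. -/
theorem exists_caps_filtered {Q : Scheme.{u}} [IsLocallyNoetherian Q] {π : Q ⟶ P} {O : Q.Modules} {m : ℕ}
    {δQ : Q → ℤ} (S : Setting π O m δP δQ) {V : P.Modules} (q : (Scheme.Modules.pullback π).obj V ⟶ O) [Epi q]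
    (M L : ℕ → P.Modules) (h0 : IsZero (M 0)) (e : M (m + 1) ≅ V)
    (hs : ∀ j < m + 1, InvSeq (M j) (M (j + 1)) (L j))
    {k : ℤ} {α : AlgebraicCycle P ℤ} (hα : α ∈ Cyc.Zk P δP k) :
    ∃ γ : Fin (m + 1 + 1) → AlgebraicCycle P ℤ, Cyc.IsChernCap π δP δQ O (m + 1) k α γ ∧
      ∀ n : Fin (m + 1 + 1), cls' hP (γ n) = act hP ((cp (m + 1) (root hP L)).coeff n) (cls' hP α) := by
  have hs' := fun j : Fin (m + 1) => hs j j.2
  choose hL a b hab hex using hs'
  choose t ht using fun j : Fin (m + 1) => exists_sec (hL j)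
  let g : ℕ → Finset (Fin (m + 1)) → AlgebraicCycle P ℤ := fun n =>
    Nat.rec (motive := fun _ => Finset (Fin (m + 1)) → AlgebraicCycle P ℤ) (fun _ => α)
      (fun n G I => if h : ∃ hn : n < m + 1, (⟨n, hn⟩ : Fin (m + 1)) ∈ I
        then capCyc hP (hL ⟨n, h.1⟩) (ht ⟨n, h.1⟩) (G I) else G I) n
  have gs : ∀ n I, g (n + 1) I = if h : ∃ hn : n < m + 1, (⟨n, hn⟩ : Fin (m + 1)) ∈ I
        then capCyc hP (hL ⟨n, h.1⟩) (ht ⟨n, h.1⟩) (g n I) else g n I := fun _ _ => rfl
  have gcongr : ∀ n I J, (∀ i : Fin (m + 1), (i : ℕ) < n → (i ∈ I ↔ i ∈ J)) → g n I = g n J := by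
    intro n
    induction n with
    | zero => intros; rfl
    | succ n ih =>
      intro I J h
      rw [gs, gs, ih I J fun i hi => h i (hi.trans (Nat.lt_succ_self n))]
      by_cases h' : ∃ hn : n < m + 1, (⟨n, hn⟩ : Fin (m + 1)) ∈ I
      · rw [dif_pos h', dif_pos ⟨h'.1, (h _ (Nat.lt_succ_self n)).1 h'.2⟩]
      · rw [dif_neg h', dif_neg fun hJ => h' ⟨hJ.1, (h _ (Nat.lt_succ_self n)).2 hJ.2⟩]
  have gstab : ∀ n l I, (∀ i : Fin (m + 1), i ∈ I → (i : ℕ) < n) → g (n + l) I = g n I := by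
    intro n l I hI
    induction l with
    | zero => rfl
    | succ l ih =>
      show g (n + l + 1) I = _
      rw [gs, dif_neg fun h => by have := hI _ h.2; simp at this, ih]
  let κ : Finset (Fin (m + 1)) → AlgebraicCycle P ℤ := fun I => g (m + 1) I
  have hκ0 : κ ∅ = α := by
    show g (m + 1) ∅ = α
    have := gstab 0 (m + 1) ∅ fun i hi => absurd hi (Finset.notMem_empty i)
    rwa [Nat.zero_add] at this
  have hκc : ∀ (I : Finset (Fin (m + 1))) (i : Fin (m + 1)), (∀ i' ∈ I, i' < i) →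
      κ (insert i I) = capCyc hP (hL i) (ht i) (κ I) := by
    intro I i hlt
    obtain ⟨l, hl⟩ : ∃ l, m + 1 = (i : ℕ) + 1 + l := ⟨m - (i : ℕ), by omega⟩
    show g (m + 1) (insert i I) = capCyc hP (hL i) (ht i) (g (m + 1) I)
    rw [show g (m + 1) (insert i I) = g ((i : ℕ) + 1 + l) (insert i I) from congrArg (g · _) hl,
      show g (m + 1) I = g ((i : ℕ) + 1 + l) I from congrArg (g · _) hl, gstab _ l _ fun i' hi' => by
      rcases Finset.mem_insert.1 hi' with rfl | h
      · exact Nat.lt_succ_self _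
      · have := Fin.lt_def.1 (hlt i' h); omega]
    rw [show (i : ℕ) + 1 + l = (i : ℕ) + (1 + l) by ring, gstab (i : ℕ) (1 + l) I fun i' h => hlt i' h, gs,
      dif_pos (show ∃ hn : (i : ℕ) < m + 1, (⟨i, hn⟩ : Fin (m + 1)) ∈ insert i I from
        ⟨i.2, Finset.mem_insert_self i I⟩)]
    congr 1
    exact gcongr _ _ _ fun i' hi' => by
      simp only [Finset.mem_insert, or_iff_right_iff_imp]
      rintro rfl
      exact absurd hi' (lt_irrefl _)
  have hcap := S.isChernCap_filtered q (fun j => M j) h0 e (fun j => L j) hL a b hab hex t ht hα κ hκ0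
    fun I i hlt => by rw [hκc I i hlt]; rfl
  refine ⟨_, hcap, fun n => ?_⟩
  have key : ∀ I : Finset (Fin (m + 1)), cls' hP (κ I) = act hP (∏ i ∈ I, root hP L i) (cls' hP α) := by
    intro I
    induction I using Finset.induction_on_max with
    | empty => rw [hκ0, Finset.prod_empty, map_one]; rfl
    | insert i I hlt ih =>
      rw [hκc I i hlt, Finset.prod_insert fun h => lt_irrefl i (hlt i h), act_mul, ← ih, root_eq hP L (hL i)]
      exact (c1E_cls hP (hL i) (ht i) (κ I) rfl).symm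
  rw [map_sum, coeff_cp, map_sum, AddMonoidHom.finsetSum_apply]
  exact Finset.sum_congr rfl fun I _ => key I

end Roots

section Tower

variable {X P : Scheme.{u}} {δ : X → ℤ} {π : P ⟶ X} {d : ℕ}

/-- A tower with its dimension function. -/
structure TowerData (δ : X → ℤ) (π : P ⟶ X) (d : ℕ) (δP : P → ℤ) : Prop where
  tower : GoodTower δ π d
  setupX : Cyc.IsSetup X δ
  setupP : Cyc.IsSetup P δP
  compat : Cyc.DeltaCompat π δP δ

variable {δP : P → ℤ}

theorem TowerData.shift (T : TowerData δ π d δP) (x : P) (hx : MaxFib π x) : δP x = δ (π x) + (d : ℤ) :=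
  haveI := T.tower.lft
  shift_of_hasRelDim π T.tower.relDim T.compat x hx

variable [IsLocallyNoetherian X] [IsLocallyNoetherian P]

/-- Pullback of classes to the tower. -/
def TowerData.pull (T : TowerData δ π d δP) : Cls T.setupX.2.2 →+ Cls T.setupP.2.2 :=
  haveI := T.tower.flat
  pullCls π T.setupP.2.2 T.setupX.2.2 T.shift

theorem TowerData.pull_c1 (T : TowerData δ π d δP) {L : X.Modules} (hL : PicF.IsInvertible L) (z : Cls T.setupX.2.2) :
    T.pull (c1E T.setupX.2.2 hL z) = c1E T.setupP.2.2 (C1.isInvertible_pullback π hL) (T.pull z) :=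
  haveI := T.tower.flat
  pullCls_c1E π T.setupP.2.2 T.setupX.2.2 T.shift hL z

theorem TowerData.ratEquiv_of_pull (T : TowerData δ π d δP) {k : ℤ} {a b : AlgebraicCycle X ℤ}
    (ha : a ∈ Cyc.Zk X δ k) (hb : b ∈ Cyc.Zk X δ k)
    (h : T.pull (cls' T.setupX.2.2 a) = T.pull (cls' T.setupX.2.2 b)) : Cyc.RatEquiv δ k a b := by
  haveI := T.tower.flat
  let β := pullCyc π T.setupP.2.2 T.shift (a - b)
  have hab : (a - b) ∈ Cyc.Zk X δ k := (ChowOps.zk X δ k).sub_mem ha hb
  have hβ : ∀ x, δP x ≠ k + d → β x = 0 := fun x hx => by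
    show Cyc.pullFun π δP δ d ⇑(a - b) x = 0
    rw [pullFun_apply]
    split_ifs with h'
    · rw [hab _ (fun e => hx (by rw [h', e])), zero_mul]
    · rfl
  rw [← sub_eq_zero, ← map_sub, ← map_sub] at h
  have h' := (cls'_eq_zero_iff T.setupP.2.2 β).1
    ((pullCls_cls π T.setupP.2.2 T.setupX.2.2 T.shift (a - b) (β := β) rfl).symm.trans h) (k + d)
  rw [part_eq hβ] at h'
  have hid : Cyc.DeltaCompat (𝟙 X) δ δ := fun x => ⟨0, by
    rw [Nat.cast_zero]; exact resTrdeg_iso (𝟙 X) x, by simp⟩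
  exact T.tower.inj X (𝟙 X) δ T.setupX hid P π (𝟙 P) (IsPullback.of_horiz_isIso ⟨by simp⟩) δP T.setupP T.compat
    k (a - b) hab β rfl (RZ.to_ratEquivZero T.setupP.2.2 h')

omit [IsLocallyNoetherian X] [IsLocallyNoetherian P] in
theorem exists_towerData {δ : X → ℤ} (hX : Cyc.IsSetup X δ) {ι : Type*} [Fintype ι] (rk : ι → ℕ) (E : ι → X.Modules)
    (hE : ∀ i, FlatMod.IsFinLocFreeOfRank (rk i) (E i)) :
    ∃ (P : Scheme.{u}) (_ : IsLocallyNoetherian P) (π : P ⟶ X) (d : ℕ) (δP : P → ℤ),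
      TowerData δ π d δP ∧ ∀ i, Flag (rk i) ((Scheme.Modules.pullback π).obj (E i)) := by
  obtain ⟨P, π, d, h, hF⟩ := exists_tower hX rk E hE Finset.univ
  haveI := hX.1
  haveI := h.lft
  obtain ⟨δP, hδP⟩ := CycP1.exists_deltaCompat π δ
  exact ⟨P, LocallyOfFiniteType.isLocallyNoetherian π, π, d, δP, ⟨h, hX, isSetup_of_lft hX π hδP, hδP⟩,
    fun i => hF i (Finset.mem_univ i)⟩

/-- Chern class caps pulled back to a tower are the elementary symmetric functions of the roots. -/
theorem TowerData.chern_roots (T : TowerData δ π d δP) {r : ℕ} {E : X.Modules}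
    (hE : FlatMod.IsFinLocFreeOfRank r E) {PE : Scheme.{u}} {p : PE ⟶ X} [IsProper p] {O : PE.Modules}
    {q : (Scheme.Modules.pullback p).obj E ⟶ O} (hB : KRR.IsProjBundle p E O q) {δE : PE → ℤ}
    (hEs : Cyc.IsSetup PE δE) (hδE : Cyc.DeltaCompat p δE δ)
    (M L : ℕ → P.Modules) (h0 : IsZero (M 0)) (e : M r ≅ (Scheme.Modules.pullback π).obj E)
    (hs : ∀ j < r, InvSeq (M j) (M (j + 1)) (L j))
    {k : ℤ} {α : AlgebraicCycle X ℤ} (hα : α ∈ Cyc.Zk X δ k)
    {γ : Fin (r + 1) → AlgebraicCycle X ℤ} (hγ : Cyc.IsChernCap p δ δE O r k α γ) (n : Fin (r + 1)) :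
    T.pull (cls' T.setupX.2.2 (γ n)) =
      act T.setupP.2.2 ((cp r (root T.setupP.2.2 L)).coeff n) (T.pull (cls' T.setupX.2.2 α)) := by
  rcases Nat.eq_zero_or_pos r with rfl | hr
  · obtain rfl : n = 0 := Subsingleton.elim (α := Fin 1) _ _
    rw [hγ.1, Fin.val_zero, show (cp 0 (root T.setupP.2.2 L)).coeff 0 = 1 by simp [cp], map_one]
    rfl
  obtain ⟨m, rfl⟩ : ∃ m, r = m + 1 := ⟨r - 1, by omega⟩
  haveI := T.tower.flat
  haveI := T.tower.lft
  haveI := hEs.1
  haveI : Epi q := hB.epi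
  have S := setting_univ T.setupX hE hB hEs hδE
  let Q := pullback p π
  let f' : Q ⟶ PE := pullback.fst p π
  let π' : Q ⟶ P := pullback.snd p π
  have hsq : IsPullback f' π' p π := IsPullback.of_hasPullback p π
  haveI : IsProper π' := MorphismProperty.of_isPullback hsq inferInstance
  haveI : Flat f' := MorphismProperty.of_isPullback hsq.flip inferInstance
  haveI : LocallyOfFiniteType f' := MorphismProperty.of_isPullback hsq.flip inferInstance
  obtain ⟨δQ, hδQ⟩ := CycP1.exists_deltaCompat π' δP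
  have hQ := isSetup_of_lft T.setupP π' hδQ
  haveI := hQ.1
  have S' : Setting π' ((Scheme.Modules.pullback f').obj O) m δP δQ :=
    ⟨S.charts.baseChange S.inv hsq (Iso.refl _), T.setupP.2.2, hQ.2.2, hδQ, C1.isInvertible_pullback f' S.inv⟩
  have hshift : ∀ x, MaxFib f' x → δQ x = δE (f' x) + (d : ℤ) := fun x hx =>
    shift_of_hasRelDim f' (hasRelDim_of_isPullback hsq.flip T.tower.relDim)
      (deltaCompat_of_comp f' p (π' ≫ π) hsq.w hδE (deltaCompat_comp' π' π hδQ T.compat)) x hx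
  let q' : (Scheme.Modules.pullback π').obj ((Scheme.Modules.pullback π).obj E) ⟶ (Scheme.Modules.pullback f').obj O :=
    ((Scheme.Modules.pullbackComp π' π).app E ≪≫ (Scheme.Modules.pullbackCongr hsq.w.symm).app E ≪≫
      ((Scheme.Modules.pullbackComp f' p).app E).symm).hom ≫ (Scheme.Modules.pullback f').map q
  haveI : (Scheme.Modules.pullback f').IsLeftAdjoint := (Scheme.Modules.pullbackPushforwardAdjunction f').isLeftAdjoint
  haveI : Epi ((Scheme.Modules.pullback f').map q) := (Scheme.Modules.pullback f').map_epi q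
  haveI : Epi q' := epi_comp _ _
  let αP := pullCyc π T.setupP.2.2 T.shift α
  have hαP : αP ∈ Cyc.Zk P δP (k + d) := fun x hx => by
    show Cyc.pullFun π δP δ d ⇑α x = 0
    rw [pullFun_apply]
    split_ifs with h
    · rw [hα _ (fun e => hx (by rw [h, e])), zero_mul]
    · rfl
  obtain ⟨η, hη, hηcls⟩ := exists_caps_filtered T.setupP.2.2 S' q' M L h0 e hs hαP
  have h1 := pullFun_chernCap S S' hsq T.shift hshift (αX := αP) rfl hγ hη
    (β := fun j => pullCyc π T.setupP.2.2 T.shift (γ j)) (fun _ => rfl) n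
  have hβm : pullCyc π T.setupP.2.2 T.shift (γ n) ∈ Cyc.Zk P δP (k + d - ((n : ℕ) : ℤ)) := fun x hx => by
    show Cyc.pullFun π δP δ d ⇑(γ n) x = 0
    rw [pullFun_apply]
    split_ifs with h
    · rw [hγ.2.1 n _ (fun e => hx (by rw [h, e]; ring)), zero_mul]
    · rfl
  have h2 := ((cls'_eq_iff T.setupP.2.2 hβm (hη.2.1 n)).2 h1).trans (hηcls n)
  rw [← pullCls_cls π T.setupP.2.2 T.setupX.2.2 T.shift (γ n) (β := pullCyc π T.setupP.2.2 T.shift (γ n)) rfl,
    ← pullCls_cls π T.setupP.2.2 T.setupX.2.2 T.shift α (β := αP) rfl] at h2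
  exact h2

end Tower

end GrothLib.PBDeg
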