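import Groth.Agent.Lib.PBDeg17.SpSheaf
import Groth.Agent.Lib.CycPush.PushFam
import Groth.Agent.Lib.CycPush.Linear
import Groth.Agent.Lib.CycBasic.Push
import Groth.Agent.Lib.CycDiv.Flat
import Groth.Agent.Lib.CycDiv.Stalk

/-!
Specialisation of cycles as restricted principal divisors of a uniformiser.
-/

set_option autoImplicit false
universe u

open CategoryTheory Limits AlgebraicGeometry IsLocalRing GrothLib.CycDiv
open scoped Pointwise

namespace GrothLib.SpSheaf17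

theorem ordAt_pow' {P : Scheme.{u}} [IsLocallyNoetherian P] {δ : P → ℤ} (hδ : Cyc.IsDimFun P δ) {x ξ : P}
    (h : ξ ⤳ x) (hd : δ x + 1 = δ ξ) {g : P.residueField ξ} (hg : g ≠ 0) (n : ℕ) :
    Cyc.ordAt x ξ h (g ^ n) = n * Cyc.ordAt x ξ h g :=
  GrothLib.CycP1.ordAt_pow hδ h hd hg n

theorem divFun_pow {P : Scheme.{u}} [IsLocallyNoetherian P] {δ : P → ℤ} (hδ : Cyc.IsDimFun P δ) {ξ : P}
    {g : P.residueField ξ} (hg : g ≠ 0) (n : ℕ) (x : P) :
    Cyc.divFun δ ξ (g ^ n) x = n * Cyc.divFun δ ξ g x := by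
  unfold Cyc.divFun
  split_ifs with h
  · exact ordAt_pow' hδ h.1 h.2 hg n
  · rw [mul_zero]

theorem divFun_zpow {P : Scheme.{u}} [IsLocallyNoetherian P] {δ : P → ℤ} (hδ : Cyc.IsDimFun P δ) {ξ : P}
    {g : P.residueField ξ} (hg : g ≠ 0) (n : ℤ) (x : P) :
    Cyc.divFun δ ξ (g ^ n) x = n * Cyc.divFun δ ξ g x := by
  cases n with
  | ofNat n => rw [Int.ofNat_eq_natCast, zpow_natCast, divFun_pow hδ hg]
  | negSucc n =>
    rw [zpow_negSucc, GrothLib.CycPush.divFun_inv hδ ξ (pow_ne_zero _ hg), divFun_pow hδ hg,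
      Int.negSucc_eq]
    push_cast
    ring

variable {R : Type u} [CommRing R] [IsDomain R] [IsDiscreteValuationRing R]
variable {X : Scheme.{u}} (a : X ⟶ Spec (CommRingCat.of R))

/-- the uniformiser as a rational function -/
noncomputable def unifRat (t : R) (ζ : X) : X.residueField ζ := (X.residue ζ).hom (unif a t ζ)

theorem unifRat_ne_zero {t : R} (ht : t ≠ 0) {ζ : X} (hζ : a ζ = gp R) : unifRat a t ζ ≠ 0 := by
  intro h
  rw [unifRat] at h
  have h1 : unif a t ζ ∈ maximalIdeal (X.presheaf.stalk ζ) := (residue_eq_zero_iff _).1 h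
  refine unif_not_mem a ht (specializes_rfl (x := ζ)) hζ ?_
  rw [GrothLib.CycCut.primeOf_self]
  exact h1

theorem divFun_unifRat [IsLocallyNoetherian X] {δ : X → ℤ} (hδ : Cyc.IsDimFun X δ) {t : R} (ht : t ≠ 0) {ζ p : X}
    (hζ : a ζ = gp R) (h : ζ ⤳ p) (hd : δ p + 1 = δ ζ) :
    Cyc.divFun δ ζ (unifRat a t ζ) p =
      ((Ring.ord (Cyc.LocQuot p ζ h) (Ideal.Quotient.mk _ (unif a t p))).toNat : ℤ) := by
  rw [Cyc.divFun, dif_pos ⟨h, hd⟩,
    ordAt_eq_sub hδ h hd (a := unif a t p) (b := 1) (unif_not_mem a ht h hζ) ((primeOf h).one_notMem) ?_,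
    map_one, Ring.ord_one]
  · simp
  · rw [map_one, mul_one]
    show (X.residue ζ).hom (unif a t ζ) = (X.residue ζ).hom ((X.presheaf.stalkSpecializes h).hom (unif a t p))
    rw [stalkSpecializes_unif]

variable [LocallyOfFiniteType a] [IsLocallyNoetherian X]

/-- Specialisation is restriction of the divisor of the uniformiser. -/
theorem spFun_eq_divFun (δη : ↥(a.fiber (gp R)) → ℤ) (δs : ↥(a.fiber (sp R)) → ℤ)
    (hδη : Cyc.DeltaCompat (a.fiberToSpecResidueField (gp R)) δη (fun _ => 0))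
    (hδs : Cyc.DeltaCompat (a.fiberToSpecResidueField (sp R)) δs (fun _ => 0))
    {δX : X → ℤ} (hX : Cyc.DeltaCompat a δX (dl R)) {t : R} (ht : maximalIdeal R = Ideal.span {t})
    (r : ℤ) (α : ↥(a.fiber (gp R)) → ℤ) (x : ↥(a.fiber (sp R))) :
    Cyc.spFun a (gp R) (sp R) δη δs r α x =
      ∑ᶠ ζ : {ζ : ↥(a.fiber (gp R)) // δη ζ = r}, α ζ.1 *
        Cyc.divFun δX (a.fiberι (gp R) ζ.1) (unifRat a t (a.fiberι (gp R) ζ.1)) (a.fiberι (sp R) x) := by
  classical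
  have hδ : Cyc.IsDimFun X δX := Groth.Agent.S9684.result a (dl R) (isSetup_base R) δX hX
  have ht0 : t ≠ 0 := fun h => IsDiscreteValuationRing.not_a_field R (ht.trans (Ideal.span_singleton_eq_bot.2 h))
  have hdg : ∀ z, δX (a.fiberι (gp R) z) = 1 + δη z := fun z => by
    rw [delta_fiber a hX hδη z, dl_gp]
  have hds : ∀ z, δX (a.fiberι (sp R) z) = δs z := fun z => by
    rw [delta_fiber a hX hδs z, dl_sp, zero_add]
  simp only [Cyc.spFun]
  by_cases hk : δs x = r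
  swap
  · rw [if_neg hk]
    refine (finsum_eq_zero_of_forall_eq_zero fun ζ => ?_).symm
    rw [Cyc.divFun, dif_neg, mul_zero]
    rintro ⟨-, h⟩
    rw [hds, hdg, ζ.2] at h
    omega
  rw [if_pos hk]
  let f : {ζ : ↥(a.fiber (gp R)) // δη ζ = r ∧ a.fiberι (gp R) ζ ⤳ a.fiberι (sp R) x} →
      {ζ : ↥(a.fiber (gp R)) // δη ζ = r} := fun ζ => ⟨ζ.1, ζ.2.1⟩
  have hf : Function.Injective f := fun u v e => Subtype.ext (congrArg Subtype.val e :)
  let G : {ζ : ↥(a.fiber (gp R)) // δη ζ = r} → ℤ := fun ζ => α ζ.1 *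
    Cyc.divFun δX (a.fiberι (gp R) ζ.1) (unifRat a t (a.fiberι (gp R) ζ.1)) (a.fiberι (sp R) x)
  have hGsupp : Function.support G ⊆ Set.range f := by
    intro ζ hζ
    by_contra hr
    refine hζ ?_
    show α ζ.1 * _ = 0
    rw [Cyc.divFun, dif_neg (fun h => hr ⟨⟨ζ.1, ζ.2, h.1⟩, rfl⟩), mul_zero]
  show _ = ∑ᶠ ζ, G ζ
  rw [← finsum_mem_univ G]
  rw [show (∑ᶠ ζ ∈ (Set.univ : Set {ζ : ↥(a.fiber (gp R)) // δη ζ = r}), G ζ) = ∑ᶠ ζ ∈ Set.range f, G ζ from
    finsum_mem_inter_support_eq' _ _ _ fun ζ hζ => iff_of_true trivial (hGsupp hζ)]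
  rw [finsum_mem_range hf]
  refine finsum_congr fun ζ => ?_
  show _ = α ζ.1 * _
  rw [divFun_unifRat a hδ ht0 (apply_fiberι' a _ _) ζ.2.2 (by
    show δX (a.fiberι (sp R) x) + 1 = δX (a.fiberι (gp R) ζ.1)
    rw [hds, hdg, ζ.2.1, hk, add_comm])]
  congr 3
  rw [Ring.ord]
  have hmax : maximalIdeal ((Spec (CommRingCat.of R)).presheaf.stalk (a (a.fiberι (sp R) x))) =
      Ideal.span {tk t (a (a.fiberι (sp R) x))} := by
    rw [apply_fiberι']; exact maximalIdeal_stalk_sp ht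
  have e : Ideal.span {Ideal.Quotient.mk (RingHom.ker (Cyc.specMap (a.fiberι (sp R) x) (a.fiberι (gp R) ζ.1) ζ.2.2))
        (unif a t (a.fiberι (sp R) x))} =
      (maximalIdeal ((Spec (CommRingCat.of R)).presheaf.stalk (a (a.fiberι (sp R) x)))).map
        ((Ideal.Quotient.mk (RingHom.ker (Cyc.specMap (a.fiberι (sp R) x) (a.fiberι (gp R) ζ.1) ζ.2.2))).comp
          (a.stalkMap (a.fiberι (sp R) x)).hom) := by
    rw [hmax, Ideal.map_span, Set.image_singleton]; rfl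
  rw [e]
  exact Module.length_eq_of_surjective Ideal.Quotient.mk_surjective

end GrothLib.SpSheaf17
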