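import Groth.Agent.Lib.PBDeg17.SpPush
import Groth.Agent.Lib.CycFlat.Sheaf

/-!
Specialisation commutes with flat pullback.
-/

set_option autoImplicit false
universe u

open CategoryTheory Limits AlgebraicGeometry IsLocalRing GrothLib.CycDiv

namespace GrothLib.SpSheaf17

theorem finite_maxFib_over {X Y : Scheme.{u}} [IsLocallyNoetherian X] (f : X ⟶ Y) {x : X} (η : Y) :
    {ξ : X | GrothLib.CycFlat.MaxFib f ξ ∧ f ξ = η ∧ ξ ⤳ x}.Finite := by
  by_cases hη : η ⤳ f x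
  swap
  · refine Set.Finite.subset Set.finite_empty fun ξ hξ => hη ?_
    rw [← hξ.2.1]
    exact hξ.2.2.map f.continuous
  let S := {ξ : X | GrothLib.CycFlat.MaxFib f ξ ∧ f ξ = η ∧ ξ ⤳ x}
  let g : S → PrimeSpectrum (X.presheaf.stalk x) := fun ξ => ⟨primeOf ξ.2.2.2, inferInstance⟩
  have hinj : Function.Injective g := fun u v e =>
    Subtype.ext (GrothLib.CycCut.point_eq_of_primeOf_eq _ _ (congrArg PrimeSpectrum.asIdeal e))
  have hrange : Set.range g ⊆ {q | q.asIdeal ∈ ((primeOf hη).map (f.stalkMap x).hom).minimalPrimes} := by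
    rintro _ ⟨⟨ξ, hm, he, hs⟩, rfl⟩
    refine ⟨⟨inferInstance, ?_⟩, fun P hP hle => ?_⟩
    · show (primeOf hη).map (f.stalkMap x).hom ≤ primeOf hs
      rw [Ideal.map_le_iff_le_comap, comap_primeOf, primeOf_congr (hs.map f.continuous) hη he]
    · obtain ⟨ξ', hs', hξ'⟩ := GrothLib.CycCut.exists_point_of_prime (⟨P, hP.1⟩ : PrimeSpectrum (X.presheaf.stalk x))
      have hP' : (primeOf hη).map (f.stalkMap x).hom ≤ primeOf hs' := hP.2.trans_eq hξ'.symm
      rw [Ideal.map_le_iff_le_comap, comap_primeOf] at hP'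
      have h1 : η ⤳ f ξ' := (primeOf_le_iff hη (hs'.map f.continuous)).1 hP'
      have h2 : ξ' ⤳ ξ := (primeOf_le_iff hs' hs).1 (hξ'.trans_le hle)
      have h3 : f ξ' = η := ((he ▸ h2.map f.continuous : f ξ' ⤳ η).antisymm h1).eq
      obtain rfl : ξ' = ξ := hm _ (h3.trans he.symm) h2
      exact hξ'.le
  have : (Set.range g).Finite :=
    ((((primeOf hη).map (f.stalkMap x).hom).finite_minimalPrimes_of_isNoetherianRing
      (X.presheaf.stalk x)).preimage (fun q _ q' _ e => PrimeSpectrum.ext e)).subset hrange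
  haveI := this.to_subtype
  exact (Finite.of_injective (Set.rangeFactorization g) fun u v e => hinj (congrArg Subtype.val e))

theorem map_stalkMap_comp {A B C : Scheme.{u}} (u : A ⟶ B) (v : B ⟶ C) (z : A)
    (I : Ideal (C.presheaf.stalk (v (u z)))) :
    Ideal.map ((u ≫ v).stalkMap z).hom I = Ideal.map (u.stalkMap z).hom (Ideal.map (v.stalkMap (u z)).hom I) := by
  rw [Ideal.map_map, Scheme.Hom.stalkMap_comp]
  rfl

variable {R : Type u} [CommRing R] [IsDomain R] [IsDiscreteValuationRing R]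
variable {X' X : Scheme.{u}} (b : X ⟶ Spec (CommRingCat.of R)) (f : X' ⟶ X)

theorem fibLength_fibre {s : ↥(Spec (CommRingCat.of R))} (g : (f ≫ b).fiber s ⟶ b.fiber s)
    (hg : g ≫ b.fiberι s = (f ≫ b).fiberι s ≫ f) (z : ↥((f ≫ b).fiber s)) :
    GrothLib.CycFlat.fibLength g z = GrothLib.CycFlat.fibLength f ((f ≫ b).fiberι s z) := by
  let ψ := (((f ≫ b).fiberι s).stalkMap z).hom
  obtain ⟨hsurj, hker⟩ := GrothLib.FibreFlat.fiberι_stalkMap (f ≫ b) s z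
  have hJ : ∀ (u v : (f ≫ b).fiber s ⟶ X), u = v →
      (maximalIdeal (X.presheaf.stalk (u z))).map (u.stalkMap z).hom =
        (maximalIdeal (X.presheaf.stalk (v z))).map (v.stalkMap z).hom := by rintro u v rfl; rfl
  obtain ⟨hsb, -⟩ := GrothLib.FibreFlat.fiberι_stalkMap b s (g z)
  have hm : (maximalIdeal ((b.fiber s).presheaf.stalk (g z))).map (g.stalkMap z).hom =
      ((maximalIdeal (X.presheaf.stalk (f ((f ≫ b).fiberι s z)))).map
        (f.stalkMap ((f ≫ b).fiberι s z)).hom).map ψ := by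
    have e1 := hJ _ _ hg
    have e2 := (map_stalkMap_comp g (b.fiberι s) z _).symm.trans
      (e1.trans (map_stalkMap_comp ((f ≫ b).fiberι s) f z _))
    rw [← IsLocalRing.map_maximalIdeal_of_surjective ((b.fiberι s).stalkMap (g z)).hom hsb]
    exact e2
  let J := (maximalIdeal (X.presheaf.stalk (f ((f ≫ b).fiberι s z)))).map
    (f.stalkMap ((f ≫ b).fiberι s z)).hom
  have hle : RingHom.ker ψ ≤ J := by
    refine hker.trans_le ?_
    refine (map_stalkMap_comp f b ((f ≫ b).fiberι s z) _).trans_le ?_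
    refine Ideal.map_mono (Ideal.map_le_iff_le_comap.2 fun c hc => ?_)
    exact map_nonunit (b.stalkMap _).hom c hc
  show Module.length _ (((f ≫ b).fiber s).presheaf.stalk z ⧸ _) = Module.length _ _
  rw [hm]
  letI : Algebra (X'.presheaf.stalk ((f ≫ b).fiberι s z)) (((f ≫ b).fiber s).presheaf.stalk z) := ψ.toAlgebra
  rw [← Module.length_eq_of_surjective (S := X'.presheaf.stalk ((f ≫ b).fiberι s z))
    (M := ((f ≫ b).fiber s).presheaf.stalk z ⧸ J.map ψ) hsurj]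
  let χ : X'.presheaf.stalk ((f ≫ b).fiberι s z) →ₗ[X'.presheaf.stalk ((f ≫ b).fiberι s z)]
      ((f ≫ b).fiber s).presheaf.stalk z ⧸ J.map ψ :=
    (Ideal.Quotient.mkₐ (X'.presheaf.stalk ((f ≫ b).fiberι s z)) (J.map ψ)).toLinearMap ∘ₗ
      Algebra.linearMap (X'.presheaf.stalk ((f ≫ b).fiberι s z)) (((f ≫ b).fiber s).presheaf.stalk z)
  have hχ : Function.Surjective χ := fun q => by
    obtain ⟨w, rfl⟩ := Ideal.Quotient.mk_surjective q
    obtain ⟨v, rfl⟩ := hsurj w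
    exact ⟨v, rfl⟩
  have hkχ : LinearMap.ker χ = J := by
    ext v
    rw [LinearMap.mem_ker]
    show Ideal.Quotient.mk (J.map ψ) (ψ v) = 0 ↔ _
    rw [Ideal.Quotient.eq_zero_iff_mem, ← Ideal.mem_comap, Ideal.comap_map_of_surjective ψ hsurj]
    rw [← RingHom.ker_eq_comap_bot, sup_eq_left.2 hle]
  exact (((Submodule.quotEquivOfEq _ _ hkχ.symm).trans (χ.quotKerEquivOfSurjective hχ)).length_eq).symm

variable [LocallyOfFiniteType b] [IsLocallyNoetherian X] [IsLocallyNoetherian X'] [Flat f]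
  [LocallyOfFiniteType f]

theorem spFun_pullFun (gη : (f ≫ b).fiber (gp R) ⟶ b.fiber (gp R))
    (hη : gη ≫ b.fiberι (gp R) = (f ≫ b).fiberι (gp R) ≫ f)
    (gs : (f ≫ b).fiber (sp R) ⟶ b.fiber (sp R))
    (hs : gs ≫ b.fiberι (sp R) = (f ≫ b).fiberι (sp R) ≫ f)
    (e : ℕ) (he : Cyc.HasRelDim f e)
    (δ'η : ↥((f ≫ b).fiber (gp R)) → ℤ) (δ's : ↥((f ≫ b).fiber (sp R)) → ℤ)
    (δη : ↥(b.fiber (gp R)) → ℤ) (δs : ↥(b.fiber (sp R)) → ℤ)
    (h1 : Cyc.DeltaCompat ((f ≫ b).fiberToSpecResidueField (gp R)) δ'η (fun _ => 0))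
    (h2 : Cyc.DeltaCompat ((f ≫ b).fiberToSpecResidueField (sp R)) δ's (fun _ => 0))
    (h3 : Cyc.DeltaCompat (b.fiberToSpecResidueField (gp R)) δη (fun _ => 0))
    (h4 : Cyc.DeltaCompat (b.fiberToSpecResidueField (sp R)) δs (fun _ => 0))
    (r : ℤ) (α : AlgebraicCycle (b.fiber (gp R)) ℤ) (hα : α ∈ Cyc.Zk (b.fiber (gp R)) δη r) :
    Cyc.spFun (f ≫ b) (gp R) (sp R) δ'η δ's (r + e) (Cyc.pullFun gη δ'η δη e ⇑α) =
      Cyc.pullFun gs δ's δs e (Cyc.spFun b (gp R) (sp R) δη δs r ⇑α) := by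
  classical
  obtain ⟨t, ht⟩ := IsDiscreteValuationRing.exists_irreducible R
  have htm : maximalIdeal R = Ideal.span {t} :=
    (IsDiscreteValuationRing.irreducible_iff_uniformizer t).1 ht
  obtain ⟨δ', hX'⟩ := GrothLib.CycP1.exists_deltaCompat (f ≫ b) (dl R)
  obtain ⟨δ, hX⟩ := GrothLib.CycP1.exists_deltaCompat b (dl R)
  have hδ : Cyc.IsDimFun X δ := Groth.Agent.S9684.result b (dl R) (isSetup_base R) δ hX
  have hδ' : Cyc.IsDimFun X' δ' := Groth.Agent.S9684.result (f ≫ b) (dl R) (isSetup_base R) δ' hX'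
  have hf : Cyc.DeltaCompat f δ' δ := by
    intro x
    obtain ⟨n, hn, hnx⟩ := hX' x
    obtain ⟨m, hm, hmx⟩ := hX (f x)
    obtain ⟨t', -, -, -, ht', -⟩ := GrothLib.Altitude.dim_locQuot_add_trdeg f (specializes_rfl (x := x))
    refine ⟨t', ht', ?_⟩
    have e1 := GrothLib.CycFlat.resTrdeg_comp f b x
    have e' : (n : Cardinal.{u}) = m + t' := hn.symm.trans (e1.trans (congrArg₂ (· + ·) hm ht'))
    have : n = m + t' := by exact_mod_cast e'
    rw [hnx, hmx, this, Scheme.Hom.comp_apply]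
    push_cast
    ring
  have hc := GrothLib.CycDiv.shift_of_hasRelDim f he hf
  let ιη := b.fiberι (gp R)
  let ι' := (f ≫ b).fiberι (gp R)
  have hdη : ∀ z, δ (ιη z) = 1 + δη z := fun z => by rw [delta_fiber b hX h3 z, dl_gp]
  have hd'η : ∀ z, δ' (ι' z) = 1 + δ'η z := fun z => by rw [delta_fiber (f ≫ b) hX' h1 z, dl_gp]
  have hds : ∀ z, δ (b.fiberι (sp R) z) = δs z := fun z => by
    rw [delta_fiber b hX h4 z, dl_sp, zero_add]
  have hd's : ∀ z, δ' ((f ≫ b).fiberι (sp R) z) = δ's z := fun z => by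
    rw [delta_fiber (f ≫ b) hX' h2 z, dl_sp, zero_add]
  have hptη : ∀ ξ, f (ι' ξ) = ιη (gη ξ) := fun ξ => by
    rw [← Scheme.Hom.comp_apply, ← hη, Scheme.Hom.comp_apply]
  funext x
  set x' := (f ≫ b).fiberι (sp R) x with hxdef
  have hfx : b.fiberι (sp R) (gs x) = f x' := by
    rw [← Scheme.Hom.comp_apply, hs, Scheme.Hom.comp_apply]
  have hu : ∀ ζ : ↥(b.fiber (gp R)), unifRat b t (ιη ζ) ≠ 0 := fun ζ =>
    unifRat_ne_zero b ht.ne_zero (apply_fiberι' b _ ζ)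
  let D : ↥((f ≫ b).fiber (gp R)) → ℤ := fun ξ => Cyc.divFun δ' (ι' ξ) (unifRat (f ≫ b) t (ι' ξ)) x'
  let L : ↥((f ≫ b).fiber (gp R)) → ℤ := fun ξ =>
    α (gη ξ) * (((GrothLib.CycFlat.fibLength f (ι' ξ)).toNat : ℤ) * D ξ)
  let M : Set ↥((f ≫ b).fiber (gp R)) := {ξ | δη (gη ξ) = r ∧ GrothLib.CycFlat.MaxFib f (ι' ξ)}
  -- the left hand side
  have hLHS : Cyc.spFun (f ≫ b) (gp R) (sp R) δ'η δ's (r + e) (Cyc.pullFun gη δ'η δη e ⇑α) x =
      ∑ᶠ ξ ∈ M, L ξ := by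
    rw [spFun_eq_divFun (f ≫ b) δ'η δ's h1 h2 hX' htm (r + e) _ x]
    rw [finsum_subtype_eq_finsum_cond (f := fun ξ : ↥((f ≫ b).fiber (gp R)) =>
      Cyc.pullFun gη δ'η δη e ⇑α ξ * Cyc.divFun δ' (ι' ξ) (unifRat (f ≫ b) t (ι' ξ)) x') (fun ξ => δ'η ξ = r + e)]
    refine finsum_congr fun ξ => ?_
    rw [finsum_eq_if, finsum_eq_if, GrothLib.CycFlat.pullFun_apply, fibLength_fibre b f gη hη ξ]
    have hiff : (δ'η ξ = δη (gη ξ) + e) ↔ GrothLib.CycFlat.MaxFib f (ι' ξ) := by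
      rw [← (GrothLib.CycFlat.eq_add_iff_maxFib f hδ' hc (ι' ξ)).1, hd'η, hptη, hdη]
      omega
    by_cases hm : GrothLib.CycFlat.MaxFib f (ι' ξ)
    · by_cases hr : δη (gη ξ) = r
      · rw [if_pos (show ξ ∈ M from ⟨hr, hm⟩), if_pos (by rw [hiff.2 hm, hr]), if_pos (hiff.2 hm)]
        show _ = α (gη ξ) * (_ * D ξ)
        rw [mul_assoc]
      · rw [if_neg (show ξ ∉ M from fun h => hr h.1), if_neg fun h => hr (by have := hiff.2 hm; omega)]
    · rw [if_neg (show ξ ∉ M from fun h => hm h.2), if_neg (fun h => hm (hiff.1 h)), zero_mul, ite_self]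
  -- pullback of one divisor
  have hD : ∀ ζ : ↥(b.fiber (gp R)), Cyc.pullFun f δ' δ e
      (Cyc.divFun δ (ιη ζ) (unifRat b t (ιη ζ))) x' =
      ∑ᶠ ξ ∈ {ξ | gη ξ = ζ ∧ GrothLib.CycFlat.MaxFib f (ι' ξ)},
        ((GrothLib.CycFlat.fibLength f (ι' ξ)).toNat : ℤ) * D ξ := by
    intro ζ
    rw [GrothLib.CycDiv.pullFun_divFun f hδ' hδ hc (ιη ζ) _ (hu ζ) x']
    let Φ : X' → ℤ := fun w => ((GrothLib.CycFlat.fibLength f w).toNat : ℤ) *
      Cyc.divFun δ' w (unifRat (f ≫ b) t w) x'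
    have hpv : ∀ (w : X') (ew : f w = ιη ζ), pullVal f (unifRat b t (ιη ζ)) w ew = unifRat (f ≫ b) t w := by
      intro w ew
      have : ∀ (η : X) (e' : f w = η), f.residueFieldMap w ((X.residueFieldCongr e'.symm).hom (unifRat b t η)) =
          unifRat (f ≫ b) t w := by
        rintro η rfl
        rw [Scheme.residueFieldCongr_refl]
        exact residueFieldMap_unifRat b f t w
      exact this _ ew
    have himg : ι' '' {ξ | gη ξ = ζ ∧ GrothLib.CycFlat.MaxFib f (ι' ξ)} =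
        {w | GrothLib.CycFlat.MaxFib f w ∧ f w = ιη ζ} := by
      ext w
      constructor
      · rintro ⟨ξ, ⟨hξ, hm⟩, rfl⟩
        exact ⟨hm, by rw [hptη, hξ]⟩
      · rintro ⟨hm, hw⟩
        obtain ⟨ξ, rfl⟩ := exists_fiberι_eq (f ≫ b) (s := gp R) (x := w)
          (by rw [Scheme.Hom.comp_apply, hw]; exact apply_fiberι' b _ ζ)
        exact ⟨ξ, ⟨ιη.isEmbedding.injective ((hptη ξ).symm.trans hw), hm⟩, rfl⟩
    refine Eq.trans ?_ (finsum_mem_image (f := Φ) ι'.isEmbedding.injective.injOn)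
    rw [himg]
    rw [← finsum_set_coe_eq_finsum_mem]
    exact finsum_congr fun w => by rw [hpv w.1 w.2.2]
  -- the right hand side
  have hRHS : Cyc.pullFun gs δ's δs e (Cyc.spFun b (gp R) (sp R) δη δs r ⇑α) x =
      ∑ᶠ ζ : {ζ : ↥(b.fiber (gp R)) // δη ζ = r}, α ζ.1 *
        Cyc.pullFun f δ' δ e (Cyc.divFun δ (ιη ζ.1) (unifRat b t (ιη ζ.1))) x' := by
    rw [GrothLib.CycFlat.pullFun_apply, spFun_eq_divFun b δη δs h3 h4 hX htm r _ (gs x),
      fibLength_fibre b f gs hs x]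
    by_cases h : δ's x = δs (gs x) + e
    · rw [if_pos h, finsum_mul]
      refine finsum_congr fun ζ => ?_
      rw [GrothLib.CycFlat.pullFun_apply, if_pos (show δ' x' = δ (f x') + e by rw [← hfx, hd's, hds, h]), hfx,
        mul_assoc]
    · rw [if_neg h]
      refine (finsum_eq_zero_of_forall_eq_zero fun ζ => ?_).symm
      rw [GrothLib.CycFlat.pullFun_apply, if_neg (show ¬ δ' x' = δ (f x') + e by rw [← hfx, hd's, hds]; exact h),
        mul_zero]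
  rw [hLHS, hRHS]
  -- finiteness
  haveI : IsAffineHom (b.fiberι (gp R)) := MorphismProperty.pullback_fst _ _ inferInstance
  obtain ⟨V, hV, hxV, -⟩ := exists_isAffineOpen_mem_and_subset (x := f x') (U := ⊤) trivial
  have hA0 : (ιη ⁻¹' (V : Set X) ∩ Function.support α).Finite :=
    α.locallyFiniteSupport.finite_inter_support_of_isCompact (ιη.isSpectralMap.2 V.2 hV.isCompact)
  let A : Set ↥(b.fiber (gp R)) := {ζ | δη ζ = r ∧ ζ ∈ ιη ⁻¹' (V : Set X) ∩ Function.support α}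
  have hA : A.Finite := hA0.subset fun ζ hζ => hζ.2
  have hDsp : ∀ ξ, D ξ ≠ 0 → ι' ξ ⤳ x' := fun ξ h => by
    by_contra hc'
    exact h (by show Cyc.divFun δ' _ _ _ = 0; rw [Cyc.divFun, dif_neg fun h' => hc' h'.1])
  let B : ↥(b.fiber (gp R)) → Set ↥((f ≫ b).fiber (gp R)) := fun ζ =>
    {ξ | gη ξ = ζ ∧ GrothLib.CycFlat.MaxFib f (ι' ξ) ∧ ι' ξ ⤳ x'}
  have hB : ∀ ζ, (B ζ).Finite := fun ζ =>
    ((finite_maxFib_over f (x := x') (ιη ζ)).preimage ι'.isEmbedding.injective.injOn).subset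
      fun ξ hξ => ⟨hξ.2.1, by rw [hptη, hξ.1], hξ.2.2⟩
  have hmain : ∀ ζ, ∑ᶠ ξ ∈ {ξ | gη ξ = ζ ∧ GrothLib.CycFlat.MaxFib f (ι' ξ)},
      ((GrothLib.CycFlat.fibLength f (ι' ξ)).toNat : ℤ) * D ξ =
      ∑ ξ ∈ (hB ζ).toFinset, ((GrothLib.CycFlat.fibLength f (ι' ξ)).toNat : ℤ) * D ξ := fun ζ => by
    refine finsum_mem_eq_sum_of_inter_support_eq _ ?_
    ext ξ
    simp only [Set.mem_inter_iff, Function.mem_support, Set.Finite.coe_toFinset, Set.mem_setOf_eq, B]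
    exact ⟨fun h => ⟨⟨h.1.1, h.1.2, hDsp ξ fun h0 => h.2 (by rw [h0, mul_zero])⟩, h.2⟩,
      fun h => ⟨⟨h.1.1, h.1.2.1⟩, h.2⟩⟩
  have hR : ∑ᶠ ζ : {ζ : ↥(b.fiber (gp R)) // δη ζ = r}, α ζ.1 *
        Cyc.pullFun f δ' δ e (Cyc.divFun δ (ιη ζ.1) (unifRat b t (ιη ζ.1))) x' =
      ∑ ζ ∈ hA.toFinset, ∑ ξ ∈ (hB ζ).toFinset, L ξ := by
    rw [finsum_subtype_eq_finsum_cond (f := fun ζ : ↥(b.fiber (gp R)) => α ζ *
      Cyc.pullFun f δ' δ e (Cyc.divFun δ (ιη ζ) (unifRat b t (ιη ζ))) x') (fun ζ => δη ζ = r)]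
    rw [finsum_cond_eq_sum_of_cond_iff (p := fun ζ => δη ζ = r) (t := hA.toFinset) _ ?_]
    · refine Finset.sum_congr rfl fun ζ _ => ?_
      rw [hD, hmain, Finset.mul_sum]
      refine Finset.sum_congr rfl fun ξ hξ => ?_
      rw [Set.Finite.mem_toFinset] at hξ
      show _ = α (gη ξ) * _
      rw [hξ.1]
    · intro ζ hζ
      rw [Set.Finite.mem_toFinset]
      refine ⟨fun h => ⟨h, ?_, fun h0 => hζ (by rw [h0, zero_mul])⟩, fun h => h.1⟩
      by_contra hc'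
      refine hζ ?_
      rw [GrothLib.CycFlat.pullFun_apply, Cyc.divFun,
        dif_neg fun h' => hc' (h'.1.mem_open V.2 hxV), zero_mul, ite_self, mul_zero]
  rw [hR, ← Finset.sum_biUnion]
  · refine finsum_mem_eq_sum_of_inter_support_eq _ ?_
    ext ξ
    simp only [Set.mem_inter_iff, Function.mem_support, Finset.coe_biUnion, Set.Finite.coe_toFinset,
      Set.mem_iUnion₂, Set.mem_setOf_eq, M, A, B]
    refine ⟨fun h => ⟨?_, h.2⟩, fun h => ⟨?_, h.2⟩⟩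
    · have hne : α (gη ξ) ≠ 0 := fun h0 => h.2 (by show α (gη ξ) * _ = 0; rw [h0, zero_mul])
      have hsp := hDsp ξ fun h0 => h.2 (by show _ * (_ * D ξ) = 0; rw [h0, mul_zero, mul_zero])
      refine ⟨gη ξ, ⟨h.1.1, ?_, hne⟩, rfl, h.1.2, hsp⟩
      show ιη (gη ξ) ∈ (V : Set X)
      rw [← hptη]
      exact (hsp.map f.continuous).mem_open V.2 hxV
    · obtain ⟨ζ, ⟨hζ, -⟩, hgξ, hm, -⟩ := h.1
      exact ⟨by rw [hgξ]; exact hζ, hm⟩
  · intro ζ _ ζ' _ hne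
    show Disjoint _ _
    rw [Finset.disjoint_left]
    intro ξ hξ hξ'
    rw [Set.Finite.mem_toFinset] at hξ hξ'
    exact hne (hξ.1.symm.trans hξ'.1)

end GrothLib.SpSheaf17
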