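import Groth.Agent.Lib.PBDeg17.SpDiv

/-!
Specialisation commutes with proper pushforward.
-/

set_option autoImplicit false
universe u

open CategoryTheory Limits AlgebraicGeometry IsLocalRing

namespace GrothLib.SpSheaf17

variable {R : Type u} [CommRing R] [IsDomain R] [IsDiscreteValuationRing R]
variable {X Y : Scheme.{u}} (b : Y ⟶ Spec (CommRingCat.of R)) (f : X ⟶ Y)

theorem residueFieldMap_unifRat (t : R) (ζ : X) :
    f.residueFieldMap ζ (unifRat b t (f ζ)) = unifRat (f ≫ b) t ζ := by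
  unfold unifRat unif
  have h1 := ConcreteCategory.congr_hom (Scheme.residue_residueFieldMap f ζ)
    ((b.stalkMap (f ζ)).hom (tk t (b (f ζ))))
  simp only [CommRingCat.comp_apply] at h1
  refine h1.trans ?_
  rw [Scheme.Hom.stalkMap_comp]
  rfl

theorem normGen_unifRat (t : R) (ζ : X) :
    Cyc.normGen f ζ (unifRat (f ≫ b) t ζ) = unifRat b t (f ζ) ^ f.residueDegree ζ := by
  letI := (f.residueFieldMap ζ).hom.toAlgebra
  rw [← residueFieldMap_unifRat b f t ζ]
  exact Algebra.norm_algebraMap (unifRat b t (f ζ))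

theorem normGen_zpow (ζ : X) (g : X.residueField ζ) (hfin : (f.residueFieldMap ζ).hom.Finite) (n : ℤ) :
    Cyc.normGen f ζ (g ^ n) = Cyc.normGen f ζ g ^ n := by
  letI := (f.residueFieldMap ζ).hom.toAlgebra
  haveI : Module.Finite (Y.residueField (f ζ)) (X.residueField ζ) := hfin
  show Algebra.norm _ (g ^ n) = Algebra.norm _ g ^ n
  cases n with
  | ofNat n => rw [Int.ofNat_eq_natCast, zpow_natCast, zpow_natCast, map_pow]
  | negSucc n =>
    rw [zpow_negSucc, zpow_negSucc, Algebra.norm_inv, map_pow]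

variable [LocallyOfFiniteType b] [IsLocallyNoetherian Y] [IsLocallyNoetherian X] [IsProper f]
  {s : ↥(Spec (CommRingCat.of R))}

theorem mapCoeff_fibre (g : (f ≫ b).fiber s ⟶ b.fiber s) (hg : g ≫ b.fiberι s = (f ≫ b).fiberι s ≫ f)
    {δX : X → ℤ} {δY : Y → ℤ} (hX : Cyc.DeltaCompat (f ≫ b) δX (dl R)) (hY : Cyc.DeltaCompat b δY (dl R))
    {δXf : ↥((f ≫ b).fiber s) → ℤ} {δYf : ↥(b.fiber s) → ℤ}
    (hXf : Cyc.DeltaCompat ((f ≫ b).fiberToSpecResidueField s) δXf (fun _ => 0))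
    (hYf : Cyc.DeltaCompat (b.fiberToSpecResidueField s) δYf (fun _ => 0)) (z : ↥((f ≫ b).fiber s)) :
    AlgebraicCycle.mapCoeff g δXf δYf z = AlgebraicCycle.mapCoeff f δX δY ((f ≫ b).fiberι s z) := by
  have hpt : f ((f ≫ b).fiberι s z) = b.fiberι s (g z) := by
    rw [← Scheme.Hom.comp_apply, ← hg, Scheme.Hom.comp_apply]
  have e1 := delta_fiber (f ≫ b) hX hXf z
  have e2 := delta_fiber b hY hYf (g z)
  have e3 : ∀ (u v : (f ≫ b).fiber s ⟶ Y), u = v → u.residueDegree z = v.residueDegree z := by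
    rintro u v rfl; rfl
  have e4 := e3 _ _ hg
  rw [GrothLib.CycBasic.residueDegree_comp, GrothLib.CycBasic.residueDegree_comp,
    GrothLib.CycPush.residueDegree_eq_one (b.fiberι s) (GrothLib.AffDom.residueFieldMap_surjective _ _),
    GrothLib.CycPush.residueDegree_eq_one ((f ≫ b).fiberι s) (GrothLib.AffDom.residueFieldMap_surjective _ _),
    one_mul, mul_one] at e4
  unfold AlgebraicCycle.mapCoeff
  by_cases h : δXf z = δYf (g z)
  · rw [if_pos h, if_pos (show δX _ = δY (f _) by rw [hpt, e1, e2, h]), e4]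
  · rw [if_neg h, if_neg (show ¬ δX _ = δY (f _) by rw [hpt, e1, e2]; omega)]

theorem spFun_map (gη : (f ≫ b).fiber (gp R) ⟶ b.fiber (gp R)) [QuasiCompact gη]
    (hη : gη ≫ b.fiberι (gp R) = (f ≫ b).fiberι (gp R) ≫ f)
    (gs : (f ≫ b).fiber (sp R) ⟶ b.fiber (sp R)) [QuasiCompact gs]
    (hs : gs ≫ b.fiberι (sp R) = (f ≫ b).fiberι (sp R) ≫ f)
    (δXη : ↥((f ≫ b).fiber (gp R)) → ℤ) (δXs : ↥((f ≫ b).fiber (sp R)) → ℤ)
    (δYη : ↥(b.fiber (gp R)) → ℤ) (δYs : ↥(b.fiber (sp R)) → ℤ)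
    (hXη : Cyc.DeltaCompat ((f ≫ b).fiberToSpecResidueField (gp R)) δXη (fun _ => 0))
    (hXs : Cyc.DeltaCompat ((f ≫ b).fiberToSpecResidueField (sp R)) δXs (fun _ => 0))
    (hYη : Cyc.DeltaCompat (b.fiberToSpecResidueField (gp R)) δYη (fun _ => 0))
    (hYs : Cyc.DeltaCompat (b.fiberToSpecResidueField (sp R)) δYs (fun _ => 0))
    (r : ℤ) (α : AlgebraicCycle ((f ≫ b).fiber (gp R)) ℤ)
    (hα : α ∈ Cyc.Zk ((f ≫ b).fiber (gp R)) δXη r) (β : AlgebraicCycle ((f ≫ b).fiber (sp R)) ℤ)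
    (hβ : ⇑β = Cyc.spFun (f ≫ b) (gp R) (sp R) δXη δXs r ⇑α) :
    Cyc.spFun b (gp R) (sp R) δYη δYs r ⇑(AlgebraicCycle.map gη δXη δYη α) =
      ⇑(AlgebraicCycle.map gs δXs δYs β) := by
  classical
  obtain ⟨t, ht⟩ := IsDiscreteValuationRing.exists_irreducible R
  have htm : maximalIdeal R = Ideal.span {t} :=
    (IsDiscreteValuationRing.irreducible_iff_uniformizer t).1 ht
  obtain ⟨δX, hX⟩ := GrothLib.CycP1.exists_deltaCompat (f ≫ b) (dl R)
  obtain ⟨δY, hY⟩ := GrothLib.CycP1.exists_deltaCompat b (dl R)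
  have hδY : Cyc.IsDimFun Y δY := Groth.Agent.S9684.result b (dl R) (isSetup_base R) δY hY
  have hδX : Cyc.IsDimFun X δX := Groth.Agent.S9684.result (f ≫ b) (dl R) (isSetup_base R) δX hX
  have hf : Cyc.DeltaCompat f δX δY := by
    intro x
    obtain ⟨n, hn, hnx⟩ := hX x
    obtain ⟨m, hm, hmx⟩ := hY (f x)
    obtain ⟨t', -, -, -, ht', -⟩ := GrothLib.Altitude.dim_locQuot_add_trdeg f (specializes_rfl (x := x))
    refine ⟨t', ht', ?_⟩
    have e := GrothLib.CycFlat.resTrdeg_comp f b x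
    have e' : (n : Cardinal.{u}) = m + t' := hn.symm.trans (e.trans (congrArg₂ (· + ·) hm ht'))
    have : n = m + t' := by exact_mod_cast e'
    rw [hnx, hmx, this, Scheme.Hom.comp_apply]
    push_cast
    ring
  let ιη := (f ≫ b).fiberι (gp R)
  -- the family of divisors on X
  let I : Type u := {ζ : ↥((f ≫ b).fiber (gp R)) // α ζ ≠ 0}
  let φ : (i : I) → X.residueField (ιη i.1) := fun i => unifRat (f ≫ b) t (ιη i.1) ^ α i.1
  have hu : ∀ ζ : ↥((f ≫ b).fiber (gp R)), unifRat (f ≫ b) t (ιη ζ) ≠ 0 := fun ζ =>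
    unifRat_ne_zero (f ≫ b) ht.ne_zero (apply_fiberι' (f ≫ b) _ ζ)
  have huY : ∀ ζ : ↥((f ≫ b).fiber (gp R)), unifRat b t (f (ιη ζ)) ≠ 0 := fun ζ =>
    unifRat_ne_zero b ht.ne_zero (apply_fiberι' (f ≫ b) _ ζ)
  have hφ : ∀ i, φ i ≠ 0 := fun i => zpow_ne_zero _ (hu i.1)
  haveI : IsAffineHom ((f ≫ b).fiberι (gp R)) := MorphismProperty.pullback_fst _ _ inferInstance
  have hfinK : ∀ K : Set X, IsCompact K → IsOpen K → {ζ : I | ιη ζ.1 ∈ K}.Finite := fun K hK hKo => by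
    have hK' : IsCompact (ιη ⁻¹' K) := ιη.isSpectralMap.2 hKo hK
    exact ((α.locallyFiniteSupport.finite_inter_support_of_isCompact hK').preimage
      Subtype.val_injective.injOn).subset fun ζ hζ => ⟨hζ, ζ.2⟩
  have hloc : ∀ x : X, ∃ U : Set X, IsOpen U ∧ x ∈ U ∧ {i : I | (closure {ιη i.1} ∩ U).Nonempty}.Finite := by
    intro x
    obtain ⟨U, hU, hx, -⟩ := exists_isAffineOpen_mem_and_subset (x := x) (U := ⊤) trivial
    refine ⟨U, U.2, hx, (hfinK U hU.isCompact U.2).subset ?_⟩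
    rintro i ⟨z, hz, hzU⟩
    exact (specializes_iff_mem_closure.2 hz).mem_open U.2 hzU
  let C := GrothLib.CycPush.famCycle hδX φ hφ hloc
  have hdX : ∀ z, δX (ιη z) = 1 + δXη z := fun z => by rw [delta_fiber (f ≫ b) hX hXη z, dl_gp]
  have hαr : ∀ ζ, α ζ ≠ 0 → δXη ζ = r := fun ζ h => by
    by_contra hne
    exact h (hα ζ hne)
  have hC : ∀ x : ↥((f ≫ b).fiber (sp R)), β x = C ((f ≫ b).fiberι (sp R) x) := fun x => by
    rw [hβ, spFun_eq_divFun (f ≫ b) δXη δXs hXη hXs hX htm r α x]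
    show _ = ∑ᶠ i : I, Cyc.divFun δX (ιη i.1) (φ i) _
    let J : I → {ζ : ↥((f ≫ b).fiber (gp R)) // δXη ζ = r} := fun i => ⟨i.1, hαr _ i.2⟩
    have hJ : Function.Injective J := fun u v e => Subtype.ext (congrArg Subtype.val e :)
    let G : {ζ : ↥((f ≫ b).fiber (gp R)) // δXη ζ = r} → ℤ := fun ζ =>
      α ζ.1 * Cyc.divFun δX (ιη ζ.1) (unifRat (f ≫ b) t (ιη ζ.1)) ((f ≫ b).fiberι (sp R) x)
    have hG : Function.support G ⊆ Set.range J := fun ζ hζ =>
      ⟨⟨ζ.1, fun h0 => hζ (by show α ζ.1 * _ = 0; rw [h0, zero_mul])⟩, rfl⟩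
    show ∑ᶠ ζ, G ζ = _
    rw [← finsum_mem_univ G]
    rw [show (∑ᶠ ζ ∈ (Set.univ : Set {ζ : ↥((f ≫ b).fiber (gp R)) // δXη ζ = r}), G ζ) = ∑ᶠ ζ ∈ Set.range J, G ζ from
      finsum_mem_inter_support_eq' _ _ _ fun ζ hζ => iff_of_true trivial (hG hζ)]
    rw [finsum_mem_range hJ]
    exact finsum_congr fun i => (divFun_zpow hδX (hu i.1) _ _).symm
  funext y
  set y' := b.fiberι (sp R) y with hy'
  have hby : b y' = sp R := apply_fiberι' b _ y
  have hRHS : AlgebraicCycle.map gs δXs δYs β y = AlgebraicCycle.map f δX δY C y' := by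
    rw [GrothLib.CycPush.map_apply, GrothLib.CycPush.map_apply]
    have himg : (f ≫ b).fiberι (sp R) '' (gs ⁻¹' {y}) = f ⁻¹' {y'} := by
      ext x
      constructor
      · rintro ⟨z, hz, rfl⟩
        show f _ = y'
        rw [← Scheme.Hom.comp_apply, ← hs, Scheme.Hom.comp_apply, hy', ← (show gs z = y from hz)]
      · intro hx
        have hx' : f x = y' := hx
        obtain ⟨z, rfl⟩ := exists_fiberι_eq (f ≫ b) (s := sp R) (x := x)
          (by rw [Scheme.Hom.comp_apply, hx', hby])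
        refine ⟨z, (b.fiberι (sp R)).isEmbedding.injective ?_, rfl⟩
        rw [← Scheme.Hom.comp_apply, hs, Scheme.Hom.comp_apply, hx', hy']
    rw [← himg, finsum_mem_image ((f ≫ b).fiberι (sp R)).isEmbedding.injective.injOn]
    refine finsum_mem_congr rfl fun z _ => ?_
    rw [hC z, mapCoeff_fibre b f gs hs hX hY hXs hYs z]
  rw [hRHS, GrothLib.CycPush.map_famCycle_apply f hδX hδY hf φ hφ hloc y']
  rw [spFun_eq_divFun b δYη δYs hYη hYs hY htm r _ y]
  let D : ↥(b.fiber (gp R)) → ℤ := fun w =>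
    Cyc.divFun δY (b.fiberι (gp R) w) (unifRat b t (b.fiberι (gp R) w)) y'
  have hdiv : ∀ (w w' : Y), w = w' → Cyc.divFun δY w (unifRat b t w) y' = Cyc.divFun δY w' (unifRat b t w') y' := by
    rintro w w' rfl; rfl
  have hpt : ∀ ζ, f (ιη ζ) = b.fiberι (gp R) (gη ζ) := fun ζ => by
    rw [← Scheme.Hom.comp_apply, ← hη, Scheme.Hom.comp_apply]
  have hterm : ∀ i : I, (if δX (ιη i.1) = δY (f (ιη i.1)) then
        Cyc.divFun δY (f (ιη i.1)) (Cyc.normGen f (ιη i.1) (φ i)) y' else 0) =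
      α i.1 * (AlgebraicCycle.mapCoeff gη δXη δYη i.1 : ℤ) * D (gη i.1) := fun i => by
    rw [mapCoeff_fibre b f gη hη hX hY hXη hYη i.1, AlgebraicCycle.mapCoeff]
    by_cases he : δX (ιη i.1) = δY (f (ιη i.1))
    · rw [if_pos he, if_pos he]
      have hfin := GrothLib.CycPush.finite_residueFieldMap_of_delta_eq f hf he
      rw [normGen_zpow f _ _ hfin, normGen_unifRat, ← zpow_natCast, ← zpow_mul, divFun_zpow hδY (huY i.1),
        hdiv _ _ (hpt i.1)]
      ring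
    · rw [if_neg he, if_neg he]
      simp
  rw [finsum_congr hterm]
  -- finitely many points matter
  obtain ⟨V, hV, hyV, -⟩ := exists_isAffineOpen_mem_and_subset (x := y') (U := ⊤) trivial
  let A : Finset I := (hfinK (f ⁻¹' V) (f.isSpectralMap.2 V.2 hV.isCompact) (V.2.preimage f.continuous)).toFinset
  have hA : ∀ i : I, D (gη i.1) ≠ 0 → i ∈ A := fun i hi => by
    refine (Set.Finite.mem_toFinset _).2 (show f (ιη i.1) ∈ (V : Set Y) from ?_)
    rw [hpt]
    by_contra hc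
    refine hi ?_
    show Cyc.divFun δY _ _ _ = 0
    rw [Cyc.divFun, dif_neg]
    exact fun h => hc (h.1.mem_open V.2 hyV)
  rw [finsum_eq_sum_of_support_subset _ (s := A) fun i hi => hA i fun h0 => hi (by
    show α i.1 * _ * D _ = 0
    rw [h0, mul_zero])]
  have hLHS : ∀ w : ↥(b.fiber (gp R)), AlgebraicCycle.map gη δXη δYη α w * D w =
      ∑ i ∈ A with gη i.1 = w, α i.1 * (AlgebraicCycle.mapCoeff gη δXη δYη i.1 : ℤ) * D (gη i.1) := fun w => by
    by_cases hD : D w = 0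
    · rw [hD, mul_zero]
      refine (Finset.sum_eq_zero fun i hi => ?_).symm
      rw [(Finset.mem_filter.1 hi).2, hD, mul_zero]
    rw [GrothLib.CycPush.map_apply]
    rw [finsum_mem_eq_sum_of_inter_support_eq _ (t := (A.filter fun i => gη i.1 = w).image Subtype.val) ?_,
      Finset.sum_image Subtype.val_injective.injOn, Finset.sum_mul]
    · exact Finset.sum_congr rfl fun i hi => by rw [(Finset.mem_filter.1 hi).2]
    · ext ζ
      simp only [Set.mem_inter_iff, Function.mem_support, Finset.coe_image, Finset.coe_filter,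
        Set.mem_image, Set.mem_setOf_eq]
      refine ⟨fun h => ⟨?_, h.2⟩, fun h => ⟨?_, h.2⟩⟩
      · have hne : α ζ ≠ 0 := fun h0 => h.2 (by rw [h0, zero_mul])
        have hgw : gη ζ = w := h.1
        exact ⟨⟨ζ, hne⟩, ⟨hA ⟨ζ, hne⟩ (by show D (gη ζ) ≠ 0; rw [hgw]; exact hD), hgw⟩, rfl⟩
      · obtain ⟨i, ⟨-, hi⟩, rfl⟩ := h.1
        exact hi
  have hr : ∀ i : I, AlgebraicCycle.mapCoeff gη δXη δYη i.1 ≠ 0 → δYη (gη i.1) = r := fun i h => by
    unfold AlgebraicCycle.mapCoeff at h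
    split_ifs at h with he
    · exact he.symm.trans (hαr _ i.2)
    · exact absurd rfl h
  let W : Finset {w : ↥(b.fiber (gp R)) // δYη w = r} :=
    (A.image fun i => gη i.1).subtype fun w => δYη w = r
  show ∑ᶠ w : {w : ↥(b.fiber (gp R)) // δYη w = r}, AlgebraicCycle.map gη δXη δYη α w.1 * D w.1 = _
  rw [finsum_eq_sum_of_support_subset _ (s := W) ?_]
  · rw [Finset.sum_congr rfl fun w _ => hLHS w.1]
    rw [show ∑ w ∈ W, ∑ i ∈ A with gη i.1 = w.1, α i.1 * (AlgebraicCycle.mapCoeff gη δXη δYη i.1 : ℤ) * D (gη i.1) =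
      ∑ w ∈ (A.image fun i => gη i.1).filter (fun w => δYη w = r),
        ∑ i ∈ A with gη i.1 = w, α i.1 * (AlgebraicCycle.mapCoeff gη δXη δYη i.1 : ℤ) * D (gη i.1) from
      Finset.sum_subtype_eq_sum_filter (fun w => ∑ i ∈ A with gη i.1 = w,
        α i.1 * (AlgebraicCycle.mapCoeff gη δXη δYη i.1 : ℤ) * D (gη i.1))]
    rw [Finset.sum_filter_of_ne]
    · exact Finset.sum_fiberwise_of_maps_to (fun i hi => Finset.mem_image_of_mem _ hi) _
    · intro w _ hne
      obtain ⟨i, hi, hi0⟩ := Finset.exists_ne_zero_of_sum_ne_zero hne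
      rw [← (Finset.mem_filter.1 hi).2]
      exact hr i fun h => hi0 (by rw [h]; simp)
  · intro w hw
    have hw' : AlgebraicCycle.map gη δXη δYη α w.1 * D w.1 ≠ 0 := hw
    rw [hLHS] at hw'
    obtain ⟨i, hi, -⟩ := Finset.exists_ne_zero_of_sum_ne_zero hw'
    simp only [W, Finset.mem_coe, Finset.mem_image, Finset.mem_subtype]
    exact ⟨i, (Finset.mem_filter.1 hi).1, (Finset.mem_filter.1 hi).2⟩

end GrothLib.SpSheaf17
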