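import Groth.Agent.Lib.CycCut.Main
import Groth.Agent.Lib.CycP1.Sheaf
import Groth.Agent.Lib.CycPush.Finite
import Groth.Agent.Lib.CycFlat.Sheaf
import Groth.Agent.Lib.FibreFlat.Stalk
import Groth.Agent.Lib.ChowStrata17.Basic
import Groth.Prelude.Def_FlatMod2
import Groth.Agent.S9684

/-!
Specialisation of the cycle of a coherent sheaf flat over a discrete valuation ring.
-/

set_option autoImplicit false
universe u

open CategoryTheory Limits AlgebraicGeometry IsLocalRing GrothLib.CycDiv
open scoped Pointwise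

namespace GrothLib.SpSheaf17

variable (R : Type u) [CommRing R] [IsDomain R] [IsDiscreteValuationRing R]

/-- the closed point -/
noncomputable abbrev sp : ↥(Spec (CommRingCat.of R)) := IsLocalRing.closedPoint R

/-- the generic point -/
noncomputable abbrev gp : ↥(Spec (CommRingCat.of R)) := genericPoint ↥(Spec (CommRingCat.of R))

theorem eq_or_eq (p : ↥(Spec (CommRingCat.of R))) : p = gp R ∨ p = sp R := by
  by_cases h : (p : PrimeSpectrum R).asIdeal = ⊥
  · exact Or.inl ((PrimeSpectrum.ext h).trans (genericPoint_eq_bot_of_affine _).symm)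
  · exact Or.inr (PrimeSpectrum.ext (IsLocalRing.eq_maximalIdeal
      (Ideal.IsPrime.isMaximal (p : PrimeSpectrum R).isPrime h)))

theorem gp_ne_sp : gp R ≠ sp R := fun e => by
  have h1 : ((sp R) : PrimeSpectrum R).asIdeal = ⊥ := congrArg PrimeSpectrum.asIdeal (e.symm.trans (genericPoint_eq_bot_of_affine _))
  exact IsDiscreteValuationRing.not_a_field R h1

open Classical in
/-- the dimension function on the base -/
noncomputable def dl : ↥(Spec (CommRingCat.of R)) → ℤ := fun p => if p = sp R then 0 else 1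

@[simp] theorem dl_sp : dl R (sp R) = 0 := if_pos rfl
@[simp] theorem dl_gp : dl R (gp R) = 1 := if_neg (gp_ne_sp R)

theorem isSetup_base : Cyc.IsSetup (Spec (CommRingCat.of R)) (dl R) := by
  haveI : IsNoetherianRing (CommRingCat.of R : Type u) := inferInstanceAs (IsNoetherianRing R)
  refine ⟨inferInstance, fun x => ?_, fun a b hab hne => ?_⟩
  · let p : PrimeSpectrum R := x
    exact GrothLib.Excellent.isUniversallyCatenary_localization (A := R)
      (A' := (Spec.structureSheaf R).presheaf.stalk p) p.asIdeal.primeCompl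
      (GrothLib.CatCM.isUniversallyCatenary_of_isRegularRing R)
  · obtain rfl | rfl := eq_or_eq R a
    · obtain rfl | rfl := eq_or_eq R b
      · exact absurd rfl hne
      · rw [dl_gp, dl_sp]; omega
    · exfalso
      have h1 : maximalIdeal R ≤ (b : PrimeSpectrum R).asIdeal :=
        (PrimeSpectrum.le_iff_specializes (sp R : PrimeSpectrum R) (b : PrimeSpectrum R)).2 hab
      exact hne (PrimeSpectrum.ext (le_antisymm h1 (IsLocalRing.le_maximalIdeal (b : PrimeSpectrum R).isPrime.ne_top)))

variable {R}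

/-- the image of an element in a stalk of the base -/
noncomputable def tk (t : R) (p : ↥(Spec (CommRingCat.of R))) : (Spec (CommRingCat.of R)).presheaf.stalk p :=
  (StructureSheaf.toStalk R p).hom t

theorem maximalIdeal_stalk_sp {t : R} (ht : maximalIdeal R = Ideal.span {t}) :
    maximalIdeal ((Spec (CommRingCat.of R)).presheaf.stalk (sp R)) =
      Ideal.span {tk t (sp R)} := by
  letI : Algebra R ((Spec (CommRingCat.of R)).presheaf.stalk (sp R)) := StructureSheaf.stalkAlgebra R (sp R)
  haveI : IsLocalization.AtPrime ((Spec (CommRingCat.of R)).presheaf.stalk (sp R)) (maximalIdeal R) :=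
    StructureSheaf.IsLocalization.to_stalk R (sp R)
  rw [← IsLocalization.AtPrime.map_eq_maximalIdeal (maximalIdeal R), ht, Ideal.map_span, Set.image_singleton]
  rfl

theorem isUnit_toStalk_gp {t : R} (ht : t ≠ 0) :
    IsUnit (tk t (gp R)) := by
  letI : Algebra R ((Spec (CommRingCat.of R)).presheaf.stalk (gp R)) := StructureSheaf.stalkAlgebra R (gp R)
  haveI : IsLocalization.AtPrime ((Spec (CommRingCat.of R)).presheaf.stalk (gp R)) ((gp R) : PrimeSpectrum R).asIdeal :=
    StructureSheaf.IsLocalization.to_stalk R (gp R)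
  refine IsLocalization.map_units ((Spec (CommRingCat.of R)).presheaf.stalk (gp R))
    (⟨t, fun h => ht ?_⟩ : ((gp R) : PrimeSpectrum R).asIdeal.primeCompl)
  have e : ((gp R) : PrimeSpectrum R).asIdeal = ⊥ := congrArg PrimeSpectrum.asIdeal (genericPoint_eq_bot_of_affine _)
  exact (Ideal.mem_bot).1 (e.le h)

theorem maximalIdeal_stalk_gp :
    maximalIdeal ((Spec (CommRingCat.of R)).presheaf.stalk (gp R)) = Ideal.span {0} := by
  rw [Ideal.span_singleton_eq_bot.2 rfl]
  exact IsLocalRing.isField_iff_maximalIdeal_eq.1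
    (Field.toIsField ((Spec (CommRingCat.of R)).functionField))

variable {X : Scheme.{u}} (a : X ⟶ Spec (CommRingCat.of R))

/-- a uniformiser pulled back to a stalk -/
noncomputable def unif (t : R) (x : X) : X.presheaf.stalk x :=
  (a.stalkMap x).hom (tk t (a x))

theorem stalkSpecializes_unif (t : R) {x ζ : X} (h : ζ ⤳ x) :
    (X.presheaf.stalkSpecializes h).hom (unif a t x) = unif a t ζ := by
  have h1 := Scheme.Hom.stalkSpecializes_stalkMap a ζ x h
  have h2 := ConcreteCategory.congr_hom h1 (tk t (a x))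
  simp only [CommRingCat.comp_apply] at h2
  refine h2.symm.trans (congrArg (a.stalkMap ζ).hom ?_)
  have h3 := StructureSheaf.toStalk_stalkSpecializes (R := R) (h.map a.continuous)
  exact ConcreteCategory.congr_hom h3 t

theorem unif_not_mem {t : R} (ht : t ≠ 0) {x ζ : X} (h : ζ ⤳ x) (hζ : a ζ = gp R) :
    unif a t x ∉ primeOf h := by
  intro hm
  rw [mem_primeOf_iff, stalkSpecializes_unif, mem_maximalIdeal] at hm
  refine hm (IsUnit.map _ ?_)
  rw [hζ]
  exact isUnit_toStalk_gp ht

theorem isSMulRegular_unif {t : R} (ht : t ≠ 0) (F : X.Modules) (hflat : FlatMod.IsFlatOver a F) (x : X) :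
    IsSMulRegular (F.presheaf.stalk x) (unif a t x) := by
  letI := FlatMod.moduleStalkOver a F x
  haveI : Module.Flat ((Spec (CommRingCat.of R)).presheaf.stalk (a x)) (F.presheaf.stalk x) := hflat x
  have h0 : IsSMulRegular ((Spec (CommRingCat.of R)).presheaf.stalk (a x))
      (tk t (a x)) := by
    refine IsLeftRegular.isSMulRegular ?_
    letI : Algebra R ((Spec (CommRingCat.of R)).presheaf.stalk (a x)) := StructureSheaf.stalkAlgebra R (a x)
    haveI : IsLocalization.AtPrime ((Spec (CommRingCat.of R)).presheaf.stalk (a x)) ((a x) : PrimeSpectrum R).asIdeal :=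
      StructureSheaf.IsLocalization.to_stalk R (a x)
    refine (isRegular_of_ne_zero fun e => ht ?_).left
    exact IsLocalization.injective _ (Ideal.primeCompl_le_nonZeroDivisors ((a x) : PrimeSpectrum R).asIdeal)
      (e.trans (map_zero (algebraMap R ((Spec (CommRingCat.of R)).presheaf.stalk (a x)))).symm)
  exact IsSMulRegular.lTensor (M := F.presheaf.stalk x) h0 |> fun h => by
    intro m₁ m₂ e
    apply (TensorProduct.rid ((Spec (CommRingCat.of R)).presheaf.stalk (a x)) (F.presheaf.stalk x)).symm.injective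
    apply h
    simp only [← map_smul]
    exact congrArg _ e

/-- Stalks of the pullback to a fibre. -/
theorem length_pullback_fibre (s : ↥(Spec (CommRingCat.of R))) (F : X.Modules) (z : ↥(a.fiber s)) (t : R)
    (ht : maximalIdeal ((Spec (CommRingCat.of R)).presheaf.stalk (a (a.fiberι s z))) =
      Ideal.span {tk t (a (a.fiberι s z))}) :
    Module.length ((a.fiber s).presheaf.stalk z) (((Scheme.Modules.pullback (a.fiberι s)).obj F).presheaf.stalk z) =
      Module.length (X.presheaf.stalk (a.fiberι s z))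
        (F.presheaf.stalk (a.fiberι s z) ⧸ unif a t (a.fiberι s z) •
          (⊤ : Submodule (X.presheaf.stalk (a.fiberι s z)) (F.presheaf.stalk (a.fiberι s z)))) := by
  let φ := ((a.fiberι s).stalkMap z).hom
  obtain ⟨hsurj, hker⟩ := GrothLib.FibreFlat.fiberι_stalkMap a s z
  have e : ((OX.stalk z).obj ((Scheme.Modules.pullback (a.fiberι s)).obj F)) ≅
      (ModuleCat.extendScalars φ).obj ((OX.stalk (a.fiberι s z)).obj F) :=
    (GrothLib.QCoh.stalkPullbackIso (a.fiberι s) z).app F
  refine Eq.trans ?_ (GrothLib.CycP1.length_tensor_quot φ hsurj (a := unif a t (a.fiberι s z))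
    (hker.trans ?_) ((OX.stalk (a.fiberι s z)).obj F))
  · exact e.toLinearEquiv.length_eq
  · rw [ht, Ideal.map_span, Set.image_singleton]; rfl

/-- The induced dimension function agrees with the given ones on the fibres. -/
theorem delta_fiber [LocallyOfFiniteType a] {δX : X → ℤ} (hX : Cyc.DeltaCompat a δX (dl R))
    {s : ↥(Spec (CommRingCat.of R))} {δf : ↥(a.fiber s) → ℤ}
    (hf : Cyc.DeltaCompat (a.fiberToSpecResidueField s) δf (fun _ => 0)) (z : ↥(a.fiber s)) :
    δX (a.fiberι s z) = dl R s + δf z := by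
  obtain ⟨n, hn, hnz⟩ := hX (a.fiberι s z)
  obtain ⟨m, hm, hmz⟩ := hf z
  have e1 : GrothLib.CycFlat.resTrdeg (a.fiberι s) z = 0 :=
    GrothLib.CycPush.resTrdeg_finite (a.fiberι s)
      (RingHom.Finite.of_surjective _ (GrothLib.AffDom.residueFieldMap_surjective (a.fiberι s) z))
  have e2 : GrothLib.CycFlat.resTrdeg ((Spec (CommRingCat.of R)).fromSpecResidueField s)
      (a.fiberToSpecResidueField s z) = 0 :=
    GrothLib.CycPush.resTrdeg_finite _
      (RingHom.Finite.of_surjective _ (GrothLib.AffDom.residueFieldMap_surjective ((Spec (CommRingCat.of R)).fromSpecResidueField s) _))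
  have e3 : ∀ (f g : a.fiber s ⟶ Spec (CommRingCat.of R)), f = g →
      GrothLib.CycFlat.resTrdeg f z = GrothLib.CycFlat.resTrdeg g z := by rintro f g rfl; rfl
  have hcond : a.fiberι s ≫ a =
      a.fiberToSpecResidueField s ≫ (Spec (CommRingCat.of R)).fromSpecResidueField s := pullback.condition
  have e4 := e3 _ _ hcond
  rw [GrothLib.CycFlat.resTrdeg_comp, GrothLib.CycFlat.resTrdeg_comp, e1, e2, add_zero, zero_add] at e4
  have h5 : (n : Cardinal.{u}) = m := hn.symm.trans (e4.trans hm)
  obtain rfl : n = m := by exact_mod_cast h5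
  rw [hnz, hmz, GrothLib.CycFlat.apply_fiberι]
  simp

theorem exists_fiberι_eq {x : X} {s : ↥(Spec (CommRingCat.of R))} (h : a x = s) :
    ∃ z : ↥(a.fiber s), a.fiberι s z = x := by subst h; exact ⟨a.asFiber x, a.fiberι_asFiber x⟩

theorem nontrivial_pullback_iff {Z : Scheme.{u}} (g : Z ⟶ X) (F : X.Modules) (hF : Coh.IsCoh F) (z : Z) :
    Nontrivial (((Scheme.Modules.pullback g).obj F).presheaf.stalk z) ↔ Nontrivial (F.presheaf.stalk (g z)) := by
  rw [GrothLib.CycBasic.nontrivial_iff_mem_support, GrothLib.CycBasic.nontrivial_iff_mem_support,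
    GrothLib.QCoh.support_pullback g F hF]
  rfl

variable [LocallyOfFiniteType a] [IsLocallyNoetherian X]

theorem apply_fiberι' (s : ↥(Spec (CommRingCat.of R))) (z : ↥(a.fiber s)) : a (a.fiberι s z) = s :=
  GrothLib.CycFlat.apply_fiberι a s z

theorem spFun_sheafFun (δη : ↥(a.fiber (gp R)) → ℤ) (δs : ↥(a.fiber (sp R)) → ℤ)
    (hδη : Cyc.DeltaCompat (a.fiberToSpecResidueField (gp R)) δη (fun _ => 0))
    (hδs : Cyc.DeltaCompat (a.fiberToSpecResidueField (sp R)) δs (fun _ => 0)) (r : ℤ)
    (F : X.Modules) (hF : Coh.IsCoh F) (hflat : FlatMod.IsFlatOver a F)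
    (hdim : ∀ ζ : ↥(a.fiber (gp R)),
      Nontrivial (((Scheme.Modules.pullback (a.fiberι (gp R))).obj F).presheaf.stalk ζ) → δη ζ ≤ r) :
    (∀ x : ↥(a.fiber (sp R)),
      Nontrivial (((Scheme.Modules.pullback (a.fiberι (sp R))).obj F).presheaf.stalk x) → δs x ≤ r) ∧
    Cyc.spFun a (gp R) (sp R) δη δs r (Cyc.sheafFun δη r ((Scheme.Modules.pullback (a.fiberι (gp R))).obj F)) =
      Cyc.sheafFun δs r ((Scheme.Modules.pullback (a.fiberι (sp R))).obj F) := by
  classical
  haveI := hF.1
  obtain ⟨δX, hX⟩ := GrothLib.CycP1.exists_deltaCompat a (dl R)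
  have hδ : Cyc.IsDimFun X δX := Groth.Agent.S9684.result a (dl R) (isSetup_base R) δX hX
  obtain ⟨t, ht⟩ := IsDiscreteValuationRing.exists_irreducible R
  have htm : maximalIdeal R = Ideal.span {t} :=
    (IsDiscreteValuationRing.irreducible_iff_uniformizer t).1 ht
  have hdg : ∀ z, δX (a.fiberι (gp R) z) = 1 + δη z := fun z => by
    rw [delta_fiber a hX hδη z, dl_gp]
  have hds : ∀ z, δX (a.fiberι (sp R) z) = δs z := fun z => by
    rw [delta_fiber a hX hδs z, dl_sp, zero_add]
  have hgen : ∀ ζ : X, a ζ = gp R → Nontrivial (F.presheaf.stalk ζ) → δX ζ ≤ r + 1 := by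
    intro ζ hζ hnt
    obtain ⟨w, rfl⟩ := exists_fiberι_eq a hζ
    have := hdim w ((nontrivial_pullback_iff _ F hF w).2 hnt)
    rw [hdg]
    omega
  -- special points of the support
  have hspec : ∀ x : X, a x = sp R → Nontrivial (F.presheaf.stalk x) → δX x ≤ r := by
    intro x hx hnt
    haveI : Module.Finite (X.presheaf.stalk x) (F.presheaf.stalk x) := GrothLib.QCoh.stalk_finite F hF x
    have hreg := isSMulRegular_unif a ht.ne_zero F hflat x
    have hnr : unif a t x ∉ (Module.annihilator (X.presheaf.stalk x) (F.presheaf.stalk x)).radical := by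
      rintro ⟨n, hn⟩
      obtain ⟨m, hm⟩ := exists_ne (0 : F.presheaf.stalk x)
      have h1 : unif a t x ^ n • m = 0 := Module.mem_annihilator.1 hn m
      exact hm ((hreg.pow n) (h1.trans (smul_zero _).symm))
    rw [Ideal.radical_eq_sInf, Submodule.mem_sInf] at hnr
    push Not at hnr
    obtain ⟨q, ⟨hle, hq⟩, htq⟩ := hnr
    obtain ⟨ζ, h, hζ⟩ := GrothLib.CycCut.exists_point_of_prime (⟨q, hq⟩ : PrimeSpectrum (X.presheaf.stalk x))
    have hntζ : Nontrivial (F.presheaf.stalk ζ) := by
      rw [← not_subsingleton_iff_nontrivial, ← GrothLib.CycCut.subsingleton_localized_iff F h,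
        not_subsingleton_iff_nontrivial]
      simp only [hζ]
      refine Module.mem_support_iff.1 (show (⟨q, hq⟩ : PrimeSpectrum _) ∈ Module.support _ _ from ?_)
      rw [Module.support_eq_zeroLocus]
      exact hle
    have hne : ζ ≠ x := by
      rintro rfl
      refine htq ?_
      show unif a t ζ ∈ (⟨q, hq⟩ : PrimeSpectrum (X.presheaf.stalk ζ)).asIdeal
      rw [← hζ, GrothLib.CycCut.primeOf_self]
      refine map_nonunit (a.stalkMap ζ).hom _ ?_
      rw [hx, maximalIdeal_stalk_sp htm]
      exact Ideal.mem_span_singleton_self _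
    have hlt := (hδ ζ x h hne).1
    rcases eq_or_eq R (a ζ) with hg | hs
    · have := hgen ζ hg hntζ; omega
    · exfalso
      refine htq ?_
      show unif a t x ∈ (⟨q, hq⟩ : PrimeSpectrum (X.presheaf.stalk x)).asIdeal
      rw [← hζ, mem_primeOf_iff, stalkSpecializes_unif]
      refine map_nonunit (a.stalkMap ζ).hom _ ?_
      rw [hs, maximalIdeal_stalk_sp htm]
      exact Ideal.mem_span_singleton_self _
  have hs1 : ∀ x : ↥(a.fiber (sp R)),
      Nontrivial (((Scheme.Modules.pullback (a.fiberι (sp R))).obj F).presheaf.stalk x) → δs x ≤ r := by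
    intro x hnt
    rw [← hds]
    exact hspec _ (apply_fiberι' a _ x) ((nontrivial_pullback_iff _ F hF x).1 hnt)
  refine ⟨hs1, funext fun x => ?_⟩
  simp only [Cyc.spFun, Cyc.sheafFun]
  by_cases hk : δs x = r
  swap
  · rw [if_neg hk, if_neg hk]
  rw [if_pos hk, if_pos hk]
  set p := a.fiberι (sp R) x with hp
  have hap : a p = sp R := apply_fiberι' a _ x
  haveI : Module.Finite (X.presheaf.stalk p) (F.presheaf.stalk p) := GrothLib.QCoh.stalk_finite F hF p
  have hall : ∀ ζ : X, Nontrivial (F.presheaf.stalk ζ) → δX ζ ≤ r + 1 := fun ζ hnt => by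
    rcases eq_or_eq R (a ζ) with hg | hs
    · exact hgen ζ hg hnt
    · have := hspec ζ hs hnt; omega
  -- the finite set of branches
  let P : Set X := {ζ | ζ ⤳ p ∧ δX ζ = r + 1 ∧ Nontrivial (F.presheaf.stalk ζ)}
  have hPfin : P.Finite := by
    let g : P → PrimeSpectrum (X.presheaf.stalk p) := fun ζ => ⟨primeOf ζ.2.1, inferInstance⟩
    have hinj : Function.Injective g := fun ζ ζ' e =>
      Subtype.ext (GrothLib.CycCut.point_eq_of_primeOf_eq _ _ (congrArg PrimeSpectrum.asIdeal e))
    have hrange : Set.range g ⊆ {q | q.asIdeal ∈ (Module.annihilator (X.presheaf.stalk p) (F.presheaf.stalk p)).minimalPrimes} := by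
      rintro _ ⟨⟨ζ, hζp, hζd, hζn⟩, rfl⟩
      have hsup : g ⟨ζ, hζp, hζd, hζn⟩ ∈ Module.support (X.presheaf.stalk p) (F.presheaf.stalk p) := by
        rw [Module.mem_support_iff]
        show Nontrivial (LocalizedModule (primeOf hζp).primeCompl (F.presheaf.stalk p))
        rwa [← not_subsingleton_iff_nontrivial, GrothLib.CycCut.subsingleton_localized_iff F hζp,
          not_subsingleton_iff_nontrivial]
      rw [Module.support_eq_zeroLocus] at hsup
      refine ⟨⟨inferInstance, hsup⟩, fun q ⟨hq, hle⟩ hqle => ?_⟩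
      obtain ⟨ζ', h', hζ'⟩ := GrothLib.CycCut.exists_point_of_prime (⟨q, hq⟩ : PrimeSpectrum (X.presheaf.stalk p))
      have hnt' : Nontrivial (F.presheaf.stalk ζ') := by
        rw [← not_subsingleton_iff_nontrivial, ← GrothLib.CycCut.subsingleton_localized_iff F h',
          not_subsingleton_iff_nontrivial]
        simp only [hζ']
        refine Module.mem_support_iff.1 (show (⟨q, hq⟩ : PrimeSpectrum _) ∈ Module.support _ _ from ?_)
        rw [Module.support_eq_zeroLocus]
        exact hle
      have hsp : ζ' ⤳ ζ := GrothLib.CycCut.specializes_of_primeOf_le h' hζp (by rw [hζ']; exact hqle)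
      obtain rfl : ζ' = ζ := by
        by_contra hne
        have := (hδ ζ' ζ hsp hne).1
        have := hall ζ' hnt'
        omega
      exact (hζ' ▸ le_rfl : primeOf h' ≤ q)
    have : (Set.range g).Finite :=
      (((Module.annihilator (X.presheaf.stalk p) (F.presheaf.stalk p)).finite_minimalPrimes_of_isNoetherianRing
        (X.presheaf.stalk p)).preimage (fun q _ q' _ e => PrimeSpectrum.ext e)).subset hrange
    haveI := this.to_subtype
    exact (Finite.of_injective (Set.rangeFactorization g) fun u v e => hinj (congrArg Subtype.val e))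
  have hS : ∀ ζ : X, ζ ∈ hPfin.toFinset ↔ (ζ ⤳ p ∧ δX ζ = r + 1 ∧ Nontrivial (F.presheaf.stalk ζ)) :=
    fun ζ => hPfin.mem_toFinset
  have hgpS : ∀ ζ : X, δX ζ = r + 1 → Nontrivial (F.presheaf.stalk ζ) → a ζ = gp R := fun ζ hd hnt => by
    rcases eq_or_eq R (a ζ) with hg | hs
    · exact hg
    · have := hspec ζ hs hnt; omega
  have hm : ¬ IsAssociatedPrime (maximalIdeal (X.presheaf.stalk p)) (F.presheaf.stalk p) := by
    intro hass
    have hmem : unif a t p ∈ ⋃ q ∈ associatedPrimes (X.presheaf.stalk p) (F.presheaf.stalk p), (q : Set _) := by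
      refine Set.mem_biUnion hass (map_nonunit (a.stalkMap p).hom _ ?_)
      rw [hap, maximalIdeal_stalk_sp htm]
      exact Ideal.mem_span_singleton_self _
    rw [biUnion_associatedPrimes_eq_zero_divisors] at hmem
    obtain ⟨m, hm0, hm1⟩ := hmem
    exact hm0 (isSMulRegular_unif a ht.ne_zero F hflat p (hm1.trans (smul_zero _).symm))
  have hcut := GrothLib.CycCut.length_cut hδ F hF p r ((hds x).trans hk) (unif a t p)
    (fun ζ _ h => hall ζ h) hm
    (fun ζ h hd hnt => unif_not_mem a ht.ne_zero h (hgpS ζ hd hnt)) hPfin.toFinset hS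
  have hmax : maximalIdeal ((Spec (CommRingCat.of R)).presheaf.stalk (a p)) = Ideal.span {tk t (a p)} := by
    rw [hap]; exact maximalIdeal_stalk_sp htm
  rw [length_pullback_fibre a (sp R) F x t hmax, hcut]
  -- the summands
  let f : {ζ : ↥(a.fiber (gp R)) // δη ζ = r ∧ a.fiberι (gp R) ζ ⤳ p} → X := fun ζ => a.fiberι (gp R) ζ.1
  have hf : Function.Injective f := fun u v e =>
    Subtype.ext ((a.fiberι (gp R)).isEmbedding.injective e)
  let G : X → ℤ := fun ζ => if Nontrivial (F.presheaf.stalk ζ) ∧ δX ζ = r + 1 ∧ a ζ = gp R then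
    GrothLib.CycCut.summand F p (unif a t p) ζ else 0
  refine Eq.trans ?_ ((?_ : ∑ᶠ ζ, G ζ = _))
  swap
  · rw [finsum_eq_sum_of_support_subset _ (s := hPfin.toFinset) ?_]
    · refine Finset.sum_congr rfl fun ζ hζ => ?_
      obtain ⟨-, hd, hnt⟩ := (hS ζ).1 hζ
      exact if_pos ⟨hnt, hd, hgpS ζ hd hnt⟩
    · intro ζ hζ
      rw [Function.mem_support] at hζ
      simp only [G, GrothLib.CycCut.summand] at hζ
      split_ifs at hζ with h1 h2
      · exact Finset.mem_coe.2 ((hS ζ).2 ⟨h2, h1.2.1, h1.1⟩)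
      · exact absurd rfl hζ
      · exact absurd rfl hζ
  have hGsupp : Function.support G ⊆ Set.range f := by
    intro ζ hζ
    rw [Function.mem_support] at hζ
    simp only [G, GrothLib.CycCut.summand] at hζ
    split_ifs at hζ with h1 h2
    · obtain ⟨w, rfl⟩ := exists_fiberι_eq a h1.2.2
      exact ⟨⟨w, by have := h1.2.1; rw [hdg] at this; omega, h2⟩, rfl⟩
    · exact absurd rfl hζ
    · exact absurd rfl hζ
  rw [← finsum_mem_univ G]
  rw [show (∑ᶠ ζ ∈ (Set.univ : Set X), G ζ) = ∑ᶠ ζ ∈ Set.range f, G ζ from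
    finsum_mem_inter_support_eq' _ _ _ fun ζ hζ => iff_of_true trivial (hGsupp hζ)]
  rw [finsum_mem_range hf]
  refine finsum_congr fun ζ => ?_
  simp only [f, G]
  have hw : δη ζ.1 = r := ζ.2.1
  rw [if_pos hw]
  have hmaxg : maximalIdeal ((Spec (CommRingCat.of R)).presheaf.stalk (a (a.fiberι (gp R) ζ.1))) =
      Ideal.span {tk (0 : R) (a (a.fiberι (gp R) ζ.1))} := by
    rw [apply_fiberι', maximalIdeal_stalk_gp]
    exact congrArg (fun b => Ideal.span {b}) (map_zero (StructureSheaf.toStalk R (gp R)).hom).symm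
  rw [length_pullback_fibre a (gp R) F ζ.1 0 hmaxg]
  have hz : unif a (0 : R) (a.fiberι (gp R) ζ.1) = 0 := by
    rw [unif, show tk (0 : R) (a (a.fiberι (gp R) ζ.1)) = 0 from map_zero _, map_zero]
  rw [hz, show (0 : X.presheaf.stalk (a.fiberι (gp R) ζ.1)) •
      (⊤ : Submodule (X.presheaf.stalk (a.fiberι (gp R) ζ.1)) (F.presheaf.stalk (a.fiberι (gp R) ζ.1))) = ⊥ from by
    rw [← Submodule.ideal_span_singleton_smul, Ideal.span_singleton_eq_bot.2 rfl, Submodule.bot_smul],
    (Submodule.quotEquivOfEqBot _ rfl).length_eq]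
  by_cases hnt : Nontrivial (F.presheaf.stalk (a.fiberι (gp R) ζ.1))
  swap
  · rw [not_nontrivial_iff_subsingleton] at hnt
    rw [if_neg fun h => not_subsingleton_iff_nontrivial.2 h.1 hnt, Module.length_eq_zero]
    simp
  rw [if_pos ⟨hnt, by rw [hdg, hw]; omega, apply_fiberι' a _ _⟩, GrothLib.CycCut.summand, dif_pos ζ.2.2]
  congr 3
  rw [Ring.ord]
  have e : Ideal.span {Ideal.Quotient.mk (RingHom.ker (Cyc.specMap p (a.fiberι (gp R) ζ.1) ζ.2.2)) (unif a t p)} =
      (maximalIdeal ((Spec (CommRingCat.of R)).presheaf.stalk (a p))).map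
        ((Ideal.Quotient.mk (RingHom.ker (Cyc.specMap p (a.fiberι (gp R) ζ.1) ζ.2.2))).comp (a.stalkMap p).hom) := by
    rw [hmax, Ideal.map_span, Set.image_singleton]; rfl
  rw [e]
  exact Module.length_eq_of_surjective Ideal.Quotient.mk_surjective

end GrothLib.SpSheaf17
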