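import Groth.Agent.Lib.PBDeg17.SpSheaf
import Groth.Agent.Lib.CycBasic.SubLength
import Groth.Agent.Lib.AffBC.Basic
import Groth.Agent.Lib.Ample.Product
import Groth.Agent.Lib.K0Sub.Dev
import Groth.Agent.Lib.HomSh.Coherent

/-!
Specialisation of the cycle of a flat closed subscheme.
-/

set_option autoImplicit false
universe u

open CategoryTheory Limits AlgebraicGeometry IsLocalRing

namespace GrothLib.SpSheaf17

theorem sheafFun_congr_iso {X : Scheme.{u}} (δ : X → ℤ) (k : ℤ) {F G : X.Modules} (e : F ≅ G) :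
    Cyc.sheafFun δ k F = Cyc.sheafFun δ k G := by
  funext x
  simp only [Cyc.sheafFun]
  rw [(((OX.stalk x).mapIso e).toLinearEquiv).length_eq.trans rfl |> fun h =>
    show Module.length (X.presheaf.stalk x) (F.presheaf.stalk x) = Module.length (X.presheaf.stalk x) (G.presheaf.stalk x) from h]

theorem subschemeFun_eq {X Z : Scheme.{u}} (δ : X → ℤ) (k : ℤ) (i : Z ⟶ X) [IsClosedImmersion i] :
    Cyc.subschemeFun δ k i = Cyc.sheafFun δ k ((Coh.push i).obj (Coh.structureModule Z)) := by
  classical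
  funext x
  simp only [Cyc.subschemeFun, Cyc.sheafFun]
  split_ifs with hx
  swap
  · rfl
  by_cases hr : x ∈ Set.range i
  · obtain ⟨z, rfl⟩ := hr
    rw [show {z' : Z | i z' = i z} = {z} from Set.ext fun z' =>
      ⟨fun h => i.isClosedEmbedding.injective h, fun h => congrArg i h⟩, finsum_mem_singleton,
      GrothLib.CycBasic.length_push_stalk]
  · haveI := GrothLib.CycBasic.subsingleton_push_stalk i (Coh.structureModule Z) hr
    rw [show {z' : Z | i z' = x} = ∅ from Set.eq_empty_iff_forall_notMem.2 fun z h => hr ⟨z, h⟩,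
      finsum_mem_empty, Module.length_eq_zero]
    rfl

theorem subschemeFun_pullback {X Y W : Scheme.{u}} (ι : W ⟶ X) [IsClosedImmersion ι] (g : Y ⟶ X)
    (δ : Y → ℤ) (k : ℤ) :
    Cyc.subschemeFun δ k (pullback.snd ι g) =
      Cyc.sheafFun δ k ((Scheme.Modules.pullback g).obj ((Coh.push ι).obj (Coh.structureModule W))) := by
  have H : IsPullback (pullback.fst ι g) (pullback.snd ι g) ι g := IsPullback.of_hasPullback _ _
  haveI : (Coh.structureModule W).IsQuasicoherent :=
    inferInstanceAs (SheafOfModules.unit W.ringCatSheaf).IsQuasicoherent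
  haveI := GrothLib.AffBC.isIso_bcMap H (Coh.structureModule W)
  obtain ⟨u⟩ := GrothLib.Ample.nonempty_pullback_structureModule (pullback.fst ι g)
  rw [subschemeFun_eq]
  exact (sheafFun_congr_iso δ k (asIso (GrothLib.AffBC.bcMap H (Coh.structureModule W)) ≪≫
    (Scheme.Modules.pushforward (pullback.snd ι g)).mapIso u)).symm

theorem isFlatOver_push_structure {P S W : Scheme.{u}} (ι : W ⟶ P) [IsClosedImmersion ι] (p : P ⟶ S)
    [Flat (ι ≫ p)] : FlatMod.IsFlatOver p ((Coh.push ι).obj (Coh.structureModule W)) := by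
  intro y
  letI := FlatMod.moduleStalkOver p ((Coh.push ι).obj (Coh.structureModule W)) y
  show Module.Flat _ _
  by_cases hy : y ∈ Set.range ι
  · obtain ⟨x, rfl⟩ := hy
    have hb := GrothLib.QCoh.pushStalkHom_bijective ι x (Coh.structureModule W) ι.isClosedEmbedding.isInducing
    let u : ((Coh.push ι).obj (Coh.structureModule W)).presheaf.stalk (ι x) →+ W.presheaf.stalk x :=
      ((GrothLib.HomSh.unitStalk x).symm : (Coh.structureModule W).presheaf.stalk x →+ W.presheaf.stalk x).comp
        (GrothLib.QCoh.pushStalkHom ι x (Coh.structureModule W)).hom.toAddMonoidHom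
    have hu : Function.Bijective u := (GrothLib.HomSh.unitStalk x).symm.bijective.comp hb
    letI : Algebra (S.presheaf.stalk (p (ι x))) (W.presheaf.stalk x) := ((ι ≫ p).stalkMap x).hom.toAlgebra
    haveI : Module.Flat (S.presheaf.stalk (p (ι x))) (W.presheaf.stalk x) := Flat.stalkMap (ι ≫ p) x
    refine Module.Flat.of_linearEquiv (LinearEquiv.ofBijective
      ({ toFun := u, map_add' := map_add u, map_smul' := fun s m => ?_ } :
        ((Coh.push ι).obj (Coh.structureModule W)).presheaf.stalk (ι x) →ₗ[S.presheaf.stalk (p (ι x))]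
          W.presheaf.stalk x) hu)
    refine Eq.trans ((congrArg (GrothLib.HomSh.unitStalk x).symm
      ((GrothLib.QCoh.pushStalkHom ι x (Coh.structureModule W)).hom.map_smul ((p.stalkMap (ι x)).hom s) m)).trans
      ((GrothLib.HomSh.unitStalk x).symm.map_smul ((ι.stalkMap x).hom ((p.stalkMap (ι x)).hom s)) _)) ?_
    show (ι.stalkMap x).hom ((p.stalkMap (ι x)).hom s) * _ = ((ι ≫ p).stalkMap x).hom s * _
    rw [Scheme.Hom.stalkMap_comp]
    rfl
  · haveI := GrothLib.CycBasic.subsingleton_push_stalk ι (Coh.structureModule W) hy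
    infer_instance

theorem spFun_subscheme {R : Type u} [CommRing R] [IsDomain R] [IsDiscreteValuationRing R] {X : Scheme.{u}}
    (a : X ⟶ Spec (CommRingCat.of R)) [LocallyOfFiniteType a]
    (δη : ↥(a.fiber (gp R)) → ℤ) (δs : ↥(a.fiber (sp R)) → ℤ)
    (hδη : Cyc.DeltaCompat (a.fiberToSpecResidueField (gp R)) δη (fun _ => 0))
    (hδs : Cyc.DeltaCompat (a.fiberToSpecResidueField (sp R)) δs (fun _ => 0)) (r : ℤ)
    {W : Scheme.{u}} (ι : W ⟶ X) [IsClosedImmersion ι] [Flat (ι ≫ a)]
    (hdim : ∀ ζ : ↥(a.fiber (gp R)), a.fiberι (gp R) ζ ∈ Set.range ⇑ι → δη ζ ≤ r) :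
    (∀ x : ↥(a.fiber (sp R)), a.fiberι (sp R) x ∈ Set.range ⇑ι → δs x ≤ r) ∧
    Cyc.spFun a (gp R) (sp R) δη δs r (Cyc.subschemeFun δη r (pullback.snd ι (a.fiberι (gp R)))) =
      Cyc.subschemeFun δs r (pullback.snd ι (a.fiberι (sp R))) := by
  haveI : IsNoetherianRing (CommRingCat.of R : Type u) := inferInstanceAs (IsNoetherianRing R)
  haveI : IsLocallyNoetherian X := LocallyOfFiniteType.isLocallyNoetherian a
  haveI : IsLocallyNoetherian W := LocallyOfFiniteType.isLocallyNoetherian ι
  have hF : Coh.IsCoh ((Coh.push ι).obj (Coh.structureModule W)) :=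
    GrothLib.K0Sub.isCoh_push ι (GrothLib.HomSh.isCoh_structureModule W)
  have hfl : FlatMod.IsFlatOver a ((Coh.push ι).obj (Coh.structureModule W)) :=
    isFlatOver_push_structure ι a
  have hnt : ∀ y : X, Nontrivial (((Coh.push ι).obj (Coh.structureModule W)).presheaf.stalk y) ↔ y ∈ Set.range ι := by
    intro y
    refine ⟨fun h => by_contra fun hy => ?_, ?_⟩
    · haveI := GrothLib.CycBasic.subsingleton_push_stalk ι (Coh.structureModule W) hy
      exact not_subsingleton_iff_nontrivial.2 h inferInstance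
    · rintro ⟨w, rfl⟩
      refine not_subsingleton_iff_nontrivial.1 fun hs => ?_
      have h1 := GrothLib.CycBasic.length_push_stalk ι w
      rw [Module.length_eq_zero] at h1
      exact not_subsingleton (W.presheaf.stalk w) (Module.length_eq_zero_iff.1 h1.symm)
  obtain ⟨h1, h2⟩ := spFun_sheafFun a δη δs hδη hδs r _ hF hfl
    fun ζ h => hdim ζ ((hnt _).1 ((nontrivial_pullback_iff _ _ hF ζ).1 h))
  refine ⟨fun x hx => h1 x ((nontrivial_pullback_iff _ _ hF x).2 ((hnt _).2 hx)), ?_⟩
  rw [subschemeFun_pullback, subschemeFun_pullback]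
  exact h2

end GrothLib.SpSheaf17
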