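import Groth.Agent.Lib.PBDeg17.Fibre
import Groth.Agent.Lib.PBDeg17.Chern
import Groth.Agent.Lib.CycPush.Family

/-!
# The powers of the tautological class generate the cycle classes of a projective bundle
-/

set_option autoImplicit false
set_option backward.isDefEq.respectTransparency false
set_option linter.style.haveILetI false

universe u

open CategoryTheory AlgebraicGeometry TopologicalSpace
open GrothLib.Ref1 GrothLib.C1 GrothLib.CycFlat

noncomputable section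

namespace GrothLib.PBDeg

variable {m : ℕ} {X P : Scheme.{u}} {p : P ⟶ X} {L : P.Modules} {δX : X → ℤ} {δP : P → ℤ}

theorem exists_list_fibDiv [IsLocallyNoetherian P] (hδP : Cyc.IsDimFun P δP) {z : X} {n : ℤ} {a : P → ℤ}
    (ha : a ∈ FibDiv p δP z n) : ∃ (ι : Type u) (_ : Fintype ι) (ξ : ι → P) (g : (i : ι) → P.residueField (ξ i)),
      (∀ i, δP (ξ i) = n + 1) ∧ (∀ i, g i ≠ 0) ∧ (∀ i, p (ξ i) = z) ∧
        ∀ w, p w = z → (∑ i, Cyc.divFun δP (ξ i) (g i) w) = a w := by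
  induction ha using AddSubgroup.closure_induction with
  | mem a ha =>
    obtain ⟨ξ, g, h0, h1, h2, rfl⟩ := ha
    exact ⟨PUnit, inferInstance, fun _ => ξ, fun _ => g, fun _ => h1, fun _ => h2, fun _ => h0,
      fun w hw => by simp [Set.indicator_of_mem (show w ∈ p ⁻¹' {z} from hw)]⟩
  | zero => exact ⟨PEmpty, inferInstance, PEmpty.elim, (·.elim), (·.elim), (·.elim), (·.elim), fun w _ => by simp⟩
  | add a b _ _ iha ihb =>
    obtain ⟨ι, _, ξ, g, h1, h2, h3, h4⟩ := iha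
    obtain ⟨κ, _, ξ', g', h1', h2', h3', h4'⟩ := ihb
    refine ⟨ι ⊕ κ, inferInstance, Sum.elim ξ ξ', fun i => match i with | .inl i => g i | .inr i => g' i,
      fun i => ?_, fun i => ?_, fun i => ?_, fun w hw => ?_⟩
    · cases i <;> simp [h1, h1']
    · cases i
      · exact h2 _
      · exact h2' _
    · cases i <;> simp [h3, h3']
    · rw [Pi.add_apply, ← h4 w hw, ← h4' w hw, Fintype.sum_sum_type]
      rfl
  | neg a _ iha =>
    obtain ⟨ι, _, ξ, g, h1, h2, h3, h4⟩ := iha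
    refine ⟨ι, inferInstance, ξ, fun i => (g i)⁻¹, h1, fun i => inv_ne_zero (h2 i), h3, fun w hw => ?_⟩
    rw [Pi.neg_apply, ← h4 w hw, ← Finset.sum_neg_distrib]
    exact Finset.sum_congr rfl fun i _ => CycPush.divFun_inv hδP _ (h2 i) w

variable [IsLocallyNoetherian X] [IsLocallyNoetherian P] [IsProper p]

theorem finite_image_support (β : AlgebraicCycle P ℤ) {W : X.Opens} (hW : IsAffineOpen W) :
    {x | β x ≠ 0 ∧ p x ∈ W}.Finite :=
  (β.locallyFiniteSupport.finite_inter_support_of_isCompact (p.isSpectralMap.2 W.2 hW.isCompact)).subset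
    fun _ hx => ⟨hx.2, hx.1⟩

/-- On the fibre of a point of maximal dimension a supported divisor is a divisor of the fibre. -/
theorem Chart.indicator_mem_fibDiv {z : X} (C : Chart p L m z) (hδX : Cyc.IsDimFun X δX) (hδP : Cyc.IsDimFun P δP)
    {n : ℤ} {a : P → ℤ} (ha : RZS δP n {x | δX (p x) ≤ δX z} a) : (p ⁻¹' {z}).indicator a ∈ FibDiv p δP z n := by
  classical
  obtain ⟨f, f1, f2, f3, f4⟩ := ha
  have hlf : LF (fun ξ => if f ξ = 1 then (0 : ℤ) else 1) := fun x => by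
    obtain ⟨U, hx, hfin⟩ := f2 x
    exact ⟨U, hx, hfin.subset fun y hy => ⟨hy.1, fun h => hy.2 (if_pos h)⟩⟩
  have hT := C.finite_fibre_support hlf
  have e : (p ⁻¹' {z}).indicator a = ∑ ξ ∈ hT.toFinset, (p ⁻¹' {z}).indicator (Cyc.divFun δP ξ (f ξ)) := by
    funext w
    rw [Finset.sum_apply]
    by_cases hw : w ∈ p ⁻¹' {z}
    swap
    · rw [Set.indicator_of_notMem hw, Finset.sum_eq_zero fun ξ _ => Set.indicator_of_notMem hw _]
    rw [Set.indicator_of_mem hw, f4 w, finsum_eq_sum_of_support_subset _ (s := hT.toFinset) fun ξ hξ => ?_]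
    · exact Finset.sum_congr rfl fun ξ _ => (Set.indicator_of_mem hw _).symm
    · have hf : f ξ ≠ 1 := fun h => hξ (by show Cyc.divFun δP ξ (f ξ) w = 0; rw [h, divFun_one hδP])
      have hsp : p ξ ⤳ z := (show p w = z from hw) ▸ (divFun_ne_zero hξ).1.map p.continuous
      refine Finset.mem_coe.2 (hT.mem_toFinset.2 ⟨?_, by simp [hf]⟩)
      by_contra h
      have h1 := (hδX _ _ hsp h).1
      have h2 : δX (p ξ) ≤ δX z := (f3 ξ hf).2
      omega
  rw [e]
  refine AddSubgroup.sum_mem _ fun ξ hξ => AddSubgroup.subset_closure ?_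
  obtain ⟨h1, h2⟩ := hT.mem_toFinset.1 hξ
  exact ⟨ξ, f ξ, h1, (f3 ξ fun h => h2 (if_pos h)).1, f1 ξ, rfl⟩

theorem c1Pow_pull_add (S : Setting p L m δX δP) {t : ℕ → (ξ : P) → Cyc.secFibre L ξ} (ht : ∀ n ξ, t n ξ ≠ 0)
    (a b : AlgebraicCycle X ℤ) (s : ℕ) (y : P) :
    Cyc.c1PowFun δP L t s (Cyc.pullFun p δP δX m ⇑(a + b)) y =
      Cyc.c1PowFun δP L t s (Cyc.pullFun p δP δX m ⇑a) y + Cyc.c1PowFun δP L t s (Cyc.pullFun p δP δX m ⇑b) y := by
  have h := c1Pow_sub S.dimP S.inv ht (S.lf_pull (a + b)) (S.lf_pull b) s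
  rw [← CycDiv.pullFun_sub, ← Function.locallyFinsuppWithin.coe_sub, add_sub_cancel_right] at h
  rw [h, Pi.sub_apply]
  ring

open Classical in
theorem Setting.spans_step (S : Setting p L m δX δP) {k : ℤ} {j : Fin (m + 1)}
    {t : ℕ → (ξ : P) → Cyc.secFibre L ξ} (ht : ∀ n ξ, t n ξ ≠ 0) {β : AlgebraicCycle P ℤ}
    (hβ : β ∈ Cyc.Zk P δP (k + m)) (hb : ∀ y, β y ≠ 0 → δX (p y) ≤ k + (j : ℕ)) :
    ∃ (a : AlgebraicCycle X ℤ) (β' : AlgebraicCycle P ℤ), a ∈ Cyc.Zk X δX (k + (j : ℕ)) ∧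
      β' ∈ Cyc.Zk P δP (k + m) ∧ (∀ y, β' y ≠ 0 → δX (p y) < k + (j : ℕ)) ∧
        RZ δP (k + m) (fun y => β y - β' y - Cyc.c1PowFun δP L t (j : ℕ) (Cyc.pullFun p δP δX m ⇑a) y) := by
  have hjm : (j : ℕ) ≤ m := Nat.lt_succ_iff.1 j.2
  let T := {z : X // δX z = k + (j : ℕ) ∧ ∃ y, p y = z ∧ β y ≠ 0}
  have hTfin : ∀ W : X.Opens, IsAffineOpen W → {z : T | z.1 ∈ W}.Finite := fun W hW =>
    (((finite_image_support (p := p) β hW).image p).preimage Subtype.val_injective.injOn).subset fun z hz => by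
      obtain ⟨y, hy, hby⟩ := z.2.2
      exact ⟨y, ⟨hby, by rw [hy]; exact hz⟩, hy⟩
  let C := fun z : T => (S.charts z.1).some
  let tgt := fun z : T => (C z).pt (coordSet m (j : ℕ)) (zero_notMem_coordSet m _)
  have hdim : ∀ z : T, δX z.1 + m = (k + m) + ((j : ℕ) : ℤ) := fun z => by rw [z.2.1]; ring
  have hcls : ∀ z : T, ∃ c : ℤ, (p ⁻¹' {z.1}).indicator ⇑β - c • CycAff.pt (tgt z) ∈ FibDiv p δP z.1 (k + m) := by
    intro z
    have hfin := (C z).finite_fibre_support (LF.of_cycle β)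
    have hsum : (p ⁻¹' {z.1}).indicator ⇑β ∈ FibDiv p δP z.1 (k + m) ⊔ AddSubgroup.zmultiples (CycAff.pt (tgt z)) := by
      rw [eq_sum_pt (a := (p ⁻¹' {z.1}).indicator ⇑β) (s := hfin.toFinset) fun w hw => hfin.mem_toFinset.2
        ⟨(Set.mem_of_indicator_ne_zero hw : w ∈ p ⁻¹' {z.1}), fun h => hw (Set.indicator_apply_eq_zero.2 fun _ => h)⟩]
      refine AddSubgroup.sum_mem _ fun w hw => AddSubgroup.zsmul_mem _ ?_ _
      obtain ⟨h1, h2⟩ := hfin.mem_toFinset.1 hw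
      exact (C z).fibre_class S.dimP S.compat S.inv (hdim z) h1 (by_contra fun h => h2 (hβ w h))
    obtain ⟨u, hu, v, hv, e⟩ := AddSubgroup.mem_sup.1 hsum
    obtain ⟨c, rfl⟩ := AddSubgroup.mem_zmultiples_iff.1 hv
    exact ⟨c, by rw [← e, add_sub_cancel_right]; exact hu⟩
  choose c hc using hcls
  let a : AlgebraicCycle X ℤ :=
    { toFun := fun z => if h : δX z = k + (j : ℕ) ∧ ∃ y, p y = z ∧ β y ≠ 0 then c ⟨z, h⟩ else 0
      supportWithinDomain' := Set.subset_univ _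
      supportLocallyFiniteWithinDomain' := fun x _ => by
        obtain ⟨W, hW, hx, -⟩ := exists_isAffineOpen_mem_and_subset (x := x) (U := ⊤) trivial
        refine ⟨W, W.2.mem_nhds hx, ((hTfin W hW).image Subtype.val).subset fun z hz => ?_⟩
        by_cases h : δX z = k + (j : ℕ) ∧ ∃ y, p y = z ∧ β y ≠ 0
        · exact ⟨⟨z, h⟩, hz.1, rfl⟩
        · exact absurd (dif_neg h) hz.2 }
  have haT : ∀ z : T, a z.1 = c z := fun z => dif_pos z.2
  have ha0 : ∀ z, a z ≠ 0 → δX z = k + (j : ℕ) ∧ ∃ y, p y = z ∧ β y ≠ 0 :=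
    fun z hz => by_contra fun h => hz (dif_neg h)
  have ha : a ∈ Cyc.Zk X δX (k + (j : ℕ)) := fun z hz => by_contra fun h => hz (ha0 z h).1
  let h : P → ℤ := Cyc.c1PowFun δP L t (j : ℕ) (Cyc.pullFun p δP δX m ⇑a)
  have hh : ∀ y, h y ≠ 0 → δP y = k + m ∧ δX (p y) ≤ k + (j : ℕ) ∧
      (δX (p y) = k + (j : ℕ) → a (p y) ≠ 0) := fun y hy => by
    obtain ⟨h1, h2⟩ := S.delta_eq ha hy
    refine ⟨by omega, h2, fun he => ?_⟩
    obtain ⟨ξ, hξ, hsp, -⟩ := c1Pow_ne_zero δP t _ _ hy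
    obtain ⟨hξ1, -⟩ := pullFun_ne_zero hξ
    by_cases e : p ξ = p y
    · rwa [← e]
    · have := (S.dimX _ _ (hsp.map p.continuous) e).1
      have := (ha0 _ hξ1).1
      omega
  have hfibre : ∀ z : T, (p ⁻¹' {z.1}).indicator (fun y => β y - h y) ∈ FibDiv p δP z.1 (k + m) := by
    intro z
    obtain ⟨v, hv, hlev⟩ := (C z).levels S.dimX S.dimP S.compat S.inv (α := ⇑a) (fun η hη => (ha0 η hη).1) z.2.1
    have hR := rzs_c1Pow_sub S.dimX S.dimP S.inv (fun η hη => (ha0 η hη).1) (S.lf_pull a) ht hv (j : ℕ)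
    rw [show k + ((j : ℕ) : ℤ) + (m : ℤ) - ((j : ℕ) : ℤ) = k + m by ring, ← z.2.1] at hR
    have h2 := (C z).indicator_mem_fibDiv S.dimX S.dimP hR
    have e : (p ⁻¹' {z.1}).indicator (fun y => β y - h y) =
        ((p ⁻¹' {z.1}).indicator ⇑β - c z • CycAff.pt (tgt z)) -
          (p ⁻¹' {z.1}).indicator (Cyc.c1PowFun δP L t (j : ℕ) (Cyc.pullFun p δP δX m ⇑a) -
            Cyc.c1PowFun δP L v (j : ℕ) (Cyc.pullFun p δP δX m ⇑a)) := by
      funext w
      by_cases hw : w ∈ p ⁻¹' {z.1}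
      · simp only [Pi.sub_apply, Set.indicator_of_mem hw, Pi.smul_apply, smul_eq_mul]
        rw [hlev (j : ℕ) hjm w hw, haT]
        show β w - h w = β w - c z * CycAff.pt (tgt z) w - (h w - _)
        unfold CycAff.pt
        split_ifs with e1 <;> first | ring | exact absurd rfl e1
      · simp only [Pi.sub_apply, Set.indicator_of_notMem hw, Pi.smul_apply, smul_eq_mul]
        rw [CycAff.pt_ne (fun e : w = tgt z => hw (by rw [e]; exact (C z).p_pt _ _)), mul_zero]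
        ring
    rw [e]
    exact sub_mem (hc z) h2
  choose ι hι ξ g h1 h2 h3 h4 using fun z => exists_list_fibDiv S.dimP (hfibre z)
  have hW : ∀ W : X.Opens, IsAffineOpen W → {i : Σ z : T, ι z | p (ξ i.1 i.2) ∈ W}.Finite := fun W hW => by
    refine ((hTfin W hW).toFinset.sigma fun z => (@Finset.univ _ (hι z))).finite_toSet.subset fun i hi => ?_
    refine Finset.mem_coe.2 (Finset.mem_sigma.2 ⟨(hTfin W hW).mem_toFinset.2 ?_, @Finset.mem_univ _ (hι i.1) _⟩)
    show i.1.1 ∈ W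
    rw [← h3 i.1 i.2]
    exact hi
  have hloc : ∀ x : P, ∃ U : Set P, IsOpen U ∧ x ∈ U ∧
      {i : Σ z : T, ι z | (closure {ξ i.1 i.2} ∩ U).Nonempty}.Finite := fun x => by
    obtain ⟨W, hWa, hx, -⟩ := exists_isAffineOpen_mem_and_subset (x := p x) (U := ⊤) trivial
    exact ⟨p ⁻¹ᵁ W, (p ⁻¹ᵁ W).2, hx, (hW W hWa).subset fun i hi =>
      CycDiv.mem_of_closure_inter (p ⁻¹ᵁ W).2 hi⟩
  let F := CycPush.famCycle S.dimP (fun i : (Σ z : T, ι z) => g i.1 i.2) (fun i => h2 i.1 i.2) hloc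
  have hFk : F ∈ Cyc.Zk P δP (k + m) := CycPush.famCycle_mem_Zk S.dimP _ _ hloc fun i => h1 i.1 i.2
  have hF : RZ δP (k + m) ⇑F := RZ.of_ratEquivZero S.dimP
    ⟨_, fun i : (Σ z : T, ι z) => ξ i.1 i.2, fun i => g i.1 i.2, fun i => h1 i.1 i.2, fun i => h2 i.1 i.2, hloc,
      fun x => rfl⟩
  refine ⟨a, β - toCycle h (lf_c1Pow S.dimP S.inv ht (S.lf_pull a) _) - F, ha, fun y hy => ?_, fun y hy => ?_, ?_⟩
  · simp only [Function.locallyFinsuppWithin.coe_sub, Pi.sub_apply, coe_toCycle]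
    rw [hβ y hy, hFk y hy, show h y = 0 from by_contra fun e => hy (hh y e).1]
    ring
  · simp only [Function.locallyFinsuppWithin.coe_sub, Pi.sub_apply, coe_toCycle] at hy
    by_contra hlt
    push Not at hlt
    have hFy : F y = ∑ᶠ i : (Σ z : T, ι z), Cyc.divFun δP (ξ i.1 i.2) (g i.1 i.2) y := rfl
    have hsupp : ∀ i : (Σ z : T, ι z), Cyc.divFun δP (ξ i.1 i.2) (g i.1 i.2) y ≠ 0 → i.1.1 = p y := by
      intro i hi
      have hsp := (divFun_ne_zero hi).1.map p.continuous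
      rw [h3 i.1 i.2] at hsp
      by_contra hne
      have := (S.dimX _ _ hsp hne).1
      have := i.1.2.1
      omega
    by_cases hyT : δX (p y) = k + (j : ℕ) ∧ ∃ w, p w = p y ∧ β w ≠ 0
    · let z : T := ⟨p y, hyT⟩
      have e := h4 z y rfl
      rw [Set.indicator_of_mem (show y ∈ p ⁻¹' {z.1} from rfl)] at e
      rw [hFy, finsum_eq_sum_of_support_subset _
        (s := (@Finset.univ _ (hι z)).map ⟨fun i => (⟨z, i⟩ : Σ z : T, ι z), sigma_mk_injective⟩) ?_,
        Finset.sum_map] at hy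
      · exact hy (by simp only [Function.Embedding.coeFn_mk]; rw [e]; ring)
      · rintro ⟨z', i⟩ hi
        obtain rfl : z' = z := Subtype.ext (hsupp _ hi)
        simp
    · rw [hFy, finsum_eq_zero_of_forall_eq_zero fun i => by_contra fun hi => hyT (by
        rw [← hsupp i hi]; exact i.1.2), sub_zero] at hy
      have hb0 : β y = 0 := by_contra fun e => hyT ⟨le_antisymm (hb y e) hlt, y, rfl, e⟩
      rw [hb0, zero_sub, neg_ne_zero] at hy
      obtain ⟨-, b1, b2⟩ := hh y hy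
      exact hyT (ha0 _ (b2 (le_antisymm b1 hlt)))
  · refine hF.congr fun y => ?_
    simp only [Function.locallyFinsuppWithin.coe_sub, Pi.sub_apply, coe_toCycle, h]
    ring

/-- Every class is a combination of the powers of the tautological class. -/
theorem Setting.spans (S : Setting p L m δX δP) {k : ℤ}
    (t : Fin (m + 1) → ℕ → (ξ : P) → Cyc.secFibre L ξ) (ht : ∀ i n ξ, t i n ξ ≠ 0) {β : AlgebraicCycle P ℤ}
    (hβ : β ∈ Cyc.Zk P δP (k + m)) :
    ∃ α : Fin (m + 1) → AlgebraicCycle X ℤ, (∀ i : Fin (m + 1), α i ∈ Cyc.Zk X δX (k + ((i : ℕ) : ℤ))) ∧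
      RZ δP (k + m) (fun y => β y -
        ∑ i : Fin (m + 1), Cyc.c1PowFun δP L (t i) (i : ℕ) (Cyc.pullFun p δP δX m ⇑(α i)) y) := by
  classical
  have hmk : ∀ y, β y ≠ 0 → δP y = k + m := fun y hy => by_contra fun h => hy (hβ y h)
  have hzero : ∀ (i : Fin (m + 1)) y,
      Cyc.c1PowFun δP L (t i) (i : ℕ) (Cyc.pullFun p δP δX m ⇑(0 : AlgebraicCycle X ℤ)) y = 0 := fun i y => by
    have h := c1Pow_pull_add S (ht i) 0 0 (i : ℕ) y
    rw [add_zero] at h
    omega
  suffices h : ∀ (d : ℕ), d ≤ m + 1 → ∀ β : AlgebraicCycle P ℤ, β ∈ Cyc.Zk P δP (k + m) →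
      (∀ y, β y ≠ 0 → δX (p y) < k + (d : ℤ)) → ∃ α : Fin (m + 1) → AlgebraicCycle X ℤ,
        (∀ i : Fin (m + 1), α i ∈ Cyc.Zk X δX (k + ((i : ℕ) : ℤ))) ∧ RZ δP (k + m) (fun y => β y -
          ∑ i : Fin (m + 1), Cyc.c1PowFun δP L (t i) (i : ℕ) (Cyc.pullFun p δP δX m ⇑(α i)) y) by
    refine h (m + 1) le_rfl β hβ fun y hy => ?_
    obtain ⟨n, -, hn⟩ := S.compat y
    have := hmk y hy
    push_cast
    omega
  intro d
  induction d with
  | zero =>
    intro _ β hβ hb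
    refine ⟨0, fun i x _ => rfl, (RZ.zero S.dimP _).congr fun y => ?_⟩
    have h0 : β y = 0 := by
      by_contra e
      obtain ⟨C⟩ := S.charts (p y)
      have hs := C.pt_specializes S.inv ∅ (Finset.notMem_empty 0) (y := y) rfl fun j hj =>
        absurd hj (Finset.notMem_empty j)
      have hd := C.delta_pt S.compat S.dimP S.inv ∅ (Finset.notMem_empty (0 : Fin (m + 1)))
      have hle := CycBasic.delta_le S.dimP hs
      have := hb y e
      have h2 : δP y = k + m := by_contra fun h => e (hβ y h)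
      rw [Finset.card_empty] at hd
      push_cast at this hd
      omega
    rw [Pi.zero_apply, h0, Finset.sum_eq_zero fun i _ => ?_]
    · ring
    · exact hzero i y
  | succ d ih =>
    intro hd β hβ hb
    obtain ⟨a, β', ha, hβ', hb', hR⟩ := S.spans_step (j := ⟨d, by omega⟩) (ht ⟨d, by omega⟩) hβ fun y hy => by
      have := hb y hy
      push_cast at this ⊢
      omega
    obtain ⟨α, hα, hR'⟩ := ih (by omega) β' hβ' fun y hy => by simpa using hb' y hy
    let j : Fin (m + 1) := ⟨d, by omega⟩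
    refine ⟨fun i => α i + if i = j then a else 0, fun i x hx => ?_, (hR.add S.dimP hR').congr fun y => ?_⟩
    · show (α i + if i = j then a else 0) x = 0
      rw [Function.locallyFinsuppWithin.coe_add, Pi.add_apply, hα i x hx]
      split_ifs with e
      · subst e; rw [ha x hx, add_zero]
      · rfl
    · simp only [Pi.add_apply, c1Pow_pull_add S (ht _), Finset.sum_add_distrib]
      rw [Finset.sum_eq_single_of_mem (f := fun i : Fin (m + 1) => Cyc.c1PowFun δP L (t i) (i : ℕ)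
        (Cyc.pullFun p δP δX m ⇑(if i = j then a else 0)) y) j (Finset.mem_univ _) fun i _ hi => by
          rw [if_neg hi, hzero], if_pos rfl]
      simp only [j]
      ring

end GrothLib.PBDeg
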