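import Groth.Agent.Lib.PBDeg17.SymPoints
import Groth.Agent.Lib.PBDeg17.Filt
import Groth.Agent.Lib.FibTriv28.IsoLocus

/-!
# A vector bundle as an open subscheme of the projective completion
-/

set_option autoImplicit false
set_option backward.isDefEq.respectTransparency false
set_option linter.style.haveILetI false

universe u

open CategoryTheory CategoryTheory.Limits AlgebraicGeometry Opposite
open GrothLib.C1

noncomputable section

namespace GrothLib.PBDeg

variable {X : Scheme.{u}}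

theorem rk_of_isInvertible {L : X.Modules} (hL : PicF.IsInvertible L) (x : X) : FibTriv28.rk L x = 1 := by
  obtain ⟨t, ht⟩ := exists_gen hL x
  exact ((LinearEquiv.ofBijective (LinearMap.toSpanSingleton (X.presheaf.stalk x) (L.presheaf.stalk x) t) ht).finrank_eq).symm.trans
    (Module.finrank_self _)

instance instIsIsoUnitI {T : Scheme.{u}} (g : T ⟶ X) : IsIso (unitI g) := isIso_unitI g

theorem pullGerm_stalkLin {M N : X.Modules} {T : Scheme.{u}} (g : T ⟶ X) (a : M ⟶ N) (y : T)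
    (v : M.presheaf.stalk (g y)) :
    QCoh.stalkLin ((Scheme.Modules.pullback g).map a) y (pullGerm g M y v) =
      pullGerm g N y (QCoh.stalkLin a (g y) v) := by
  obtain ⟨W, hW, m, rfl⟩ := TopCat.Presheaf.exists_germ_eq M.presheaf v
  erw [pullGerm_germ, QCoh.stalkLin_germ, QCoh.stalkLin_germ, pullGerm_germ]
  congr 1
  exact (congrArg (fun φ : M ⟶ (Scheme.Modules.pushforward g).obj ((Scheme.Modules.pullback g).obj N) => φ.app W m)
    ((Scheme.Modules.pullbackPushforwardAdjunction g).unit.naturality a)).symm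

/-- The open locus where a map of invertible modules is bijective. -/
theorem isOpen_isIso_stalk {F L : X.Modules} (hF : PicF.IsInvertible F) (hL : PicF.IsInvertible L) (φ : F ⟶ L) :
    IsOpen {y : X | IsIso ((OX.stalk y).map φ)} := by
  refine isOpen_iff_forall_mem_open.2 fun x hx => ?_
  obtain ⟨U, g, -, hxU, h⟩ := FibTriv28.exists_basicOpen_isIso_stalk
    (FinCov.isFinLocFree_of_rank (rankOne_iff.2 hF)) (FinCov.isFinLocFree_of_rank (rankOne_iff.2 hL))
    (fun y => by rw [rk_of_isInvertible hF, rk_of_isInvertible hL]) φ x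
  exact ⟨(U : Set X) ∩ X.basicOpen g, fun y hy => (h y hy.1).2 hy.2, U.2.inter (X.basicOpen g).2,
    hxU, (h x hxU).1 hx⟩

theorem quotAlong_map {M N : X.Modules} (a : M ⟶ N) {T T' : Scheme.{u}} {g : T ⟶ X} {g' : T' ⟶ X} {L : T.Modules}
    (t : (Scheme.Modules.pullback g).obj N ⟶ L) (x : T' ⟶ T) (hx : x ≫ g = g') :
    quotAlong M ((Scheme.Modules.pullback g).map a ≫ t) x hx =
      (Scheme.Modules.pullback g').map a ≫ quotAlong N t x hx := by
  subst hx
  have h : quotAlong M ((Scheme.Modules.pullback g).map a) x rfl =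
      (Scheme.Modules.pullback (x ≫ g)).map a ≫ (Scheme.Modules.pullbackComp x g).inv.app N := by
    rw [(Scheme.Modules.pullbackComp x g).inv.naturality a]
    simp [quotAlong, Scheme.Modules.pullbackCongr]
  rw [quotAlong_whisker, h]
  simp [quotAlong, Scheme.Modules.pullbackCongr]

theorem hom_ext_biprod {M N : X.Modules} {T : Scheme.{u}} {g : T ⟶ X} {L : T.Modules}
    {t t' : (Scheme.Modules.pullback g).obj (M ⊞ N) ⟶ L}
    (h₁ : (Scheme.Modules.pullback g).map biprod.inl ≫ t = (Scheme.Modules.pullback g).map biprod.inl ≫ t')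
    (h₂ : (Scheme.Modules.pullback g).map biprod.inr ≫ t = (Scheme.Modules.pullback g).map biprod.inr ≫ t') :
    t = t' := by
  rw [← Category.id_comp t, ← Category.id_comp t', ← (Scheme.Modules.pullback g).map_id, ← biprod.total,
    Functor.map_add, Functor.map_comp, Functor.map_comp, Preadditive.add_comp, Preadditive.add_comp]
  simp only [Category.assoc, h₁, h₂]

/-- Where a rank one piece does not die in the quotient it maps isomorphically onto it. -/
theorem isIso_stalk_of_notMem_vanLocus {P : Scheme.{u}} {π : P ⟶ X} {E M : X.Modules} (hM : PicF.IsInvertible M)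
    {O : P.Modules} (hO : PicF.IsInvertible O) (q : (Scheme.Modules.pullback π).obj E ⟶ O) (c : M ⟶ E) {y : P}
    (hy : y ∉ vanLocus q c) : IsIso ((OX.stalk y).map ((Scheme.Modules.pullback π).map c ≫ q)) := by
  have hF : PicF.IsInvertible ((Scheme.Modules.pullback π).obj M) := C1.isInvertible_pullback π hM
  obtain ⟨v, hv⟩ : ∃ v, cls (toQuot q c y v) ≠ (0 : Cyc.secFibre O y) := not_forall.1 hy
  have hg := gen_of_cls_ne_zero hO hv
  rw [toQuot_apply] at hg
  let q₀ := (Scheme.Modules.pullback π).map c ≫ q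
  have hcomp : ∀ w, QCoh.stalkLin q₀ y w = QCoh.stalkLin q y (QCoh.stalkLin ((Scheme.Modules.pullback π).map c) y w) :=
    fun w => QCoh.stalkLin_comp _ q y w
  have hsurj : Function.Surjective (QCoh.stalkLin q₀ y) := fun z => by
    obtain ⟨b, hb⟩ := hg.2 z
    refine ⟨b • pullGerm π _ y v, ?_⟩
    rw [map_smul, hcomp, pullGerm_stalkLin]
    exact hb
  obtain ⟨g₀, hg₀⟩ := exists_gen hF y
  obtain ⟨b, hb⟩ := exists_gen hO y
  refine (ConcreteCategory.isIso_iff_bijective _).2 ⟨?_, hsurj⟩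
  intro w₁ w₂ h12
  obtain ⟨c₁, rfl⟩ := hg₀.2 w₁
  obtain ⟨c₂, rfl⟩ := hg₀.2 w₂
  obtain ⟨w₀, hw₀⟩ := hsurj b
  obtain ⟨c₀, rfl⟩ := hg₀.2 w₀
  obtain ⟨d, hd⟩ := hb.2 (QCoh.stalkLin q₀ y g₀)
  dsimp only at hw₀ hd ⊢
  have h12' : QCoh.stalkLin q₀ y (c₁ • g₀) = QCoh.stalkLin q₀ y (c₂ • g₀) := h12
  rw [map_smul, ← hd] at hw₀
  rw [map_smul, map_smul, ← hd, ← mul_smul, ← mul_smul] at h12'
  rw [← mul_smul] at hw₀
  have hu : c₀ * d = 1 := hb.1 (hw₀.trans (one_smul _ b).symm)
  rw [(IsUnit.of_mul_eq_one_right c₀ hu).mul_right_cancel (hb.1 h12')]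

/-- The spectrum of the symmetric algebra of `ℰ` is an open subscheme of `P(ℰ ⊕ O)`, and contains every point at
which the last coordinate does not vanish. -/
theorem exists_openImm_projBundle [IsLocallyNoetherian X] {ℰ : X.Modules} {A : RelSpec.QCAlg X} {j : ℰ ⟶ A.toModule}
    (hA : RelSpec.IsSymAlg ℰ A j) {P : Scheme.{u}} [IsLocallyNoetherian P] {π : P ⟶ X} [QuasiCompact π]
    [QuasiSeparated π] {O1 : P.Modules} {q : (Scheme.Modules.pullback π).obj (ℰ ⊞ Coh.structureModule X) ⟶ O1}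
    (hP : KRR.IsProjBundle π (ℰ ⊞ Coh.structureModule X) O1 q) :
    ∃ (ψ : A.spec ⟶ P) (_ : IsOpenImmersion ψ), ψ ≫ π = A.π ∧
      ∀ y, y ∉ Set.range ψ → ¬ IsIso ((OX.stalk y).map
        ((Scheme.Modules.pullback π).map (biprod.inr : Coh.structureModule X ⟶ ℰ ⊞ Coh.structureModule X) ≫ q)) := by
  classical
  obtain ⟨τ, hτ⟩ := exists_taut hA
  haveI := hP.epi
  -- the quotient on the vector bundle
  let s₁ : (Scheme.Modules.pullback A.π).obj (ℰ ⊞ Coh.structureModule X) ⟶ Coh.structureModule A.spec :=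
    (Scheme.Modules.pullback A.π).map biprod.fst ≫ τ + (Scheme.Modules.pullback A.π).map biprod.snd ≫ unitI A.π
  have hs1 : (Scheme.Modules.pullback A.π).map biprod.inl ≫ s₁ = τ := by
    simp [s₁, Preadditive.comp_add, ← Functor.map_comp_assoc]
  have hs2 : (Scheme.Modules.pullback A.π).map biprod.inr ≫ s₁ = unitI A.π := by
    simp [s₁, Preadditive.comp_add, ← Functor.map_comp_assoc]
  haveI : Epi s₁ := by
    haveI : Epi ((Scheme.Modules.pullback A.π).map biprod.inr ≫ s₁) := by rw [hs2]; infer_instance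
    exact epi_of_epi ((Scheme.Modules.pullback A.π).map biprod.inr) s₁
  have hOV : ∀ T : Scheme.{u}, PicF.IsInvertible (Coh.structureModule T) := fun T => ParaPair.isInvertible_structure T
  obtain ⟨ψ, ⟨hψ, e, he⟩, -⟩ := hP.univ A.spec A.π _ (rankOne_iff.2 (hOV _)) s₁ inferInstance
  have he' : quotAlong _ q ψ hψ ≫ e.hom = s₁ := by simpa [quotAlong] using he
  -- a point of the bundle is determined by the quotient it induces
  have key : ∀ {T : Scheme.{u}} {g : T ⟶ X} [QuasiCompact g] [QuasiSeparated g] (x : T ⟶ A.spec) (hx : x ≫ A.π = g)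
      (w : (x ≫ ψ) ≫ π = g), ∃ κ : (Scheme.Modules.pullback (x ≫ ψ)).obj O1 ≅
        (Scheme.Modules.pullback x).obj (Coh.structureModule A.spec),
        quotAlong _ q (x ≫ ψ) w ≫ κ.hom = quotAlong _ s₁ x hx := by
    intro T g _ _ x hx w
    refine ⟨((Scheme.Modules.pullbackComp x ψ).app O1).symm ≪≫ (Scheme.Modules.pullback x).mapIso e, ?_⟩
    rw [← he', quotAlong_whisker, ← quotAlong_comp _ q ψ x hψ hx w]
    simp
  have ext_pt : ∀ {T : Scheme.{u}} {g : T ⟶ X} [QuasiCompact g] [QuasiSeparated g] (x y : T ⟶ A.spec)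
      (hx : x ≫ A.π = g) (hy : y ≫ A.π = g)
      (k : (Scheme.Modules.pullback x).obj (Coh.structureModule A.spec) ≅
        (Scheme.Modules.pullback y).obj (Coh.structureModule A.spec)),
      quotAlong _ s₁ x hx ≫ k.hom = quotAlong _ s₁ y hy → x = y := by
    intro T g _ _ x y hx hy k hk
    have h2 := congrArg (fun t => (Scheme.Modules.pullback g).map biprod.inr ≫ t) hk
    have h1 := congrArg (fun t => (Scheme.Modules.pullback g).map biprod.inl ≫ t) hk
    simp only [← Category.assoc, ← quotAlong_map] at h1 h2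
    simp only [hs1] at h1
    simp only [hs2] at h2
    have hk' : k.hom ≫ unitI y = unitI x := by
      haveI : IsIso (quotAlong _ (unitI A.π) x hx) := by
        unfold quotAlong
        infer_instance
      rw [← cancel_epi (quotAlong _ (unitI A.π) x hx), ← Category.assoc, h2, unitI_comp, unitI_comp]
    exact (hτ T g (quotAlong ℰ τ x hx ≫ unitI x)).unique ⟨hx, rfl⟩ ⟨hy, by rw [← hk', ← Category.assoc, h1]⟩
  -- the open locus
  let q₀ : (Scheme.Modules.pullback π).obj (Coh.structureModule X) ⟶ O1 :=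
    (Scheme.Modules.pullback π).map biprod.inr ≫ q
  have hO1 : PicF.IsInvertible O1 := rankOne_iff.1 hP.invertible
  have hF : PicF.IsInvertible ((Scheme.Modules.pullback π).obj (Coh.structureModule X)) :=
    C1.isInvertible_pullback π (hOV X)
  let U : P.Opens := ⟨{y | IsIso ((OX.stalk y).map q₀)}, isOpen_isIso_stalk hF hO1 q₀⟩
  haveI hq0U : IsIso ((Scheme.Modules.pullback U.ι).map q₀) := by
    refine (OX.isIso_iff _).2 fun z => ?_
    haveI : IsIso ((OX.stalk (U.ι z)).map q₀) := z.2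
    exact (NatIso.isIso_map_iff (OX.pullStalkIso U.ι z) q₀).2
      (inferInstanceAs (IsIso ((ModuleCat.extendScalars (U.ι.stalkMap z).hom).map ((OX.stalk (U.ι z)).map q₀))))
  have hrange : ∀ v, ψ v ∈ U := fun v => by
    haveI : IsIso ((Scheme.Modules.pullback ψ).map q₀) := by
      have h : quotAlong _ q₀ ψ hψ ≫ e.hom = unitI A.π := by
        rw [show q₀ = (Scheme.Modules.pullback π).map biprod.inr ≫ q from rfl, quotAlong_map, Category.assoc, he',
          hs2]
      haveI : IsIso (quotAlong _ q₀ ψ hψ ≫ e.hom) := by rw [h]; infer_instance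
      haveI : IsIso (quotAlong _ q₀ ψ hψ) := IsIso.of_isIso_comp_right _ e.hom
      unfold quotAlong at this
      exact @IsIso.of_isIso_comp_left _ _ _ _ _
        ((Scheme.Modules.pullbackComp ψ π).inv.app (Coh.structureModule X)) _ _
        (@IsIso.of_isIso_comp_left _ _ _ _ _ ((Scheme.Modules.pullbackCongr hψ).inv.app (Coh.structureModule X)) _ _ this)
    exact FibTriv28.isIso_stalk_of_isIso_pullback' ψ (FinCov.isFinLocFree_of_rank (rankOne_iff.2 hF))
      (FinCov.isFinLocFree_of_rank hP.invertible) q₀ v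
  haveI : QuasiCompact (U.ι ≫ π) := inferInstance
  haveI : QuasiSeparated (U.ι ≫ π) := inferInstance
  let gU := U.ι ≫ π
  haveI hq0' : IsIso (quotAlong _ q₀ U.ι (rfl : U.ι ≫ π = gU)) := by
    unfold quotAlong
    infer_instance
  let u : (Scheme.Modules.pullback gU).obj ℰ ⟶ Coh.structureModule (U : Scheme.{u}) :=
    quotAlong _ ((Scheme.Modules.pullback π).map biprod.inl ≫ q) U.ι rfl ≫
      inv (quotAlong _ q₀ U.ι (rfl : U.ι ≫ π = gU)) ≫ unitI gU
  obtain ⟨φ, ⟨hφ, hφu⟩, -⟩ := hτ (U : Scheme.{u}) gU u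
  have hφψ : φ ≫ ψ = U.ι := by
    have w : (φ ≫ ψ) ≫ π = gU := by rw [Category.assoc, hψ, hφ]
    obtain ⟨κ, hκ⟩ := key φ hφ w
    let k : (Scheme.Modules.pullback φ).obj (Coh.structureModule A.spec) ≅ (Scheme.Modules.pullback U.ι).obj O1 :=
      asIso (unitI φ) ≪≫ (asIso (unitI gU)).symm ≪≫ asIso (quotAlong _ q₀ U.ι (rfl : U.ι ≫ π = gU))
    haveI : Epi (quotAlong _ q U.ι (rfl : U.ι ≫ π = gU)) := by
      unfold quotAlong
      haveI := (Scheme.Modules.pullbackPushforwardAdjunction U.ι).isLeftAdjoint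
      infer_instance
    have hk : quotAlong _ q (φ ≫ ψ) w ≫ (κ ≪≫ k).hom = quotAlong _ q U.ι (rfl : U.ι ≫ π = gU) := by
      rw [Iso.trans_hom, ← Category.assoc, hκ]
      apply hom_ext_biprod
      · rw [← Category.assoc, ← quotAlong_map, hs1, ← quotAlong_map]
        simp only [k, Iso.trans_hom, asIso_hom, Iso.symm_hom, asIso_inv, ← Category.assoc]
        rw [hφu]
        simp [u]
      · rw [← Category.assoc, ← quotAlong_map, hs2, ← quotAlong_map]
        simp only [k, Iso.trans_hom, asIso_hom, Iso.symm_hom, asIso_inv, ← Category.assoc]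
        rw [unitI_comp]
        simp [q₀]
    refine (hP.univ (U : Scheme.{u}) gU _ (rankOne_iff.2 (C1.isInvertible_pullback U.ι hO1))
      (quotAlong _ q U.ι (rfl : U.ι ≫ π = gU)) inferInstance).unique
      ⟨w, κ ≪≫ k, by simpa [quotAlong] using hk⟩ ⟨rfl, Iso.refl _, by simp [quotAlong]⟩
  let ψ' : A.spec ⟶ (U : Scheme.{u}) :=
    IsOpenImmersion.lift U.ι ψ (by rintro _ ⟨v, rfl⟩; rw [Scheme.Opens.range_ι]; exact hrange v)
  have hψ' : ψ' ≫ U.ι = ψ := IsOpenImmersion.lift_fac _ _ _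
  have h1 : φ ≫ ψ' = 𝟙 _ := by
    rw [← cancel_mono U.ι, Category.assoc, hψ', hφψ, Category.id_comp]
  have h2 : ψ' ≫ φ = 𝟙 _ := by
    have hg : (ψ' ≫ φ) ≫ A.π = A.π := by
      rw [Category.assoc, hφ]
      show ψ' ≫ U.ι ≫ π = A.π
      rw [← Category.assoc, hψ', hψ]
    have he2 : (ψ' ≫ φ) ≫ ψ = 𝟙 _ ≫ ψ := by rw [Category.assoc, hφψ, hψ', Category.id_comp]
    have gen : ∀ (a b : A.spec ⟶ A.spec) (ha : a ≫ A.π = A.π) (hb : b ≫ A.π = A.π), a ≫ ψ = b ≫ ψ → a = b := by
      intro a b ha hb hab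
      have wb : (b ≫ ψ) ≫ π = A.π := by rw [Category.assoc, hψ, hb]
      have tr : ∀ (r : A.spec ⟶ P) (er : r = b ≫ ψ) (wr : r ≫ π = A.π), ∃ i : (Scheme.Modules.pullback r).obj O1 ≅
          (Scheme.Modules.pullback (b ≫ ψ)).obj O1, quotAlong _ q r wr ≫ i.hom = quotAlong _ q (b ≫ ψ) wb := by
        rintro r rfl wr
        exact ⟨Iso.refl _, Category.comp_id _⟩
      obtain ⟨κa, hκa⟩ := key a ha (by rw [Category.assoc, hψ, ha])
      obtain ⟨κb, hκb⟩ := key b hb wb
      obtain ⟨i, hi⟩ := tr (a ≫ ψ) hab (by rw [Category.assoc, hψ, ha])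
      refine ext_pt a b ha hb (κa.symm ≪≫ i ≪≫ κb) ?_
      rw [← hκa]
      simp [reassoc_of% hi, hκb]
    exact gen _ _ hg (Category.id_comp _) he2
  haveI : IsIso ψ' := ⟨φ, h2, h1⟩
  refine ⟨ψ, hψ' ▸ inferInstance, hψ, fun y hy hiso => hy ⟨φ ⟨y, hiso⟩, ?_⟩⟩
  rw [← Scheme.Hom.comp_apply, hφψ]
  rfl

end GrothLib.PBDeg
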