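import Groth.Agent.Lib.PBDeg17.OfUniv
import Groth.Agent.Lib.RLpsi8.VBBiprod
import Groth.Agent.Lib.VA.VeryAmple
import Mathlib.Algebra.Category.ModuleCat.Sheaf.PullbackFree
import Mathlib.AlgebraicGeometry.Modules.Tilde

/-!
# Functor of points of the spectrum of a symmetric algebra, and quotients of the structure sheaf
-/

set_option autoImplicit false
set_option backward.isDefEq.respectTransparency false
set_option linter.style.haveILetI false

universe u

open CategoryTheory CategoryTheory.Limits AlgebraicGeometry Opposite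

noncomputable section

namespace GrothLib.PBDeg

variable {X : Scheme.{u}}

/-- The map `O_X ⟶ g_* O_T`. -/
def cMap {T : Scheme.{u}} (g : T ⟶ X) :
    Coh.structureModule X ⟶ (Scheme.Modules.pushforward g).obj (Coh.structureModule T) :=
  SheafOfModules.unitToPushforwardObjUnit g.toRingCatSheafHom

theorem cMap_app {T : Scheme.{u}} (g : T ⟶ X) (U : X.Opens) (a : Γ(Coh.structureModule X, U)) :
    (cMap g).app U a = (g.app U) a := rfl

/-- The map `g^* O_X ⟶ O_T`. -/
def unitI {T : Scheme.{u}} (g : T ⟶ X) :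
    (Scheme.Modules.pullback g).obj (Coh.structureModule X) ⟶ Coh.structureModule T :=
  ((Scheme.Modules.pullbackPushforwardAdjunction g).homEquiv _ _).symm (cMap g)

theorem isIso_unitI {T : Scheme.{u}} (g : T ⟶ X) : IsIso (unitI g) := by
  show IsIso (SheafOfModules.pullbackObjUnitToUnit g.toRingCatSheafHom)
  infer_instance

theorem homEquiv_unitI {T : Scheme.{u}} (g : T ⟶ X) :
    (Scheme.Modules.pullbackPushforwardAdjunction g).homEquiv _ _ (unitI g) = cMap g :=
  Equiv.apply_symm_apply _ _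

/-- The adjunct of a quotient pulled back along a morphism over the base. -/
theorem homEquiv_quotAlong {M : X.Modules} {T T' : Scheme.{u}} {g : T ⟶ X} {g' : T' ⟶ X} {N : T.Modules}
    (t : (Scheme.Modules.pullback g).obj M ⟶ N) (x : T' ⟶ T) (hx : x ≫ g = g') {L : T'.Modules}
    (k : (Scheme.Modules.pullback x).obj N ⟶ L) :
    (Scheme.Modules.pullbackPushforwardAdjunction g').homEquiv M L (quotAlong M t x hx ≫ k) =
      (Scheme.Modules.pullbackPushforwardAdjunction g).homEquiv M N t ≫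
        (Scheme.Modules.pushforward g).map ((Scheme.Modules.pullbackPushforwardAdjunction x).homEquiv N L k) ≫
          (Scheme.Modules.pushforwardComp x g).hom.app L ≫ (Scheme.Modules.pushforwardCongr hx).hom.app L := by
  subst hx
  have hc : quotAlong M t x rfl ≫ k =
      (Scheme.Modules.pullbackComp x g).inv.app M ≫ ((Scheme.Modules.pullback x).map t ≫ k) := by
    simp [quotAlong, Scheme.Modules.pullbackCongr]
  rw [hc, VA.homEquiv_pullbackComp, Adjunction.homEquiv_naturality_left, Adjunction.homEquiv_naturality_right,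
    Category.assoc]
  congr 2
  refine ((Category.comp_id _).symm.trans (congrArg (_ ≫ ·) ?_))
  refine Scheme.Modules.hom_ext _ _ fun U => ?_
  rw [Scheme.Modules.pushforwardCongr_hom_app_app]
  exact (L.presheaf.map_id _).symm

/-- Applying a pulled back quotient to a section. -/
theorem homEquiv_quotAlong_app {M : X.Modules} {T T' : Scheme.{u}} {g : T ⟶ X} {g' : T' ⟶ X} {N : T.Modules}
    (t : (Scheme.Modules.pullback g).obj M ⟶ N) (x : T' ⟶ T) (hx : x ≫ g = g') {L : T'.Modules}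
    (k : (Scheme.Modules.pullback x).obj N ⟶ L) (U : X.Opens) (e : Γ(M, U)) :
    ((Scheme.Modules.pullbackPushforwardAdjunction g').homEquiv M L (quotAlong M t x hx ≫ k)).app U e =
      L.presheaf.map (eqToHom (show g' ⁻¹ᵁ U = (x ≫ g) ⁻¹ᵁ U by rw [hx])).op
        (((Scheme.Modules.pullbackPushforwardAdjunction x).homEquiv N L k).app (g ⁻¹ᵁ U)
          (((Scheme.Modules.pullbackPushforwardAdjunction g).homEquiv M N t).app U e)) := by
  rw [homEquiv_quotAlong]
  rfl

theorem map_app_app {T T' : Scheme.{u}} (g : T ⟶ X) (x : T' ⟶ T) {g' : T' ⟶ X} (hx : x ≫ g = g') (U : X.Opens) :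
    g.app U ≫ x.app (g ⁻¹ᵁ U) ≫
      T'.presheaf.map (eqToHom (show g' ⁻¹ᵁ U = (x ≫ g) ⁻¹ᵁ U by rw [hx])).op = g'.app U := by
  subst hx
  simp

theorem map_app_app_apply {T T' : Scheme.{u}} (g : T ⟶ X) (x : T' ⟶ T) {g' : T' ⟶ X} (hx : x ≫ g = g') (U : X.Opens)
    (a : Γ(X, U)) :
    (T'.presheaf.map (eqToHom (show g' ⁻¹ᵁ U = (x ≫ g) ⁻¹ᵁ U by rw [hx])).op).hom
      ((x.app (g ⁻¹ᵁ U)).hom ((g.app U).hom a)) = (g'.app U).hom a :=
  congrArg (fun (φ : Γ(X, U) ⟶ Γ(T', g' ⁻¹ᵁ U)) => φ.hom a) (map_app_app g x hx U)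

theorem unitI_comp {T T' : Scheme.{u}} (g : T ⟶ X) {g' : T' ⟶ X} (x : T' ⟶ T) (hx : x ≫ g = g') :
    quotAlong _ (unitI g) x hx ≫ unitI x = unitI g' := by
  refine ((Scheme.Modules.pullbackPushforwardAdjunction g').homEquiv _ _).injective ?_
  rw [homEquiv_unitI]
  refine Scheme.Modules.hom_ext _ _ fun U => ConcreteCategory.hom_ext _ _ fun a => ?_
  rw [homEquiv_quotAlong_app, homEquiv_unitI, homEquiv_unitI]
  exact map_app_app_apply g x hx U a

section Theta

variable {ℰ : X.Modules}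

/-- The direct image of the structure sheaf as the direct image algebra. -/
def pushToDI {T : Scheme.{u}} (g : T ⟶ X) [QuasiCompact g] [QuasiSeparated g] :
    (Scheme.Modules.pushforward g).obj (Coh.structureModule T) ≅ (RelSpec.QCAlg.directImage g).toModule where
  hom := ⟨PresheafOfModules.homMk { app := fun U => AddCommGrpCat.ofHom (AddMonoidHom.id _) }
    fun U r m => rfl⟩
  inv := ⟨PresheafOfModules.homMk { app := fun U => AddCommGrpCat.ofHom (AddMonoidHom.id _) }
    fun U r m => rfl⟩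

/-- Linear forms on `g^* ℰ` are maps to the direct image algebra. -/
def theta {T : Scheme.{u}} (g : T ⟶ X) [QuasiCompact g] [QuasiSeparated g] :
    ((Scheme.Modules.pullback g).obj ℰ ⟶ Coh.structureModule T) ≃ (ℰ ⟶ (RelSpec.QCAlg.directImage g).toModule) :=
  ((Scheme.Modules.pullbackPushforwardAdjunction g).homEquiv _ _).trans (pushToDI g).homToEquiv

theorem theta_app {T : Scheme.{u}} (g : T ⟶ X) [QuasiCompact g] [QuasiSeparated g]
    (t : (Scheme.Modules.pullback g).obj ℰ ⟶ Coh.structureModule T) (U : X.Opens) (e : Γ(ℰ, U)) :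
    (theta g t).app U e = ((Scheme.Modules.pullbackPushforwardAdjunction g).homEquiv _ _ t).app U e := rfl

theorem theta_comp {T T' : Scheme.{u}} (g : T ⟶ X) [QuasiCompact g] [QuasiSeparated g] (g' : T' ⟶ X)
    [QuasiCompact g'] [QuasiSeparated g'] (x : T' ⟶ T) (hx : x ≫ g = g')
    (t : (Scheme.Modules.pullback g).obj ℰ ⟶ Coh.structureModule T) :
    theta g' (quotAlong ℰ t x hx ≫ unitI x) =
      theta g t ≫ RelSpec.QCAlg.Hom.toModuleMap (RLpsi8.diMap g g' x hx) := by
  refine Scheme.Modules.hom_ext _ _ fun U => ConcreteCategory.hom_ext _ _ fun e => ?_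
  rw [theta_app, homEquiv_quotAlong_app, homEquiv_unitI]
  have h : (AffAlg.algHom g g' x hx).app (op U) = x.app (g ⁻¹ᵁ U) ≫
      T'.presheaf.map (eqToHom (show g' ⁻¹ᵁ U = (x ≫ g) ⁻¹ᵁ U by rw [hx])).op := by
    rw [AffAlg8.algHom_app]
    rfl
  exact (congrArg (fun φ => φ.hom ((theta g t).app U e)) h).symm

theorem isIso_gammaHom (A : RelSpec.QCAlg X) : IsIso A.gammaHom := by
  haveI := RLpsi8.isIso_gammaMap A
  refine ⟨⟨inv A.gammaMap, by rw [IsIso.comp_inv_eq]; exact A.π_c_gammaMap.symm⟩, ?_, ?_⟩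
  · exact RelSpec.QCAlg.hom_ext (IsIso.hom_inv_id A.gammaMap)
  · exact RelSpec.QCAlg.hom_ext (IsIso.inv_hom_id A.gammaMap)

instance instIsIsoGammaHom (A : RelSpec.QCAlg X) : IsIso A.gammaHom := isIso_gammaHom A

theorem toModuleMap_comp {P Q R : RelSpec.QCAlg X} (f : P ⟶ Q) (g : Q ⟶ R) :
    RelSpec.QCAlg.Hom.toModuleMap (f ≫ g) =
      RelSpec.QCAlg.Hom.toModuleMap f ≫ RelSpec.QCAlg.Hom.toModuleMap g :=
  GrothLib.RelSpec.modHom_ext fun _ _ _ => rfl

/-- The tautological linear form on the spectrum of an algebra generated through `j`. -/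
def tautForm (A : RelSpec.QCAlg X) (j : ℰ ⟶ A.toModule) :
    (Scheme.Modules.pullback A.π).obj ℰ ⟶ Coh.structureModule A.spec :=
  (theta A.π).symm (j ≫ RelSpec.QCAlg.Hom.toModuleMap (inv A.gammaHom))

theorem theta_tautForm (A : RelSpec.QCAlg X) (j : ℰ ⟶ A.toModule) :
    theta A.π (tautForm A j) = j ≫ RelSpec.QCAlg.Hom.toModuleMap (inv A.gammaHom) :=
  Equiv.apply_symm_apply _ _

theorem tautForm_spec {A : RelSpec.QCAlg X} {j : ℰ ⟶ A.toModule} (hA : RelSpec.IsSymAlg ℰ A j) (T : Scheme.{u})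
    (g : T ⟶ X) [QuasiCompact g] [QuasiSeparated g]
    (t : (Scheme.Modules.pullback g).obj ℰ ⟶ Coh.structureModule T) :
    ∃! x : T ⟶ A.spec, ∃ hx : x ≫ A.π = g, quotAlong ℰ (tautForm A j) x hx ≫ unitI x = t := by
  obtain ⟨ψ, hψ, huniq⟩ := hA (RelSpec.QCAlg.directImage g) (theta g t)
  obtain ⟨x, wx, hx⟩ := GrothLib.AffAlg8.exists_hom A.π g (A.gammaMap ≫ ψ.hom) (by
    rw [← Category.assoc, RelSpec.QCAlg.π_c_gammaMap]; exact ψ.comm)
  have hdi : RLpsi8.diMap A.π g x wx = A.gammaHom ≫ ψ := RelSpec.QCAlg.hom_ext hx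
  refine ⟨x, ⟨wx, (theta g).injective ?_⟩, fun y ⟨hy, e⟩ => ?_⟩
  · rw [theta_comp, theta_tautForm, Category.assoc, ← toModuleMap_comp, hdi, IsIso.inv_hom_id_assoc, hψ]
  · refine RLpsi8.diMap_injective A.π g hy wx ?_
    have h1 := congrArg (theta g) e
    rw [theta_comp, theta_tautForm, Category.assoc, ← toModuleMap_comp] at h1
    have h2 := huniq _ h1
    rw [hdi, ← h2, IsIso.hom_inv_id_assoc]

/-- The functor of points: morphisms to the spectrum of a symmetric algebra are linear forms. -/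
theorem exists_taut {A : RelSpec.QCAlg X} {j : ℰ ⟶ A.toModule} (hA : RelSpec.IsSymAlg ℰ A j) :
    ∃ τ : (Scheme.Modules.pullback A.π).obj ℰ ⟶ Coh.structureModule A.spec,
      ∀ (T : Scheme.{u}) (g : T ⟶ X) [QuasiCompact g] [QuasiSeparated g]
        (t : (Scheme.Modules.pullback g).obj ℰ ⟶ Coh.structureModule T),
        ∃! x : T ⟶ A.spec, ∃ hx : x ≫ A.π = g, quotAlong ℰ τ x hx ≫ unitI x = t :=
  ⟨tautForm A j, fun T g _ _ t => tautForm_spec hA T g t⟩

end Theta

end GrothLib.PBDeg
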