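import Groth.Agent.Lib.PBDeg17.SymOpen

/-!
# Open pieces of projective bundles cut out by a normalised coordinate
-/

set_option autoImplicit false
set_option backward.isDefEq.respectTransparency false
set_option linter.style.haveILetI false

universe u

open CategoryTheory CategoryTheory.Limits AlgebraicGeometry Opposite
open GrothLib.C1

noncomputable section

namespace GrothLib.PBDeg

variable {X : Scheme.{u}}

/-- A linear form pulled back along a morphism over the base. -/
def formAlong {M : X.Modules} {T T' : Scheme.{u}} {g : T ⟶ X} {g' : T' ⟶ X}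
    (t : (Scheme.Modules.pullback g).obj M ⟶ Coh.structureModule T) (x : T' ⟶ T) (hx : x ≫ g = g') :
    (Scheme.Modules.pullback g').obj M ⟶ Coh.structureModule T' :=
  quotAlong M t x hx ≫ unitI x

theorem formAlong_congr {M : X.Modules} {T T' : Scheme.{u}} {g : T ⟶ X} {g' : T' ⟶ X}
    (t : (Scheme.Modules.pullback g).obj M ⟶ Coh.structureModule T) {x y : T' ⟶ T} (h : x = y) (hx : x ≫ g = g')
    (hy : y ≫ g = g') : formAlong t x hx = formAlong t y hy := by
  subst h; rfl

theorem formAlong_map {M N : X.Modules} (a : M ⟶ N) {T T' : Scheme.{u}} {g : T ⟶ X} {g' : T' ⟶ X}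
    (t : (Scheme.Modules.pullback g).obj N ⟶ Coh.structureModule T) (x : T' ⟶ T) (hx : x ≫ g = g') :
    formAlong ((Scheme.Modules.pullback g).map a ≫ t) x hx =
      (Scheme.Modules.pullback g').map a ≫ formAlong t x hx := by
  rw [formAlong, quotAlong_map, Category.assoc]
  rfl

theorem formAlong_comp {M : X.Modules} {T T' T'' : Scheme.{u}} {g : T ⟶ X} {g' : T' ⟶ X} {g'' : T'' ⟶ X}
    [QuasiCompact g] [QuasiSeparated g] [QuasiCompact g'] [QuasiSeparated g'] [QuasiCompact g''] [QuasiSeparated g'']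
    (t : (Scheme.Modules.pullback g).obj M ⟶ Coh.structureModule T) (x : T' ⟶ T) (hx : x ≫ g = g')
    (y : T'' ⟶ T') (hy : y ≫ g' = g'') :
    formAlong (formAlong t x hx) y hy = formAlong t (y ≫ x) (by rw [Category.assoc, hx, hy]) := by
  refine (theta g'').injective ?_
  simp only [formAlong]
  rw [theta_comp g' g'' y hy, theta_comp g g' x hx, theta_comp g g'' (y ≫ x) (by rw [Category.assoc, hx, hy]),
    Category.assoc, ← toModuleMap_comp, RLpsi8.diMap_comp_eq]

/-- A scheme whose points are the linear forms on `E` normalised on a rank one piece is an open subscheme of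
`P(E)`, containing every point at which that piece survives. -/
theorem exists_openImm_of_points [IsLocallyNoetherian X] {E : X.Modules} (i : Coh.structureModule X ⟶ E)
    {B : Scheme.{u}} (φB : B ⟶ X) [QuasiCompact φB] [QuasiSeparated φB]
    (τ : (Scheme.Modules.pullback φB).obj E ⟶ Coh.structureModule B)
    (W : ∀ {T : Scheme.{u}} (g : T ⟶ X), (Scheme.Modules.pullback g).obj (Coh.structureModule X) ⟶ Coh.structureModule T)
    (hWiso : ∀ {T : Scheme.{u}} (g : T ⟶ X), IsIso (W g))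
    (hW : ∀ {T : Scheme.{u}} (g : T ⟶ X) [QuasiCompact g] [QuasiSeparated g] (x : T ⟶ B) (hx : x ≫ φB = g),
      formAlong (W φB) x hx = W g)
    (hτi : (Scheme.Modules.pullback φB).map i ≫ τ = W φB)
    (hτ : ∀ (T : Scheme.{u}) (g : T ⟶ X) [QuasiCompact g] [QuasiSeparated g]
        (t : (Scheme.Modules.pullback g).obj E ⟶ Coh.structureModule T),
        (Scheme.Modules.pullback g).map i ≫ t = W g →
          ∃! x : T ⟶ B, ∃ hx : x ≫ φB = g, formAlong τ x hx = t)
    {P : Scheme.{u}} [IsLocallyNoetherian P] {π : P ⟶ X} [QuasiCompact π] [QuasiSeparated π] {O1 : P.Modules}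
    {q : (Scheme.Modules.pullback π).obj E ⟶ O1} (hP : KRR.IsProjBundle π E O1 q) :
    ∃ (ψ : B ⟶ P) (_ : IsOpenImmersion ψ), ψ ≫ π = φB ∧
      ∀ y, y ∉ Set.range ψ → ¬ IsIso ((OX.stalk y).map ((Scheme.Modules.pullback π).map i ≫ q)) := by
  classical
  haveI : ∀ {T : Scheme.{u}} (g : T ⟶ X), IsIso (W g) := hWiso
  haveI := hP.epi
  haveI : Epi τ := by
    haveI : Epi ((Scheme.Modules.pullback φB).map i ≫ τ) := by rw [hτi]; infer_instance
    exact epi_of_epi ((Scheme.Modules.pullback φB).map i) τ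
  have hOV : ∀ T : Scheme.{u}, PicF.IsInvertible (Coh.structureModule T) := fun T => ParaPair.isInvertible_structure T
  obtain ⟨ψ, ⟨hψ, e, he⟩, -⟩ := hP.univ B φB _ (rankOne_iff.2 (hOV _)) τ inferInstance
  have he' : quotAlong _ q ψ hψ ≫ e.hom = τ := by simpa [quotAlong] using he
  -- a point is determined by the quotient it induces
  have key : ∀ {T : Scheme.{u}} {g : T ⟶ X} [QuasiCompact g] [QuasiSeparated g] (x : T ⟶ B) (hx : x ≫ φB = g)
      (w : (x ≫ ψ) ≫ π = g), ∃ κ : (Scheme.Modules.pullback (x ≫ ψ)).obj O1 ≅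
        (Scheme.Modules.pullback x).obj (Coh.structureModule B),
        quotAlong _ q (x ≫ ψ) w ≫ κ.hom = quotAlong _ τ x hx := by
    intro T g _ _ x hx w
    refine ⟨((Scheme.Modules.pullbackComp x ψ).app O1).symm ≪≫ (Scheme.Modules.pullback x).mapIso e, ?_⟩
    rw [← he', quotAlong_whisker, ← quotAlong_comp _ q ψ x hψ hx w]
    simp
  have hτx : ∀ {T : Scheme.{u}} {g : T ⟶ X} [QuasiCompact g] [QuasiSeparated g] (x : T ⟶ B) (hx : x ≫ φB = g),
      (Scheme.Modules.pullback g).map i ≫ formAlong τ x hx = W g := fun x hx => by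
    rw [← formAlong_map, hτi, hW]
  have ext_pt : ∀ {T : Scheme.{u}} {g : T ⟶ X} [QuasiCompact g] [QuasiSeparated g] (x y : T ⟶ B)
      (hx : x ≫ φB = g) (hy : y ≫ φB = g)
      (k : (Scheme.Modules.pullback x).obj (Coh.structureModule B) ≅
        (Scheme.Modules.pullback y).obj (Coh.structureModule B)),
      quotAlong _ τ x hx ≫ k.hom = quotAlong _ τ y hy → x = y := by
    intro T g _ _ x y hx hy k hk
    have h2 := congrArg (fun t => (Scheme.Modules.pullback g).map i ≫ t) hk
    simp only [← Category.assoc, ← quotAlong_map] at h2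
    rw [hτi] at h2
    have hk' : k.hom ≫ unitI y = unitI x := by
      haveI : IsIso (quotAlong _ (W φB) x hx) := by
        unfold quotAlong
        infer_instance
      rw [← cancel_epi (quotAlong _ (W φB) x hx), ← Category.assoc, h2]
      exact (hW g y hy).trans (hW g x hx).symm
    refine (hτ T g (formAlong τ x hx) (hτx x hx)).unique ⟨hx, rfl⟩ ⟨hy, ?_⟩
    show quotAlong _ τ y hy ≫ unitI y = quotAlong _ τ x hx ≫ unitI x
    rw [← hk', ← Category.assoc, hk]
  -- the open locus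
  let q₀ : (Scheme.Modules.pullback π).obj (Coh.structureModule X) ⟶ O1 := (Scheme.Modules.pullback π).map i ≫ q
  have hO1 : PicF.IsInvertible O1 := rankOne_iff.1 hP.invertible
  have hF : PicF.IsInvertible ((Scheme.Modules.pullback π).obj (Coh.structureModule X)) :=
    C1.isInvertible_pullback π (hOV X)
  let U : P.Opens := ⟨{y | IsIso ((OX.stalk y).map q₀)}, isOpen_isIso_stalk hF hO1 q₀⟩
  haveI hq0U : IsIso ((Scheme.Modules.pullback U.ι).map q₀) := by
    refine (OX.isIso_iff _).2 fun z => ?_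
    haveI : IsIso ((OX.stalk (U.ι z)).map q₀) := z.2
    exact (NatIso.isIso_map_iff (OX.pullStalkIso U.ι z) q₀).2
      (inferInstanceAs (IsIso ((ModuleCat.extendScalars (U.ι.stalkMap z).hom).map ((OX.stalk (U.ι z)).map q₀))))
  have hrange : ∀ v, ψ v ∈ U := fun v => by
    haveI : IsIso ((Scheme.Modules.pullback ψ).map q₀) := by
      have h : quotAlong _ q₀ ψ hψ ≫ e.hom = W φB := by
        rw [show q₀ = (Scheme.Modules.pullback π).map i ≫ q from rfl, quotAlong_map, Category.assoc, he', hτi]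
      haveI : IsIso (quotAlong _ q₀ ψ hψ ≫ e.hom) := by rw [h]; infer_instance
      haveI : IsIso (quotAlong _ q₀ ψ hψ) := IsIso.of_isIso_comp_right _ e.hom
      unfold quotAlong at this
      exact @IsIso.of_isIso_comp_left _ _ _ _ _
        ((Scheme.Modules.pullbackComp ψ π).inv.app (Coh.structureModule X)) _ _
        (@IsIso.of_isIso_comp_left _ _ _ _ _ ((Scheme.Modules.pullbackCongr hψ).inv.app (Coh.structureModule X)) _ _ this)
    exact FibTriv28.isIso_stalk_of_isIso_pullback' ψ (FinCov.isFinLocFree_of_rank (rankOne_iff.2 hF))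
      (FinCov.isFinLocFree_of_rank hP.invertible) q₀ v
  haveI : QuasiCompact (U.ι ≫ π) := inferInstance
  haveI : QuasiSeparated (U.ι ≫ π) := inferInstance
  let gU := U.ι ≫ π
  haveI hq0' : IsIso (quotAlong _ q₀ U.ι (rfl : U.ι ≫ π = gU)) := by
    unfold quotAlong
    infer_instance
  let u : (Scheme.Modules.pullback gU).obj E ⟶ Coh.structureModule (U : Scheme.{u}) :=
    quotAlong _ q U.ι rfl ≫ inv (quotAlong _ q₀ U.ι (rfl : U.ι ≫ π = gU)) ≫ W gU
  obtain ⟨φ, ⟨hφ, hφu⟩, -⟩ := hτ (U : Scheme.{u}) gU u (by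
    simp only [u]
    rw [← Category.assoc, ← quotAlong_map, IsIso.hom_inv_id_assoc])
  have hφψ : φ ≫ ψ = U.ι := by
    have w : (φ ≫ ψ) ≫ π = gU := by rw [Category.assoc, hψ, hφ]
    obtain ⟨κ, hκ⟩ := key φ hφ w
    let k : (Scheme.Modules.pullback φ).obj (Coh.structureModule B) ≅ (Scheme.Modules.pullback U.ι).obj O1 :=
      asIso (unitI φ) ≪≫ (asIso (W gU)).symm ≪≫ asIso (quotAlong _ q₀ U.ι (rfl : U.ι ≫ π = gU))
    haveI : Epi (quotAlong _ q U.ι (rfl : U.ι ≫ π = gU)) := by
      unfold quotAlong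
      haveI := (Scheme.Modules.pullbackPushforwardAdjunction U.ι).isLeftAdjoint
      infer_instance
    have hk : quotAlong _ q (φ ≫ ψ) w ≫ (κ ≪≫ k).hom = quotAlong _ q U.ι (rfl : U.ι ≫ π = gU) := by
      rw [Iso.trans_hom, ← Category.assoc, hκ]
      simp only [k, Iso.trans_hom, asIso_hom, Iso.symm_hom, asIso_inv, ← Category.assoc]
      rw [show quotAlong _ τ φ hφ ≫ unitI φ = u from hφu]
      simp [u]
    refine (hP.univ (U : Scheme.{u}) gU _ (rankOne_iff.2 (C1.isInvertible_pullback U.ι hO1))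
      (quotAlong _ q U.ι (rfl : U.ι ≫ π = gU)) inferInstance).unique
      ⟨w, κ ≪≫ k, by simpa [quotAlong] using hk⟩ ⟨rfl, Iso.refl _, by simp [quotAlong]⟩
  let ψ' : B ⟶ (U : Scheme.{u}) :=
    IsOpenImmersion.lift U.ι ψ (by rintro _ ⟨v, rfl⟩; rw [Scheme.Opens.range_ι]; exact hrange v)
  have hψ' : ψ' ≫ U.ι = ψ := IsOpenImmersion.lift_fac _ _ _
  have h1 : φ ≫ ψ' = 𝟙 _ := by
    rw [← cancel_mono U.ι, Category.assoc, hψ', hφψ, Category.id_comp]
  have h2 : ψ' ≫ φ = 𝟙 _ := by
    have hg : (ψ' ≫ φ) ≫ φB = φB := by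
      rw [Category.assoc, hφ]
      show ψ' ≫ U.ι ≫ π = φB
      rw [← Category.assoc, hψ', hψ]
    have he2 : (ψ' ≫ φ) ≫ ψ = 𝟙 _ ≫ ψ := by rw [Category.assoc, hφψ, hψ', Category.id_comp]
    have gen : ∀ (a b : B ⟶ B) (ha : a ≫ φB = φB) (hb : b ≫ φB = φB), a ≫ ψ = b ≫ ψ → a = b := by
      intro a b ha hb hab
      have wb : (b ≫ ψ) ≫ π = φB := by rw [Category.assoc, hψ, hb]
      have tr : ∀ (r : B ⟶ P) (er : r = b ≫ ψ) (wr : r ≫ π = φB), ∃ i : (Scheme.Modules.pullback r).obj O1 ≅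
          (Scheme.Modules.pullback (b ≫ ψ)).obj O1, quotAlong _ q r wr ≫ i.hom = quotAlong _ q (b ≫ ψ) wb := by
        rintro r rfl wr
        exact ⟨Iso.refl _, Category.comp_id _⟩
      obtain ⟨κa, hκa⟩ := key a ha (by rw [Category.assoc, hψ, ha])
      obtain ⟨κb, hκb⟩ := key b hb wb
      obtain ⟨i', hi⟩ := tr (a ≫ ψ) hab (by rw [Category.assoc, hψ, ha])
      refine ext_pt a b ha hb (κa.symm ≪≫ i' ≪≫ κb) ?_
      rw [← hκa]
      simp [reassoc_of% hi, hκb]
    exact gen _ _ hg (Category.id_comp _) he2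
  haveI : IsIso ψ' := ⟨φ, h2, h1⟩
  refine ⟨ψ, hψ' ▸ inferInstance, hψ, fun y hy hiso => hy ⟨φ ⟨y, hiso⟩, ?_⟩⟩
  rw [← Scheme.Hom.comp_apply, hφψ]
  rfl

end GrothLib.PBDeg
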