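import Groth.Agent.Lib.C1.Gysin
import Groth.Agent.Lib.C1.OpClass

/-!
# The zero section and first Chern classes
-/

set_option autoImplicit false
universe u

open CategoryTheory AlgebraicGeometry

namespace GrothLib.PBDeg

open GrothLib.C1

variable {X : Scheme.{u}} {L : X.Modules}

theorem isZeroSchemeOf_id_zero (hL : PicF.IsInvertible L) :
    Cyc.IsZeroSchemeOf (𝟙 X) L (0 : L.presheaf.obj (Opposite.op ⊤)) := by
  refine ⟨?_, fun d => ?_⟩
  · rw [show Set.range ⇑(𝟙 X : X ⟶ X) = Set.univ from Set.range_eq_univ.2 fun x => ⟨x, rfl⟩]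
    refine (Set.eq_univ_of_forall fun x => ?_).symm
    show (Submodule.Quotient.mk ((L.presheaf.germ ⊤ x trivial) 0) : Cyc.secFibre L x) = 0
    rw [map_zero, Submodule.Quotient.mk_zero]
  · obtain ⟨t, ht⟩ := exists_gen hL ((𝟙 X : X ⟶ X) d)
    refine ⟨t, 0, Ref1.Gen.span ht, by rw [map_zero, zero_smul], ?_⟩
    rw [Ideal.span_singleton_eq_bot.2 rfl, RingHom.ker_eq_bot_iff_eq_zero]
    intro a ha
    rw [Scheme.Hom.stalkMap_id] at ha
    exact ha

theorem gysinChoice_zero (w : (ξ : X) → Cyc.secFibre L ξ) :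
    Cyc.gysinChoice L (0 : L.presheaf.obj (Opposite.op ⊤)) w = w := funext fun ξ => by
  rw [Cyc.gysinChoice, map_zero, Submodule.Quotient.mk_zero, if_neg fun h => h rfl]

end GrothLib.PBDeg
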